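import Cfsg.Agent.Lib.Classical.UnitaryDecompMax.Apply

set_option autoImplicit false
set_option linter.unusedSectionVars false

/-!
Stabilisers of orthogonal decompositions in special unitary groups of dimension at least four.
-/

namespace CfsgLib.Classical.HermFour

open Matrix Cfsg CfsgLib.Classical.Herm CfsgLib.Classical.HermDecompMax
open CfsgLib.ClassicalAut (Unitary.Conj Unitary.space Unitary.herm_apply)

variable {F : Type*} [Field F] [Finite F] {q : ℕ} (K : Unitary.Conj F q) {n t k : ℕ}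

local notation "H" => hermForm n F q
local notation "V" => (Fin n → F)
local notation "G" => SU n F q
local notation "e[" s "]" => (Pi.single s 1 : Fin n → F)

include K

theorem exists_not_bstab_of_four_le (hn : 4 ≤ n) (ht : 2 ≤ t) (hk : 0 < k) (e : Fin n ≃ Fin t × Fin k) :
    ∃ g : G, ¬ BStab e g := by
  classical
  set p₁ := e.symm (⟨0, by omega⟩, ⟨0, hk⟩)
  set p₂ := e.symm (⟨1, by omega⟩, ⟨0, hk⟩)
  have h12 : (e p₁).1 ≠ (e p₂).1 := by simp [p₁, p₂]
  have h12' : p₁ ≠ p₂ := fun h => h12 (by rw [h])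
  obtain ⟨p₀, p₃, h0, h3, h03⟩ := Finset.one_lt_card_iff.1
    (show 1 < (Finset.univ \ ({p₁, p₂} : Finset (Fin n))).card by
      rw [Finset.card_sdiff_of_subset (Finset.subset_univ _), Finset.card_pair h12', Finset.card_univ,
        Fintype.card_fin]
      omega)
  simp only [Finset.mem_sdiff, Finset.mem_univ, true_and, Finset.mem_insert, Finset.mem_singleton, not_or]
    at h0 h3
  obtain ⟨h01, h02⟩ := h0
  obtain ⟨h31, h32⟩ := h3
  replace h01 : p₀ ≠ p₁ := h01
  replace h02 : p₀ ≠ p₂ := h02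
  replace h31 : p₃ ≠ p₁ := h31
  replace h32 : p₃ ≠ p₂ := h32
  obtain ⟨v, hvv, hv0, hv1, hv2⟩ : ∃ v : V, H v v = 0 ∧ v p₀ ≠ 0 ∧ v p₁ ≠ 0 ∧ v p₂ ≠ 0 := by
    by_cases h2 : (2 : F) = 0
    · refine ⟨e[p₀] + e[p₁] + e[p₂] + e[p₃], ?_, by simp [h01, h02, h03],
        by simp [h01.symm, h12', h31.symm], by simp [h02.symm, h12'.symm, h32.symm]⟩
      simp [h_add_left K, h_add_right K, h_single_single K, h01, h02, h03, h01.symm, h02.symm, h03.symm,
        h12', h12'.symm, h31, h31.symm, h32, h32.symm]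
      linear_combination 2 * h2
    · obtain ⟨c, hc⟩ := K.exists_norm (-2) (by rw [map_neg, map_ofNat])
      have hc0 : c ≠ 0 := fun h => h2 (by rw [h, zero_mul] at hc; linear_combination hc)
      refine ⟨e[p₀] + e[p₁] + c • e[p₂], ?_, by simp [h01, h02],
        by simp [h01.symm, h12'], by simp [h02.symm, h12'.symm, hc0]⟩
      simp [h_add_left K, h_add_right K, h_smul_left K, h_smul_right K, h_single_single K, h01, h02,
        h01.symm, h02.symm, h12', h12'.symm]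
      linear_combination hc
  obtain ⟨θ, hθ0, hθ⟩ := exists_skew K
  obtain ⟨T, hT⟩ := exists_T K hvv hθ
  refine ⟨T, fun h => ?_⟩
  obtain ⟨j, hj⟩ := h (e p₀).1
  have h' := hj e[p₀] fun s hs => Pi.single_eq_of_ne (by rintro rfl; exact hs rfl) _
  have hz : ∀ p, p ≠ p₀ → v p ≠ 0 → (e p).1 = j := fun p hp hvp => by
    by_contra hne
    have := h' p hne
    rw [hT.2.2, h_single_left K] at this
    simp [hp, hθ0, hv0, hvp] at this
  exact h12 ((hz p₁ h01.symm hv1).trans (hz p₂ h02.symm hv2).symm)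

theorem std_maximal_of_key (hn : 4 ≤ n) (ht : 2 ≤ t) (hk : 0 < k) (e : Fin n ≃ Fin t × Fin k)
    (hkey : ∀ M : Subgroup G, (∀ g, BStab e g → g ∈ M) → M = ⊤ ∨ ∀ g ∈ M, BStab e g) :
    Cfsg.Geo.IsMaximalIn (GU n F q ⊓ Cfsg.Geo.specialLinear (Fin n) F)
      (Cfsg.Geo.decompositionStabilizer (bsub e F) ⊓ (GU n F q ⊓ Cfsg.Geo.specialLinear (Fin n) F)) := by
  refine ⟨lt_of_le_not_ge inf_le_right fun hle => ?_, fun M hM hM' => ?_⟩
  · obtain ⟨g, hg⟩ := exists_not_bstab_of_four_le (F := F) K hn ht hk e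
    exact hg ((bstab_iff K hk e g).2 (hle ((mem_range_iff _).2 ⟨g, rfl⟩)).1)
  have hS : ∀ g : G, BStab e g → g ∈ M.comap toGLHom := fun g hg =>
    hM ⟨(bstab_iff K hk e g).1 hg, (mem_range_iff _).2 ⟨g, rfl⟩⟩
  have key := hkey _ hS
  rcases key with h | h
  · refine Or.inr (le_antisymm hM' fun g hg => ?_)
    obtain ⟨s, rfl⟩ := (mem_range_iff g).1 hg
    have : s ∈ M.comap toGLHom := h ▸ Subgroup.mem_top s
    exact this
  · refine Or.inl (le_antisymm (fun g hg => ?_) hM)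
    obtain ⟨s, rfl⟩ := (mem_range_iff g).1 (hM' hg)
    exact ⟨(bstab_iff K hk e s).1 (h s hg), (mem_range_iff _).2 ⟨s, rfl⟩⟩

theorem decomposition_maximal_of_key (hn : 4 ≤ n)
    {D : Fin t → Submodule F V}
    (hD : Cfsg.Geo.IsNondegenerateMDecomposition H k D)
    (hkey : ∀ e : Fin n ≃ Fin t × Fin k,
      ∀ M : Subgroup G, (∀ g, BStab e g → g ∈ M) → M = ⊤ ∨ ∀ g ∈ M, BStab e g) :
    Cfsg.Geo.IsMaximalIn (GU n F q ⊓ Cfsg.Geo.specialLinear (Fin n) F)
      (Cfsg.Geo.decompositionStabilizer D ⊓ (GU n F q ⊓ Cfsg.Geo.specialLinear (Fin n) F)) := by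
  obtain ⟨e, B, hB, hmap⟩ := exists_frame K hD
  have hBinv : ∀ i, (D i).map (Matrix.toLin' ((B⁻¹ : GL (Fin n) F) : Matrix (Fin n) (Fin n) F)) =
      bsub e F i := fun i => by
    rw [← hmap i, ← Submodule.map_comp, ← Matrix.toLin'_mul, ← Units.val_mul, inv_mul_cancel, Units.val_one,
      Matrix.toLin'_one, Submodule.map_id]
  have hL : ∀ g ∈ GU n F q ⊓ Cfsg.Geo.specialLinear (Fin n) F, ∀ c ∈ GU n F q,
      c * g * c⁻¹ ∈ GU n F q ⊓ Cfsg.Geo.specialLinear (Fin n) F := fun g hg c hc =>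
    ⟨(GU n F q).mul_mem ((GU n F q).mul_mem hc hg.1) ((GU n F q).inv_mem hc), (MonoidHom.normal_ker _).conj_mem g hg.2 c⟩
  have h := isMaximalIn_map (MulAut.conj B) (std_maximal_of_key K hn hD.decomp.two_le hD.decomp.pos e (hkey e))
  have hK : (GU n F q ⊓ Cfsg.Geo.specialLinear (Fin n) F).map (MulAut.conj B).toMonoidHom =
      GU n F q ⊓ Cfsg.Geo.specialLinear (Fin n) F := by
    refine le_antisymm (Subgroup.map_le_iff_le_comap.2 fun g hg => hL g hg B hB) fun g hg => ?_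
    exact ⟨B⁻¹ * g * B⁻¹⁻¹, hL g hg B⁻¹ (inv_mem hB), by simp [mul_assoc]⟩
  have hS : (Cfsg.Geo.decompositionStabilizer (bsub e F)).map (MulAut.conj B).toMonoidHom =
      Cfsg.Geo.decompositionStabilizer D := by
    refine le_antisymm (Subgroup.map_le_iff_le_comap.2 fun g hg => mem_decompStab_conj hmap hg) fun g hg => ?_
    exact ⟨B⁻¹ * g * B⁻¹⁻¹, mem_decompStab_conj hBinv hg, by simp [mul_assoc]⟩
  rwa [Subgroup.map_inf (Cfsg.Geo.decompositionStabilizer (bsub e F))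
    (GU n F q ⊓ Cfsg.Geo.specialLinear (Fin n) F) _ (MulAut.conj B).injective, hK, hS] at h

end CfsgLib.Classical.HermFour
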