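import Cfsg.Agent.Lib.Classical.UnitaryDecompMax.SixFull

set_option autoImplicit false
set_option linter.unusedSectionVars false

/-!
A single transvection together with the monomial subgroup gives all transvections of its centre; products
of two quasi-reflections in a plane give a transvection.
-/

namespace CfsgLib.Classical.HermFour

open Matrix Cfsg CfsgLib.Classical.Herm CfsgLib.Classical.HermDecompMax
open CfsgLib.ClassicalAut (Unitary.Conj Unitary.space Unitary.herm_apply Unitary.normOne Unitary.mem_normOne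
  Unitary.card_normOne Unitary.closure_eq_top)

variable {F : Type*} [Field F] [Finite F] {q : ℕ} (K : Unitary.Conj F q) {n : ℕ}

local notation "H" => hermForm n F q
local notation "V" => (Fin n → F)
local notation "G" => SU n F q
local notation "e[" s "]" => (Pi.single s 1 : Fin n → F)

variable {M : Subgroup (SU n F q)}

include K

/-- An additive condition holding for all `z - 1`, `z` of norm one, holds everywhere. -/
theorem sub_one_induction {P : F → Prop} (hadd : ∀ a b, P a → P b → P (a + b))
    (hneg : ∀ a, P a → P (-a)) (hz : ∀ z, Circ K z → P (z - 1)) (x : F) : P x := by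
  obtain ⟨z₀, hz₀, hz₁⟩ := exists_circ_ne_one K
  have h0 : P 0 := by simpa using hz 1 (circ_one K)
  have key : ∀ y : F, P (y * (z₀ - 1)) := by
    intro y
    have hmem : y ∈ AddSubgroup.closure {a : F | ∃ u ∈ Unitary.normOne K, (u : F) = a} := by
      rw [Unitary.closure_eq_top K (Unitary.normOne K) (by rw [Unitary.card_normOne K]; omega)]
      trivial
    induction hmem using AddSubgroup.closure_induction with
    | mem a ha =>
      obtain ⟨u, hu, rfl⟩ := ha
      have hu' : Circ K (u : F) := (Unitary.mem_normOne K).1 hu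
      rw [show (u : F) * (z₀ - 1) = ((u : F) * z₀ - 1) + -((u : F) - 1) by ring]
      exact hadd _ _ (hz _ (hu'.mul hz₀)) (hneg _ (hz _ hu'))
    | zero => rwa [zero_mul]
    | add a b _ _ ha hb => rw [add_mul]; exact hadd _ _ ha hb
    | neg a _ ha => rw [neg_mul]; exact hneg _ ha
  have := key (x / (z₀ - 1))
  rwa [div_mul_cancel₀ _ (sub_ne_zero.2 hz₁)] at this

/-- One transvection gives all transvections of its centre. -/
theorem centre_of_T (hM : ∀ g, Mon g → g ∈ M) {t : G} (ht : t ∈ M) {k : V} {c : F} (hT : IsT K t k c)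
    (hc0 : c ≠ 0) {b j : Fin n} (hb : k b = 0) (hj : k j ≠ 0)
    (hjc : (2 : F) ≠ 0 ∨ c * (k j * K.bar (k j)) ≠ 1) : k ∈ centres K M := by
  classical
  obtain ⟨hkk, hc, htx⟩ := hT
  set N := k j * K.bar (k j) with hNdef
  have hN : K.bar N = N := bar_norm K _
  have hN0 : N ≠ 0 := norm_ne_zero K hj
  have hcb : K.bar c = -c := by linear_combination hc
  set d := c * N with hd
  have hd0 : d ≠ 0 := mul_ne_zero hc0 hN0
  have hP : ∀ x : F, ∃ t' ∈ M, ∀ y, app t' y =
      y + (c * (d * (K.bar x - x) + d * d * (x + K.bar x)) * H y k) • k := by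
    refine sub_one_induction K (P := fun x => ∃ t' ∈ M, ∀ y, app t' y =
      y + (c * (d * (K.bar x - x) + d * d * (x + K.bar x)) * H y k) • k) ?_ ?_ ?_
    · rintro a b ⟨t₁, h₁, e₁⟩ ⟨t₂, h₂, e₂⟩
      refine ⟨t₁ * t₂, M.mul_mem h₁ h₂, fun y => ?_⟩
      rw [app_mul, e₁, e₂, h_add_left K, h_smul_left K, hkk, map_add]
      module
    · rintro a ⟨t₁, h₁, e₁⟩
      refine ⟨t₁⁻¹, M.inv_mem h₁, fun y => app_injective t₁ ?_⟩
      rw [app_inv', e₁, h_add_left K, h_smul_left K, hkk, map_neg]
      module
    intro z hz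
    have hz' : z * K.bar z = 1 := hz
    have hmon : ∀ w, Circ K w → ∃ g : G, Mon g ∧ app g k = k + ((w - 1) * k j) • e[j] := by
      intro w hw
      obtain ⟨g, hg, hgx⟩ := exists_mon_off K 1 (Function.update (fun _ => (1 : F)) j w) (fun s => by
        rw [Function.update_apply]; split_ifs <;> first | exact hw | exact circ_one K) b
      refine ⟨g, hg, funext fun s => ?_⟩
      have := hgx k hb s
      rw [Equiv.Perm.one_apply] at this
      rw [this]
      rcases eq_or_ne s j with rfl | hs
      · simp; ring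
      · simp [hs]
    obtain ⟨g, hg, hgk⟩ := hmon z hz
    set h := c * (K.bar z - 1) * N with hh
    have hHk : c * H k (app g k) = h := by
      rw [hgk, h_add_right K, hkk, h_smul_right K, h_single K, map_mul, map_sub, map_one, hh, hNdef]
      ring
    have hhb : K.bar h = -(c * (z - 1) * N) := by
      rw [hh, map_mul, map_mul, map_sub, map_one, K.bar_bar, hN, hcb]; ring
    have hnorm : (1 + h * z) * K.bar (1 + h * z) = (1 + h) * K.bar (1 + h) := by
      rw [map_add, map_add, map_mul, map_one, hhb, hh]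
      linear_combination (-(c * N) * (c * N) * (K.bar z - 1) * (z - 1)) * hz'
    suffices h3 : ∃ t₃ ∈ M, ∀ y, app t₃ y = y + (c * ((1 + h) * K.bar (1 + h)) * H y k) • k by
      obtain ⟨t₃, ht₃, e₃⟩ := h3
      refine ⟨t₃ * t⁻¹, M.mul_mem ht₃ (M.inv_mem ht), fun y => ?_⟩
      obtain ⟨y, rfl⟩ : ∃ y', app t y' = y := ⟨_, app_inv' t y⟩
      rw [app_mul, app_inv, e₃, htx, h_add_left K, h_smul_left K, hkk]
      rw [map_add, map_one, hhb, hh, hd, map_sub, map_one]
      match_scalars
      · ring
      · linear_combination (-(c * c * c * N * N * H y k)) * hz'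
    by_cases h1 : 1 + h = 0
    · exact ⟨1, M.one_mem, fun y => by rw [app_one, h1]; simp⟩
    set w := (1 + h * z) / (1 + h) with hw
    have hwc : Circ K w := by
      unfold Circ
      rw [hw, map_div₀, div_mul_div_comm, hnorm, div_self (mul_ne_zero h1 ((map_ne_zero K.bar).2 h1))]
    obtain ⟨g', hg', hgk'⟩ := hmon w hwc
    have hr : app (g * t * g⁻¹) k = (1 + h) • app g' k := by
      have e : app (g * t * g⁻¹) k = k + (c * H k (app g k)) • app g k :=
        (conj_T K (h := g) ⟨hkk, hc, htx⟩).2.2 k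
      rw [e, hHk, hgk, hgk']
      have e' : (1 + h) * ((w - 1) * k j) = h * (z - 1) * k j := by rw [hw]; field_simp; ring
      rw [smul_add, smul_add, smul_smul (1 + h), e']
      module
    have hm₁ : g * t * g⁻¹ ∈ M := M.mul_mem (M.mul_mem (hM g hg) ht) (M.inv_mem (hM g hg))
    refine ⟨g'⁻¹ * (g * t * g⁻¹ * t * (g * t * g⁻¹)⁻¹) * g',
      M.mul_mem (M.mul_mem (M.inv_mem (hM g' hg')) (M.mul_mem (M.mul_mem hm₁ ht) (M.inv_mem hm₁)))
        (hM g' hg'), fun y => ?_⟩
    rw [app_mul, app_mul (g'⁻¹), (conj_T K (h := g * t * g⁻¹) ⟨hkk, hc, htx⟩).2.2, hr, h_smul_right K, h_app,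
      app_add, app_inv, app_smul, app_smul, app_inv, smul_smul]
    congr 2
    ring
  refine ⟨hkk, fun t' c' ht' => ?_⟩
  have hc' : K.bar c' = -c' := by linear_combination ht'.2.1
  obtain ⟨x, hx⟩ : ∃ x : F, c * (d * (K.bar x - x) + d * d * (x + K.bar x)) = c' := by
    by_cases h2 : (2 : F) = 0
    · have hcc : K.bar c = c := by linear_combination hc - c * h2
      have hdd : K.bar d = d := by rw [hd, map_mul, hcc, hN]
      have hd1 : d + d * d ≠ 0 := fun e => (hjc.resolve_left fun hn => hn h2) (by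
        have e' : 1 + d = 0 := (mul_eq_zero.1 (show d * (1 + d) = 0 by linear_combination e)).resolve_left hd0
        show d = 1
        linear_combination e' - h2)
      set τ := c' / (c * (d + d * d)) with hτ
      have hτb : K.bar τ = τ := by
        rw [hτ]
        simp only [map_div₀, map_mul, map_add, hcc, hdd, show K.bar c' = c' by linear_combination hc' - c' * h2]
      obtain ⟨y, hy⟩ := K.exists_trace
      refine ⟨τ * (y / (y + K.bar y)), ?_⟩
      set x := τ * (y / (y + K.bar y)) with hx
      have htr : x + K.bar x = τ := by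
        rw [hx, map_mul, hτb, map_div₀, map_add, K.bar_bar, add_comm (K.bar y) y, ← mul_add, ← add_div,
          div_self hy, mul_one]
      have : c * (d * (K.bar x - x) + d * d * (x + K.bar x)) = c * (d + d * d) * (x + K.bar x) := by
        linear_combination (-(c * d * x)) * h2
      rw [this, htr, hτ, mul_div_cancel₀ _ (mul_ne_zero hc0 hd1)]
    · refine ⟨-c' / (2 * (c * d)), ?_⟩
      have hdb : K.bar d = -d := by rw [hd, map_mul, hcb, hN]; ring
      rw [map_div₀, map_neg, hc', map_mul, map_mul, map_ofNat, hcb, hdb]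
      field_simp
      ring
  obtain ⟨t'', ht'', e⟩ := hP x
  rwa [show t' = t'' from ext_app fun y => by rw [ht'.2.2, e, hx]]

/-- Powers of the scalar of a related vector orthogonal to the coordinate vector. -/
theorem rel_pow {ν : F} (hν : Circ K ν) {u : V} (hu : H u u = 1) {b : Fin n} (hb : u b = 0)
    (h : Rel q M ν u e[b]) (i : ℕ) : Rel q M (ν ^ i) u e[b] := by
  induction i with
  | zero => exact ⟨1, M.one_mem, fun x => by simp [rho, app_one]⟩
  | succ i ih =>
    obtain ⟨g, hg, e⟩ := ih
    obtain ⟨g', hg', e'⟩ := h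
    refine ⟨g * g', M.mul_mem hg hg', fun x => ?_⟩
    rw [app_mul, e, e', pow_succ, mul_inv]
    simp only [rho, h_add_left K, h_smul_left K, h_single K, h_self_single K, hu, h_single_left K, hb,
      map_zero, Pi.single_eq_same, Pi.add_apply, Pi.smul_apply, smul_eq_mul]
    module

/-- The centre and the transvection in the plane of `u` and a coordinate vector. -/
theorem exists_plane_T {u : V} (hu : H u u = 1) {b j : Fin n} (hb : u b = 0) (hjb : j ≠ b)
    (hj : u j ≠ 0) (hN1 : u j * K.bar (u j) ≠ 1) (hM : ∀ g, Mon g → g ∈ M)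
    (hrel : ∀ μ : F, Circ K μ → Rel q M μ u e[b]) :
    ∃ (t : G) (k : V) (c : F) (a : F), t ∈ M ∧ IsT K t k c ∧ c ≠ 0 ∧ a ≠ 0 ∧ k j ≠ 0 ∧ k b = 0 ∧
      ∀ s, s ≠ j → k s = a * u s := by
  classical
  set N := u j * K.bar (u j) with hNdef
  have hM0 : 1 - N ≠ 0 := sub_ne_zero.2 (Ne.symm hN1)
  have hNb : K.bar N = N := bar_norm K _
  obtain ⟨A, B, hA, hB, hA1, hB1, hT0, hT⟩ := exists_phase_pair K (n₁ := N) (n₂ := 1 - N) hNb
    (by rw [map_sub, map_one, hNb]) (norm_ne_zero K hj) hM0 (Or.inl (by simp))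
  have hA0 := hA.ne_zero
  have hB0 := hB.ne_zero
  have S : N * B * (A - 1) ^ 2 + (1 - N) * A * (B - 1) ^ 2 = 0 := by
    simp only [map_add, map_mul, map_sub, map_one, hNb, hA.bar_eq, hB.bar_eq] at hT
    field_simp at hT
    linear_combination hT
  set T₀ := (A - 1) * N + (B - 1) * (1 - N) with hT₀
  have hAB : A ≠ B := fun e => by
    subst e
    exact hA1 (sub_eq_zero.1 (pow_eq_zero_iff two_ne_zero |>.1
      ((mul_eq_zero.1 (show A * (A - 1) ^ 2 = 0 by linear_combination S)).resolve_left hA0)))
  set r := u - u j • e[j] with hr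
  let π : V → V := fun v => v j • e[j] + ((H v u - v j * K.bar (u j)) / (1 - N)) • r
  set k := (B - 1) • e[j] + ((A - B) * K.bar (u j)) • u with hk
  set c := -T₀⁻¹ with hc
  set κ := (A / B)⁻¹ * (A * B)⁻¹ with hκ
  have hkj : k j = T₀ := by simp [hk, hT₀, hNdef]; ring
  have hkb : k b = 0 := by simp [hk, hb, Ne.symm hjb]
  have hHk : ∀ v, H v k = (B⁻¹ - 1) * v j + (A⁻¹ - B⁻¹) * u j * H v u := fun v => by
    rw [hk, h_add_right K, h_smul_right K, h_smul_right K, h_single K, map_sub, map_one, map_mul,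
      map_sub, K.bar_bar, hA.bar_eq, hB.bar_eq]
  have hujj : H e[j] u = K.bar (u j) := h_single_left K u j
  have hbu : H e[b] u = 0 := by rw [h_single_left K, hb, map_zero]
  have hku : H k u = (A - 1) * K.bar (u j) := by
    rw [hk, h_add_left K, h_smul_left K, h_smul_left K, hujj, hu]; ring
  have hkk : H k k = 0 := by
    rw [hHk, hkj, hku, hT₀]
    field_simp
    linear_combination -S - (A - B) * (A - 1) * hNdef * 0
  have hπk : π k = k := by
    simp only [π, hkj, hku]
    rw [hr, hk]
    match_scalars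
    · field_simp
      rw [hT₀, hNdef]; ring
    · field_simp
      rw [hT₀, hNdef]; ring
  have hπH : ∀ v, H (π v) k = H v k := fun v => by
    simp only [π, hr, h_add_left K, h_smul_left K, h_sub_left K, hHk, hu, hujj, Pi.single_eq_same, hb]
    field_simp
    rw [hNdef]; ring
  have hπb : ∀ v, π v b = 0 := fun v => by simp [π, hr, hb, Ne.symm hjb]
  have hπadd : ∀ v w : V, π (v + w) = π v + π w := fun v w => by
    simp only [π, h_add_left K, Pi.add_apply]
    module
  have hπsmul : ∀ (a : F) (v : V), π (a • v) = a • π v := fun a v => by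
    simp only [π, h_smul_left K, Pi.smul_apply, smul_eq_mul]
    module
  have hππ : ∀ v, π (π v) = π v := fun v => by
    simp only [π, hr, h_add_left K, h_smul_left K, h_sub_left K, hu, hujj, Pi.add_apply, Pi.smul_apply,
      Pi.sub_apply, Pi.single_eq_same, smul_eq_mul]
    match_scalars <;> (field_simp; rw [hNdef]; ring)
  have hπeb : π e[b] = 0 := by simp [π, hbu, hjb]
  obtain ⟨g₁, hg₁, e₁⟩ := hrel (A / B) (by rw [div_eq_mul_inv]; exact hA.mul hB.inv)
  obtain ⟨g₂, hg₂, e₂⟩ := rel_single K (hA.mul hB) hM j b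
  have hx : ∀ v, app (g₁ * g₂) v =
      v + (A - 1) • π v + ((κ - 1) * v b) • e[b] + (A * c * H v k) • k := by
    intro v
    rw [app_mul, e₁, e₂]
    simp only [rho, π, hr, h_add_left K, h_smul_left K, h_single K, hujj, hbu, hHk,
      Pi.add_apply, Pi.smul_apply, smul_eq_mul, Pi.single_eq_same, Pi.single_eq_of_ne hjb,
      Pi.single_eq_of_ne (Ne.symm hjb), mul_zero, add_zero, hκ, hc]
    rw [hk]
    match_scalars <;> field_simp
    · ring
    · rw [hT₀, hNdef]
      rw [hNdef] at S
      linear_combination (H v u * u j - v j * (1 - (1 - u j * K.bar (u j)) * B)) * S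
    · rw [hT₀, hNdef]
      rw [hNdef] at S
      linear_combination (-(H v u) + v j * K.bar (u j) * (1 + (A - B) * (1 - u j * K.bar (u j)))) * S
  have hpow : ∀ m : ℕ, ∀ v, app ((g₁ * g₂) ^ m) v =
      v + (A ^ m - 1) • π v + ((κ ^ m - 1) * v b) • e[b] + ((m : F) * A ^ m * c * H v k) • k := by
    intro m
    induction m with
    | zero => intro v; simp [app_one]
    | succ m ih =>
      intro v
      have hw : π (app (g₁ * g₂) v) = A • π v + (A * c * H v k) • k := by
        rw [hx, hπadd, hπadd, hπadd, hπsmul, hπsmul, hπsmul, hππ, hπeb, hπk]; module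
      have hwb : app (g₁ * g₂) v b = κ * v b := by
        rw [hx]; simp [hπb, hkb]; ring
      have hwk : H (app (g₁ * g₂) v) k = A * H v k := by
        rw [hx, h_add_left K, h_add_left K, h_add_left K, h_smul_left K, h_smul_left K, h_smul_left K,
          hπH, hkk, h_single_left K, hkb, map_zero]; ring
      rw [pow_succ, app_mul, ih, hw, hwb, hwk, hx v]
      push_cast
      match_scalars <;> ring
  have hc1 : ∀ z : F, Circ K z → z ^ (q + 1) = 1 := fun z hz => by
    have h := hz
    rw [Circ, K.bar_apply, ← pow_succ'] at h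
    exact h
  have hq1 : ((q + 1 : ℕ) : F) = 1 := by
    cases nonempty_fintype F
    have h := Nat.cast_card_eq_zero F
    rw [← Nat.card_eq_fintype_card, K.card, Nat.cast_pow] at h
    rw [Nat.cast_add, Nat.cast_one, pow_eq_zero_iff two_ne_zero |>.1 h, zero_add]
  have hκc : Circ K κ := by
    rw [hκ, div_eq_mul_inv]; exact (hA.mul hB.inv).inv.mul (hA.mul hB).inv
  refine ⟨(g₁ * g₂) ^ (q + 1), k, c, (A - B) * K.bar (u j), M.pow_mem (M.mul_mem hg₁ hg₂) _,
    ⟨hkk, ?_, fun v => ?_⟩, neg_ne_zero.2 (inv_ne_zero hT0),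
    mul_ne_zero (sub_ne_zero.2 hAB) ((map_ne_zero K.bar).2 hj), hkj ▸ hT0, hkb, fun s hs => ?_⟩
  · rw [hc, map_neg, map_inv₀, show K.bar T₀ = -T₀ by linear_combination hT, inv_neg]; ring
  · rw [hpow, hc1 A hA, hc1 κ hκc, hq1]; simp
  · simp [hk, hs]

end CfsgLib.Classical.HermFour
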