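import Cfsg.Agent.Lib.Classical.SUFour.MonZero
import Cfsg.Agent.Lib.Classical.SUFour.Decomp

set_option autoImplicit false
set_option linter.unusedSectionVars false

/-!
The monomial subgroup of `SU_4(q)` is maximal for `q ≠ 3`.
-/

namespace CfsgLib.Classical.HermFour

open Matrix Cfsg CfsgLib.Classical.Herm CfsgLib.Classical.HermDecompMax
open CfsgLib.ClassicalAut (Unitary.Conj Unitary.space Unitary.herm_apply)

variable {F : Type*} [Field F] [Finite F] {q : ℕ} (K : Unitary.Conj F q)

local notation "H" => hermForm 4 F q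
local notation "V" => (Fin 4 → F)
local notation "G" => SU 4 F q
local notation "e[" s "]" => (Pi.single s 1 : Fin 4 → F)

variable {M : Subgroup (SU 4 F q)}

/-- The double transposition of two pairs. -/
def dperm4 : Equiv.Perm (Fin 4) := Equiv.swap 0 1 * Equiv.swap 2 3

/-- Two pairs of inverse scalars placed through `π`. -/
def pat4 (π : Equiv.Perm (Fin 4)) (a b : F) : V := fun s => ![a, a⁻¹, b, b⁻¹] (π.symm s)

/-- The diagonal elements conjugated by `g` into a monomial one. -/
def Good4 (g : G) (z : V) : Prop :=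
  ∃ d : G, (∀ x s, app d x s = z s * x s) ∧ Mon (g⁻¹ * d * g)

theorem four_back : ∀ σ : Equiv.Perm (Fin 4), ∃ r, σ (σ (σ (σ r))) = r := by
  decide +kernel

include K

theorem circ_pat4 (π : Equiv.Perm (Fin 4)) {a b : F} (ha : Circ K a) (hb : Circ K b) (s : Fin 4) :
    Circ K (pat4 π a b s) := by
  simp only [pat4]
  generalize π.symm s = i
  fin_cases i <;> simp <;> first | exact ha | exact ha.inv | exact hb | exact hb.inv

theorem prod_pat4 (π : Equiv.Perm (Fin 4)) {a b : F} (ha : Circ K a) (hb : Circ K b) :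
    ∏ s, pat4 π a b s = 1 := by
  have e : ∏ s, pat4 π a b s = ∏ i, ![a, a⁻¹, b, b⁻¹] i := Equiv.prod_comp π.symm ![a, a⁻¹, b, b⁻¹]
  rw [e, Fin.prod_univ_four]
  simp [ha.ne_zero, hb.ne_zero]

theorem entry_conj (g d : G) (k l : Fin 4) :
    app (g⁻¹ * d * g) e[k] l = H (app d (app g e[k])) (app g e[l]) := by
  rw [app_mul, app_mul, ← h_single K (app g⁻¹ (app d (app g e[k]))) l, ← h_app g, app_inv']

/-- A good diagonal element is scalar or kills every column in norm. -/
theorem good_cases {g : G} (hfull : ∀ a b, app g e[a] b ≠ 0) {z : V} (hz : Good4 g z) :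
    (∀ s t, z s = z t) ∨
      ((∀ r, ∑ s, z s * (app g e[r] s * K.bar (app g e[r] s)) = 0) ∧ ∑ s, z s = 0) := by
  classical
  obtain ⟨d, hd, hm⟩ := hz
  obtain ⟨σ, c, -, hσ, -⟩ := hm.exists_perm K
  by_cases hfix : ∃ r, σ r = r
  · obtain ⟨r, hr⟩ := hfix
    have e : app d (app g e[r]) = c r • app g e[r] := by
      have h := congrArg (app g) (hσ r)
      rwa [app_mul, app_mul, app_inv', app_smul, hr] at h
    have key : ∀ s, z s = c r := fun s => by
      have h := congrFun e s
      rw [hd, Pi.smul_apply, smul_eq_mul] at h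
      exact mul_right_cancel₀ (hfull r s) h
    exact Or.inl fun s t => (key s).trans (key t).symm
  push Not at hfix
  have h0 : ∀ r, ∑ s, z s * (app g e[r] s * K.bar (app g e[r] s)) = 0 := fun r => by
    have h := congrFun (hσ r) r
    rw [entry_conj K, Pi.smul_apply, Pi.single_eq_of_ne (hfix r).symm, smul_zero,
      Unitary.herm_apply K] at h
    rw [← h]
    exact Finset.sum_congr rfl fun s _ => by rw [hd]; ring
  refine Or.inr ⟨h0, ?_⟩
  have h1 : ∑ r, ∑ s, z s * (app g e[r] s * K.bar (app g e[r] s)) = 0 :=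
    Finset.sum_eq_zero fun r _ => h0 r
  rw [Finset.sum_comm] at h1
  rw [← h1]
  refine Finset.sum_congr rfl fun s _ => ?_
  rw [← Finset.mul_sum]
  have hw : ∑ r, app g e[r] s * K.bar (app g e[r] s) = 1 := by
    have h := h_app g⁻¹ e[s] e[s]
    rw [h_self_single K, Unitary.herm_apply K] at h
    exact (Finset.sum_congr rfl fun r _ => by rw [entry_swap K, K.bar_bar, mul_comm]).trans h
  rw [hw, mul_one]

/-- The fourth powers of a good diagonal element agree. -/
theorem good_pow_four {g : G} (hfull : ∀ a b, app g e[a] b ≠ 0) {z : V} (hz : Good4 g z) (s t : Fin 4) :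
    z s ^ 4 = z t ^ 4 := by
  obtain ⟨d, hd, hm⟩ := hz
  obtain ⟨σ, c, -, hσ, -⟩ := hm.exists_perm K
  obtain ⟨r, hr⟩ := four_back σ
  have step : ∀ r, app d (app g e[r]) = c r • app g e[σ r] := fun r => by
    have h := congrArg (app g) (hσ r)
    rwa [app_mul, app_mul, app_inv', app_smul] at h
  have e : app d (app d (app d (app d (app g e[r])))) =
      (c r * (c (σ r) * (c (σ (σ r)) * c (σ (σ (σ r)))))) • app g e[r] := by
    simp only [step, app_smul, hr, smul_smul]
    congr 1
    ring
  have key : ∀ s, z s ^ 4 = c r * (c (σ r) * (c (σ (σ r)) * c (σ (σ (σ r))))) := fun s => by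
    have h := congrFun e s
    rw [hd, hd, hd, hd, Pi.smul_apply, smul_eq_mul] at h
    exact mul_right_cancel₀ (hfull r s) (by linear_combination h)
  rw [key, key]

/-- A phase pattern killing an entry of the conjugate is good. -/
theorem good_of_zero (hq : 4 ≤ q) (hM : ∀ g, Mon g → g ∈ M) (htop : M ≠ ⊤) {g : G} (hg : g ∈ M)
    {z : V} (hz : ∀ s, Circ K (z s)) (hp : ∏ s, z s = 1) {k l : Fin 4}
    (h0 : ∑ s, z s * (app g e[k] s * K.bar (app g e[l] s)) = 0) : Good4 g z := by
  obtain ⟨d, hdm, hd⟩ := exists_mon K 1 z hz (by simp [hp])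
  refine ⟨d, fun x s => hd x s, by_contra fun hc => htop ?_⟩
  refine top_of_zero_four K hq rfl hM (M.mul_mem (M.mul_mem (M.inv_mem hg) (hM d hdm)) hg) hc
    (k := k) (m := l) ?_
  rw [entry_conj K, Unitary.herm_apply K, ← h0]
  exact Finset.sum_congr rfl fun s _ => by rw [show app d (app g e[k]) s = z s * app g e[k] s from hd _ s]; ring

/-- A good sign pattern for each pairing, and even characteristic is impossible. -/
theorem good_signs (hq : 4 ≤ q) (hM : ∀ g, Mon g → g ∈ M) (htop : M ≠ ⊤) {g : G} (hg : g ∈ M)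
    (hfull : ∀ a b, app g e[a] b ≠ 0) (π : Equiv.Perm (Fin 4)) :
    (2 : F) ≠ 0 ∧ Good4 g (pat4 π (-1) 1) := by
  classical
  set u := app g e[(0 : Fin 4)] with hu
  obtain ⟨x₀, y₀, hx₀, hy₀, h₀⟩ := exists_trace_pair K (A := u (π 0) * K.bar (u (π 1)))
    (B := u (π 2) * K.bar (u (π 3))) (C := 0) (mul_ne_zero (hfull _ _) ((map_ne_zero K.bar).2 (hfull _ _)))
    (mul_ne_zero (hfull _ _) ((map_ne_zero K.bar).2 (hfull _ _))) (map_zero _)
  rw [add_zero] at h₀
  set τ : Equiv.Perm (Fin 4) := (π.symm.trans dperm4).trans π with hτ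
  have hτπ : ∀ i, τ (π i) = π (dperm4 i) := fun i => by simp [hτ]
  have hsign : Equiv.Perm.sign τ = 1 := by
    have h : Equiv.Perm.sign dperm4 = 1 := by decide
    rw [hτ, Equiv.Perm.sign_trans, Equiv.Perm.sign_trans, Equiv.Perm.sign_symm, h, one_mul,
      Int.units_mul_self]
  have hμ : ∀ x y : F, Circ K x → Circ K y → ∃ μ : G, Mon μ ∧
      (∀ v s, app μ v (τ s) = pat4 π x y s * v s) := fun x y hx hy =>
    exists_mon K τ (pat4 π x y) (circ_pat4 K π hx hy) (by
      rw [hsign, Units.val_one, Int.cast_one, one_mul, prod_pat4 K π hx hy])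
  set A := u (π 0) * K.bar (u (π 1)) * x₀ with hA
  set B := u (π 2) * K.bar (u (π 3)) * y₀ with hB
  have hA0 : A ≠ 0 := mul_ne_zero (mul_ne_zero (hfull _ _) ((map_ne_zero K.bar).2 (hfull _ _))) hx₀.ne_zero
  have hB0 : B ≠ 0 := mul_ne_zero (mul_ne_zero (hfull _ _) ((map_ne_zero K.bar).2 (hfull _ _))) hy₀.ne_zero
  have hμgood : ∀ a b : F, Circ K a → Circ K b → A * a + K.bar (A * a) + (B * b + K.bar (B * b)) = 0 →
      ∃ μ : G, (∀ v s, app μ v (τ s) = pat4 π (x₀ * a) (y₀ * b) s * v s) ∧ Mon (g⁻¹ * μ * g) := by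
    intro a b ha hb h
    obtain ⟨μ, hμm, hμv⟩ := hμ _ _ (hx₀.mul ha) (hy₀.mul hb)
    refine ⟨μ, hμv, by_contra fun hc => htop ?_⟩
    refine top_of_zero_four K hq rfl hM (M.mul_mem (M.mul_mem (M.inv_mem hg) (hM μ hμm)) hg) hc
      (k := 0) (m := 0) ?_
    rw [entry_conj K, ← hu, Unitary.herm_apply K, ← Equiv.sum_comp τ,
      Finset.sum_congr rfl (fun s _ => by rw [hμv]), ← Equiv.sum_comp π, Fin.sum_univ_four]
    simp only [hτπ, pat4, Equiv.symm_apply_apply]
    simp only [hA, hB, map_mul, K.bar_bar, hx₀.bar_eq, hy₀.bar_eq, ha.bar_eq, hb.bar_eq] at h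
    simp [dperm4, Equiv.swap_apply_def, mul_inv]
    linear_combination h
  obtain ⟨μ₀, hμ₀, hm₀⟩ := hμgood 1 1 (circ_one K) (circ_one K) (by
    rw [mul_one, mul_one, hA, hB]; exact h₀)
  have key : ∀ a b : F, Circ K a → Circ K b → A * a + K.bar (A * a) + (B * b + K.bar (B * b)) = 0 →
      Good4 g (pat4 π a b) := by
    intro a b ha hb h
    obtain ⟨μ, hμv, hm⟩ := hμgood a b ha hb h
    refine ⟨μ₀ * μ, fun v s => ?_, ?_⟩
    · obtain ⟨i, rfl⟩ := π.surjective s
      have hdd : ∀ i : Fin 4, dperm4 (dperm4 i) = i := by decide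
      have e1 := hμ₀ (app μ v) (π (dperm4 i))
      rw [hτπ, hdd] at e1
      have e2 := hμv v (π i)
      rw [hτπ] at e2
      rw [app_mul, e1, e2]
      simp only [pat4, Equiv.symm_apply_apply, mul_one]
      have := hx₀.ne_zero
      have := hy₀.ne_zero
      fin_cases i <;> simp [dperm4, Equiv.swap_apply_def, mul_inv] <;> field_simp
    · have := mon_mul hm₀ hm
      rwa [show g⁻¹ * μ₀ * g * (g⁻¹ * μ * g) = g⁻¹ * (μ₀ * μ) * g by group] at this
  have val : ∀ a b i, pat4 π a b (π i) = ![a, a⁻¹, b, (b⁻¹ : F)] i := fun a b i => by simp [pat4]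
  -- the two secants
  set α := K.bar A / A with hα
  set β := K.bar B / B with hβ
  have hphase : ∀ X : F, X ≠ 0 → Circ K (K.bar X / X) := fun X hX => by
    unfold Circ
    rw [map_div₀, K.bar_bar, div_mul_div_cancel₀ hX, div_self ((map_ne_zero K.bar).2 hX)]
  have gα : Good4 g (pat4 π α 1) := key α 1 (hphase A hA0) (circ_one K) (by
    rw [hα, mul_div_cancel₀ _ hA0, K.bar_bar, mul_one]; linear_combination h₀)
  have gβ : Good4 g (pat4 π 1 β) := key 1 β (circ_one K) (hphase B hB0) (by
    rw [hβ, mul_div_cancel₀ _ hB0, K.bar_bar, mul_one]; linear_combination h₀)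
  by_cases h2 : (2 : F) = 0
  · exfalso
    have pow4 : ∀ {a b : F}, Good4 g (pat4 π a b) → a ≠ 0 → b ≠ 0 → (a ^ 4 = b ^ 4 ∧ a ^ 8 = 1) := by
      intro a b h ha hb
      have e1 := good_pow_four K hfull h (π 0) (π 1)
      have e2 := good_pow_four K hfull h (π 0) (π 2)
      rw [val, val] at e1 e2
      simp at e1 e2
      refine ⟨e2, ?_⟩
      field_simp at e1
      linear_combination e1
    have one : ∀ a : F, a ^ 8 = 1 → a = 1 := fun a ha => by
      have : (a - 1) ^ 8 = 0 := by
        linear_combination ha + (-4 * a ^ 7 + 14 * a ^ 6 - 28 * a ^ 5 + 35 * a ^ 4 - 28 * a ^ 3 + 14 * a ^ 2 - 4 * a + 1) * h2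
      exact sub_eq_zero.1 (pow_eq_zero_iff (by norm_num) |>.1 this)
    have hαne := (hphase A hA0).ne_zero
    have hβne := (hphase B hB0).ne_zero
    have eA : K.bar A = A := by
      have := one α (pow4 gα hαne one_ne_zero).2
      rwa [hα, div_eq_one_iff_eq hA0] at this
    have eB : K.bar B = B := by
      obtain ⟨e, e'⟩ := pow4 gβ one_ne_zero hβne
      have := one β (by linear_combination (-(β ^ 4 + 1)) * e)
      rwa [hβ, div_eq_one_iff_eq hB0] at this
    obtain ⟨ν, μ, hν, hμ', hν1, -, -, hh⟩ := exists_phase_pair K (n₁ := A) (n₂ := B) eA eB hA0 hB0 (Or.inr h2)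
    refine hν1 (one ν (pow4 (key ν μ hν hμ' ?_) hν.ne_zero hμ'.ne_zero).2)
    simp only [map_add, map_mul, map_sub, map_one, eA, eB] at hh ⊢
    linear_combination hh + (A + B) * h2
  refine ⟨h2, ?_⟩
  have sign : ∀ a b : F, Good4 g (pat4 π a b) → a ≠ 0 → b ≠ 0 → (a + a⁻¹ + b + b⁻¹ = 0 ∨ (a = a⁻¹ ∧ a = b)) := by
    intro a b h _ _
    rcases good_cases K hfull h with h' | ⟨-, h'⟩
    · have e1 := h' (π 0) (π 1)
      have e2 := h' (π 0) (π 2)
      rw [val, val] at e1 e2
      exact Or.inr ⟨by simpa using e1, by simpa using e2⟩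
    · refine Or.inl ?_
      rw [← Equiv.sum_comp π, Fin.sum_univ_four, val, val, val, val] at h'
      simpa using h'
  have pm : ∀ a : F, a ≠ 0 → (a + a⁻¹ + 1 + 1⁻¹ = 0 ∨ a = 1) → a = -1 ∨ a = 1 := fun a ha h => by
    rcases h with h | h
    · left
      field_simp at h
      exact eq_neg_of_add_eq_zero_left (pow_eq_zero_iff two_ne_zero |>.1
        (show (a + 1) ^ 2 = 0 by linear_combination h))
    · exact Or.inr h
  have hα0 := (hphase A hA0).ne_zero
  have hβ0 := (hphase B hB0).ne_zero
  rcases pm α hα0 ((sign α 1 gα hα0 one_ne_zero).imp id And.right) with e | e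
  · rwa [e] at gα
  exfalso
  have eA : K.bar A = A := by rwa [hα, div_eq_one_iff_eq hA0] at e
  have sβ := sign 1 β gβ one_ne_zero hβ0
  rcases pm β hβ0 (sβ.imp (fun h => by linear_combination h) (fun h => h.2.symm)) with e' | e'
  · have eB : K.bar B = -B := by rw [hβ, div_eq_iff hB0] at e'; linear_combination e'
    exact mul_ne_zero h2 hA0 (by linear_combination h₀ - eA - eB)
  have eB : K.bar B = B := by rwa [hβ, div_eq_one_iff_eq hB0] at e'
  obtain ⟨ζ, hζ, ho⟩ := exists_circ_gen K
  have hpow : ∀ i, 1 ≤ i → i ≤ 4 → ζ ^ i ≠ 1 := fun i h1 h4 e => by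
    have := Nat.le_of_dvd h1 (orderOf_dvd_of_pow_eq_one e)
    omega
  have hBA : B = -A := mul_left_cancel₀ h2 (by linear_combination h₀ - eA - eB)
  have hζ0 := hζ.ne_zero
  have h := key ζ ζ hζ hζ (by rw [hBA, neg_mul, map_neg]; ring)
  rcases sign ζ ζ h hζ0 hζ0 with h' | ⟨h', -⟩
  · have h'' : ζ + ζ⁻¹ = 0 := mul_left_cancel₀ h2 (by rw [mul_zero]; linear_combination h')
    field_simp at h''
    exact hpow 4 (by omega) le_rfl (by linear_combination (ζ ^ 2 - 1) * h'')
  · field_simp at h'
    exact hpow 2 (by omega) (by omega) (by linear_combination h')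

/-- No element has all entries non-zero. -/
theorem top_of_full_four (hq : 4 ≤ q) (hM : ∀ g, Mon g → g ∈ M) {g : G} (hg : g ∈ M)
    (hfull : ∀ a b, app g e[a] b ≠ 0) : M = ⊤ := by
  classical
  by_contra htop
  obtain ⟨h2, g₁⟩ := good_signs K hq hM htop hg hfull (Equiv.refl (Fin 4))
  obtain ⟨-, g₂⟩ := good_signs K hq hM htop hg hfull (Equiv.swap 1 2)
  have hne : (-1 : F) ≠ 1 := fun e => h2 (by linear_combination -e)
  set N : Fin 4 → F := fun s => app g e[(0 : Fin 4)] s * K.bar (app g e[(0 : Fin 4)] s) with hN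
  have col : ∀ π : Equiv.Perm (Fin 4), Good4 g (pat4 π (-1) (1 : F)) →
      ∑ s, pat4 π (-1) (1 : F) s * N s = 0 := fun π hπ => by
    rcases good_cases K hfull hπ with h | ⟨h, -⟩
    · have := h (π 0) (π 2); simp [pat4] at this; exact absurd this hne
    · exact h 0
  have e1 := col _ g₁
  have e2 := col _ g₂
  simp [Fin.sum_univ_four, pat4, Equiv.swap_apply_def] at e1 e2
  have e03 : N 0 = N 3 := mul_left_cancel₀ h2 (by linear_combination -e1 - e2)
  have e12 : N 1 = N 2 := mul_left_cancel₀ h2 (by linear_combination -e1 + e2)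
  obtain ⟨d₁, hd₁, hm₁⟩ := g₁
  obtain ⟨σ, c, hc, hσ, -⟩ := hm₁.exists_perm K
  obtain ⟨l, c₀, hc₀, hl⟩ : ∃ l c₀, Circ K c₀ ∧ app d₁ (app g e[(0 : Fin 4)]) = c₀ • app g e[l] := by
    refine ⟨σ 0, c 0, hc 0, ?_⟩
    have h := congrArg (app g) (hσ 0)
    rwa [app_mul, app_mul, app_inv', app_smul] at h
  obtain ⟨ζ, hζ, ho⟩ := exists_circ_gen K
  have hpow : ∀ i, 1 ≤ i → i ≤ 4 → ζ ^ i ≠ 1 := fun i h1 h4 e => by
    have := Nat.le_of_dvd h1 (orderOf_dvd_of_pow_eq_one e)
    omega
  set z : V := ![ζ, ζ⁻¹, ζ⁻¹, ζ]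
  have hgood : Good4 g z := by
    refine good_of_zero K hq hM htop hg (z := z) (fun s => ?_) ?_ (k := 0) (l := l) ?_
    · fin_cases s <;> simp [z] <;> first | exact hζ | exact hζ.inv
    · simp [z, Fin.prod_univ_four, hζ.ne_zero]
    refine (mul_eq_zero.1 (show K.bar c₀ * _ = 0 from ?_)).resolve_left ((map_ne_zero K.bar).2 hc₀.ne_zero)
    rw [Finset.mul_sum]
    have hs : ∀ s, K.bar c₀ * (z s * (app g e[(0 : Fin 4)] s * K.bar (app g e[l] s))) =
        z s * (K.bar (pat4 (Equiv.refl (Fin 4)) (-1) (1 : F) s) * N s) := fun s => by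
      have h := congrArg K.bar (congrFun hl s)
      rw [hd₁, map_mul, Pi.smul_apply, smul_eq_mul, map_mul] at h
      simp only [hN]
      linear_combination (-(z s * app g e[(0 : Fin 4)] s)) * h
    simp only [hs]
    simp [Fin.sum_univ_four, pat4, z]
    linear_combination (-ζ) * e03 - ζ⁻¹ * e12
  have hζ0 := hζ.ne_zero
  rcases good_cases K hfull hgood with h | ⟨-, h⟩
  · have h' := h 0 1
    simp [z] at h'
    field_simp at h'
    exact hpow 2 (by omega) (by omega) (by linear_combination h')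
  · simp [z, Fin.sum_univ_four] at h
    have h' : ζ + ζ⁻¹ = 0 := mul_left_cancel₀ h2 (by rw [mul_zero]; linear_combination h)
    field_simp at h'
    exact hpow 4 (by omega) le_rfl (by linear_combination (ζ ^ 2 - 1) * h')

/-- Two elements: a non-monomial element makes a four-term centre. -/
theorem top_of_not_mon_two (hq : q = 2) (hM : ∀ g, Mon g → g ∈ M) {g : G} (hg : g ∈ M) (hgm : ¬ Mon g) :
    M = ⊤ := by
  classical
  have h2 := two_eq_zero K hq
  obtain ⟨ω, hω, hω3⟩ := exists_omega K hq
  have hω0 : ω ≠ 0 := fun e => by simp [e] at hω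
  have hω1 : ω ≠ 1 := fun e => by rw [e] at hω; exact one_ne_zero (α := F) (by linear_combination hω - h2)
  have two : ∀ u : V, H u u = 0 → (supp u).card ≤ 2 → u ∈ centres K M := by
    intro u hu hc
    obtain ⟨m, hm⟩ := card_even K hq hu
    obtain h0 | h0 : (supp u).card = 0 ∨ (supp u).card = 2 := by omega
    · rw [show u = 0 from funext fun s => notMem_supp.1 (by simp [Finset.card_eq_zero.1 h0])]
      exact zero_mem_centres K
    obtain ⟨i, l, hil, hil'⟩ := Finset.card_eq_two.1 h0
    refine ⟨hu, fun t' c ht' => hM _ ?_⟩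
    by_cases hc0 : c = 0
    · intro s
      exact ⟨s, 1, by rw [ht'.2.2, hc0, zero_mul, zero_smul, add_zero, one_smul]⟩
    refine mon_of_T K ht' (i := i) (l := l)
      (fun s hs hs' => notMem_supp.1 (by rw [hil']; simp [hs, hs'])) h2 ?_ ?_
    all_goals
      rw [norm_two K hq (mem_supp.1 (by rw [hil']; simp)), mul_one]
      have hcc : K.bar c = c := by linear_combination ht'.2.1 - c * h2
      have := norm_two K hq hc0
      rw [hcc] at this
      exact (mul_self_eq_one_iff.1 this).elim id fun e => e.trans (by linear_combination -h2)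
  -- a four-term centre
  obtain ⟨w, hw, hw4⟩ : ∃ w ∈ centres K M, (supp w).card = 4 := by
    by_contra hc
    push Not at hc
    obtain ⟨a, ha⟩ := not_forall.1 hgm
    set u := app g e[a] with hu
    have hu2 : 2 ≤ (supp u).card := two_le_supp K (app_single_ne_zero K g a) ha
    have hu3 : (supp u).card = 3 := by
      have h1 : H u u = 1 := by rw [hu, h_app, h_self_single K]
      rw [sum_norm K, Finset.sum_congr rfl (fun s hs => norm_two K hq (mem_supp.1 hs)), Finset.sum_const,
        nsmul_one] at h1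
      have h4 : (supp u).card ≤ 4 := (Finset.card_le_univ _).trans_eq (Fintype.card_fin 4)
      rcases (show (supp u).card = 2 ∨ (supp u).card = 3 ∨ (supp u).card = 4 by omega) with e | e | e
      · rw [e] at h1; push_cast at h1; exact absurd (show (1 : F) = 0 by linear_combination -h1 + h2) one_ne_zero
      · exact e
      · rw [e] at h1; push_cast at h1
        exact absurd (show (1 : F) = 0 by linear_combination -h1 + 2 * h2) one_ne_zero
    obtain ⟨r, hr⟩ := Finset.card_pos.1 (show 0 < (Finset.univ \ supp u).card by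
      rw [Finset.card_sdiff_of_subset (Finset.subset_univ _), Finset.card_univ, Fintype.card_fin]; omega)
    rw [Finset.mem_sdiff, notMem_supp] at hr
    obtain ⟨b, hb⟩ : ∃ b, app g e[b] r ≠ 0 := by
      by_contra hb
      push Not at hb
      have h1 := h_app g⁻¹ e[r] e[r]
      rw [h_self_single K, Unitary.herm_apply K, Finset.sum_eq_zero (fun s _ => by
        rw [entry_swap K, hb, map_zero, zero_mul])] at h1
      exact zero_ne_one h1
    have hba : b ≠ a := fun e => hb (e ▸ hr.2)
    set v := app g e[b] with hv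
    have hsmall : ∀ z : F, z ≠ 0 → (supp (u + z • v)).card ≤ 2 := by
      intro z hz
      have hiso : H (e[a] + z • e[b]) (e[a] + z • e[b]) = 0 := by
        simp [h_add_left K, h_add_right K, h_smul_left K, h_smul_right K, h_single_single K, hba, hba.symm]
        linear_combination norm_two K hq hz + h2
      have hmem := app_mem_centres K hg (two _ hiso (by
        refine (Finset.card_le_card (t := {a, b}) fun s hs => ?_).trans Finset.card_le_two
        by_contra hsc
        simp only [Finset.mem_insert, Finset.mem_singleton, not_or] at hsc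
        simp [mem_supp, hsc.1, hsc.2] at hs))
      rw [app_add, app_smul, ← hu, ← hv] at hmem
      obtain ⟨m, hm⟩ := card_even K hq hmem.1
      have h4 : (supp (u + z • v)).card ≤ 4 := (Finset.card_le_univ _).trans_eq (Fintype.card_fin 4)
      have := hc _ hmem
      omega
    have hzero : ∀ z : F, z ≠ 0 → 2 ≤ ((supp u).filter fun s => (u + z • v) s = 0).card := by
      intro z hz
      have hsub : insert r ((supp u).filter fun s => ¬ (u + z • v) s = 0) ⊆ supp (u + z • v) := by
        intro s hs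
        rw [Finset.mem_insert, Finset.mem_filter] at hs
        rw [mem_supp]
        rcases hs with rfl | hs
        · simp [hr.2, hz, hb]
        · exact hs.2
      have := Finset.card_le_card hsub
      rw [Finset.card_insert_of_notMem (by simp [mem_supp, hr.2])] at this
      have := Finset.card_filter_add_card_filter_not (s := supp u) (fun s => (u + z • v) s = 0)
      have := hsmall z hz
      omega
    obtain ⟨s, hs⟩ : (((supp u).filter fun s => (u + (1 : F) • v) s = 0) ∩
        ((supp u).filter fun s => (u + ω • v) s = 0)).Nonempty := by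
      rw [← Finset.card_pos]
      have h1 := hzero 1 one_ne_zero
      have h2' := hzero ω hω0
      have h3 := Finset.card_union_add_card_inter ((supp u).filter fun s => (u + (1 : F) • v) s = 0)
        ((supp u).filter fun s => (u + ω • v) s = 0)
      have h4 : (((supp u).filter fun s => (u + (1 : F) • v) s = 0) ∪
        ((supp u).filter fun s => (u + ω • v) s = 0)).card ≤ 3 :=
        hu3 ▸ Finset.card_le_card (Finset.union_subset (Finset.filter_subset _ _) (Finset.filter_subset _ _))
      omega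
    simp only [Finset.mem_inter, Finset.mem_filter, mem_supp, Pi.add_apply, Pi.smul_apply, smul_eq_mul] at hs
    obtain ⟨⟨hus, e1⟩, -, e2⟩ := hs
    have : (ω - 1) * v s = 0 := by linear_combination e2 - e1
    rw [(mul_eq_zero.1 this).resolve_left (sub_ne_zero.2 hω1), mul_zero, add_zero] at e1
    exact hus e1
  refine eq_top_of_centres K le_rfl fun x hx => ?_
  obtain ⟨m, hm⟩ := card_even K hq hx
  by_cases hx4 : (supp x).card ≤ 2
  · exact two x hx hx4
  have hxs : ∀ s, x s ≠ 0 := fun s => mem_supp.1 (by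
    have : supp x = Finset.univ := Finset.eq_univ_of_card _ (by
      have := (Finset.card_le_univ (supp x)).trans_eq (Fintype.card_fin 4)
      rw [Fintype.card_fin]; omega)
    rw [this]; exact Finset.mem_univ _)
  have hws : ∀ s, w s ≠ 0 := fun s => mem_supp.1 (by
    rw [Finset.eq_univ_of_card _ (hw4.trans (Fintype.card_fin 4).symm)]; exact Finset.mem_univ _)
  set d := ∏ s, x s / w s with hd
  have hd0 : d ≠ 0 := Finset.prod_ne_zero_iff.2 fun s _ => div_ne_zero (hxs s) (hws s)
  have hd3 : d ^ 3 = 1 := by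
    have := norm_two K hq hd0
    rw [K.bar_apply, hq] at this
    linear_combination this
  obtain ⟨μ, hμ, hμx⟩ := exists_mon K 1 (fun s => x s / (d * w s)) (fun s =>
    norm_two K hq (div_ne_zero (hxs s) (mul_ne_zero hd0 (hws s)))) (by
      rw [Equiv.Perm.sign_one, Units.val_one, Int.cast_one, one_mul,
        Finset.prod_congr rfl (fun s _ => show x s / (d * w s) = x s / w s * d⁻¹ by field_simp),
        Finset.prod_mul_distrib, ← hd, Finset.prod_const, Finset.card_univ, Fintype.card_fin]
      field_simp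
      linear_combination -hd3)
  have e : app μ (d • w) = x := funext fun s => by
    have := hμx (d • w) s
    rw [Equiv.Perm.one_apply] at this
    rw [this, Pi.smul_apply, smul_eq_mul, div_mul_cancel₀ _ (mul_ne_zero hd0 (hws s))]
  exact e ▸ app_mem_centres K (hM μ hμ) (smul_mem_centres K d hw)

theorem top_of_not_mon_four (hq3 : q ≠ 3) (hM : ∀ g, Mon g → g ∈ M) {g : G} (hg : g ∈ M) (hgm : ¬ Mon g) :
    M = ⊤ := by
  rcases eq_or_lt_of_le K.two_le with h | h
  · exact top_of_not_mon_two K h.symm hM hg hgm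
  have hq : 4 ≤ q := by omega
  by_cases hfull : ∀ a b, app g e[a] b ≠ 0
  · exact top_of_full_four K hq hM hg hfull
  · simp only [not_forall, not_ne_iff] at hfull
    obtain ⟨a, b, h0⟩ := hfull
    exact top_of_zero_four K hq rfl hM hg hgm h0

/-- Stabilisers of decompositions into four orthogonal non-degenerate lines are maximal. -/
theorem lines_maximal (hq3 : q ≠ 3) {D : Fin 4 → Submodule F V}
    (hD : Cfsg.Geo.IsNondegenerateMDecomposition H 1 D) :
    Cfsg.Geo.IsMaximalIn (GU 4 F q ⊓ Cfsg.Geo.specialLinear (Fin 4) F)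
      (Cfsg.Geo.decompositionStabilizer D ⊓ (GU 4 F q ⊓ Cfsg.Geo.specialLinear (Fin 4) F)) := by
  refine decomposition_maximal_of_key K le_rfl hD fun e M hM => ?_
  by_cases h : ∀ g ∈ M, Mon g
  · exact Or.inr fun g hg => (mon_iff_bstab K e g).2 (h g hg)
  · push Not at h
    obtain ⟨g, hg, hgm⟩ := h
    exact Or.inl (top_of_not_mon_four K hq3 (fun m hm => hM m ((mon_iff_bstab K e m).2 hm)) hg hgm)

end CfsgLib.Classical.HermFour
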