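import Cfsg.Agent.Lib.Classical.SUFour.MonEngine

set_option autoImplicit false
set_option linter.unusedSectionVars false

/-!
In `SU_4(q)`, `q ≥ 4`, a group containing the monomial subgroup and a non-monomial element with a zero entry
is everything.
-/

namespace CfsgLib.Classical.HermFour

open Matrix Cfsg CfsgLib.Classical.Herm CfsgLib.Classical.HermDecompMax
open CfsgLib.ClassicalAut (Unitary.Conj Unitary.space Unitary.herm_apply)

variable {F : Type*} [Field F] [Finite F] {q : ℕ} (K : Unitary.Conj F q) {n : ℕ}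

local notation "H" => hermForm n F q
local notation "V" => (Fin n → F)
local notation "G" => SU n F q
local notation "e[" s "]" => (Pi.single s 1 : Fin n → F)

variable {M : Subgroup (SU n F q)}

include K

/-- A phase of order `q + 1` generates. -/
theorem eq_pow_of_order {ζ : F} (hζ : Circ K ζ) (ho : orderOf ζ = q + 1) {μ : F} (hμ : Circ K μ) :
    ∃ i : ℕ, μ = ζ ^ i := by
  obtain ⟨i, _, h⟩ := (IsPrimitiveRoot.iff_orderOf.2 ho).eq_pow_of_pow_eq_one (ξ := μ) (by
    have h := hμ
    rw [Circ, K.bar_apply, ← pow_succ'] at h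
    exact h)
  exact ⟨i, h.symm⟩

/-- A non-zero centre with a zero coordinate gives everything. -/
theorem top_of_centre' (hq : 3 ≤ q) (hn : 4 ≤ n) (hM : ∀ g, Mon g → g ∈ M) {k : V}
    (hk : k ∈ centres K M) {s b : Fin n} (hs : k s ≠ 0) (hb : k b = 0) : M = ⊤ := by
  rcases le_or_gt 3 (supp k).card with h3 | h3
  · obtain ⟨w, hw, hw2⟩ := exists_two_term K hM hk h3 hb
    exact top_of_two_term K hq hn hM hw hw2
  refine top_of_two_term K hq hn hM hk (le_antisymm (by omega) (by_contra fun hlt => ?_))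
  have h1 : (supp k).card = 1 := le_antisymm (by omega) (Finset.card_pos.2 ⟨s, mem_supp.2 hs⟩)
  obtain ⟨r, hr⟩ := Finset.card_eq_one.1 h1
  have h0 := hk.1
  rw [sum_norm K, hr, Finset.sum_singleton] at h0
  exact norm_ne_zero K (mem_supp.1 (by rw [hr]; simp)) h0

/-- A related vector which is not an axis and has a zero coordinate. -/
theorem top_of_ax (hq : 3 ≤ q) (hn : n = 4) (hM : ∀ g, Mon g → g ∈ M) {ν : F} (hν : Circ K ν)
    (ho : orderOf ν = q + 1) {u : V} (h : Ax q M ν u) (h2 : 2 ≤ (supp u).card) {b : Fin n}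
    (hb : u b = 0) : M = ⊤ := by
  classical
  have hν2 : ν ^ 2 ≠ 1 := fun e => by
    have := Nat.le_of_dvd two_pos (orderOf_dvd_of_pow_eq_one e)
    omega
  -- three terms
  obtain ⟨u, h, hb, h3⟩ : ∃ u', Ax q M ν u' ∧ u' b = 0 ∧ 3 ≤ (supp u').card := by
    by_cases h3 : 3 ≤ (supp u).card
    · exact ⟨u, h, hb, h3⟩
    obtain ⟨i, l, hil, hs⟩ := Finset.card_eq_two.1 (show (supp u).card = 2 by omega)
    obtain ⟨o, -, ho'⟩ := Finset.exists_mem_notMem_of_card_lt_card (s := insert b (supp u))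
      (t := (Finset.univ : Finset (Fin n))) (by
        rw [Finset.card_univ, Fintype.card_fin]
        have := Finset.card_insert_le b (supp u); omega)
    rw [Finset.mem_insert, not_or, notMem_supp] at ho'
    have hui : u i ≠ 0 := mem_supp.1 (by rw [hs]; simp)
    have hul : u l ≠ 0 := mem_supp.1 (by rw [hs]; simp)
    have hio : i ≠ o := fun e => hui (e ▸ ho'.2)
    obtain ⟨u', h', hb', hlt⟩ := exists_grow_step K hν hν2 hM h hb (Equiv.swap i o)
      (Equiv.swap_apply_of_ne_of_ne (fun e => hui (e ▸ hb)) (Ne.symm ho'.1)) (fun s hs' => by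
        rcases eq_or_ne s i with rfl | hsi
        · exact Or.inr (by rw [Equiv.swap_apply_left]; exact ho'.2)
        · exact Or.inl (Equiv.swap_apply_of_ne_of_ne hsi fun e => mem_supp.1 hs' (e ▸ ho'.2)))
      (fun s => Equiv.swap_apply_self i o s) (i := i) (mem_supp.2 hui)
      (by rw [Equiv.swap_apply_left]; exact hio.symm) (by
        rw [show (supp u).filter (fun s => Equiv.swap i o s ≠ s) = {i} from ?_, Finset.sum_singleton]
        · intro e
          have h1 := norm_eq_one K h.1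
          rw [← sum_supp_norm K, hs, Finset.sum_pair hil, e] at h1
          exact norm_ne_zero K hul (by linear_combination h1)
        · refine Finset.ext fun s => ?_
          rw [Finset.mem_filter, Finset.mem_singleton]
          refine ⟨fun hs' => by_contra fun hsi => hs'.2 (Equiv.swap_apply_of_ne_of_ne hsi fun e =>
            mem_supp.1 hs'.1 (e ▸ ho'.2)), fun e => ?_⟩
          subst e
          exact ⟨mem_supp.2 hui, by rw [Equiv.swap_apply_left]; exact hio.symm⟩)
    exact ⟨u', h', hb', by omega⟩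
  have hsle : (supp u).card ≤ 3 := by
    have : supp u ⊆ Finset.univ.erase b := fun s hs =>
      Finset.mem_erase.2 ⟨fun e => mem_supp.1 hs (e ▸ hb), Finset.mem_univ _⟩
    have := Finset.card_le_card this
    rw [Finset.card_erase_of_mem (Finset.mem_univ _), Finset.card_univ, Fintype.card_fin] at this
    omega
  obtain ⟨j, hj⟩ := Finset.card_pos.1 (show 0 < (supp u).card by omega)
  have hjb : j ≠ b := fun e => mem_supp.1 hj (e ▸ hb)
  obtain ⟨s, hs, hsj⟩ := Finset.exists_mem_ne (show 1 < (supp u).card by omega) j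
  rw [mem_supp] at hj hs
  by_cases hN : u j * K.bar (u j) = 1
  · have hk := centre_of_ax_unit K hν (fun e => hν2 (by rw [e, one_pow])) hM
      (ax_smul K (Circ.inv (hN : Circ K (u j))) h) (j := j) (b := b) hjb
      (by simp [hj]) (by simp [hb])
    refine top_of_centre' K hq (by omega) hM hk (s := s) ?_ (b := b) (by simp [hb, Ne.symm hjb])
    simp [hsj, hs, hj]
  have hrel : ∀ μ : F, Circ K μ → Rel q M μ u e[b] := fun μ hμ => by
    obtain ⟨i, rfl⟩ := eq_pow_of_order K hν ho hμ
    exact rel_pow K hν h.1 hb (h.2 b) i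
  obtain ⟨t, k, c, a, ht, hT, hc, ha, hkj, hkb, hks⟩ := exists_plane_T K h.1 hb hjb hj hN hM hrel
  by_cases hgood : (2 : F) ≠ 0 ∨ ∃ r, k r ≠ 0 ∧ c * (k r * K.bar (k r)) ≠ 1
  · obtain ⟨r, hr, hr'⟩ : ∃ r, k r ≠ 0 ∧ ((2 : F) ≠ 0 ∨ c * (k r * K.bar (k r)) ≠ 1) := by
      rcases hgood with h' | ⟨r, hr, hr'⟩
      · exact ⟨j, hkj, Or.inl h'⟩
      · exact ⟨r, hr, Or.inr hr'⟩
    exact top_of_centre' K hq (by omega) hM (centre_of_T K hM ht hT hc hkb hr hr') (s := j) hkj hkb
  exfalso
  push Not at hgood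
  obtain ⟨h2', hall⟩ := hgood
  have hsupp : supp k = supp u := Finset.ext fun r => by
    rw [mem_supp, mem_supp]
    rcases eq_or_ne r j with rfl | hr
    · exact ⟨fun _ => hj, fun _ => hkj⟩
    · rw [hks r hr]; simp [ha]
  have h0 : c * H k k = 0 := by rw [hT.1, mul_zero]
  rw [sum_norm K, Finset.mul_sum, Finset.sum_congr rfl (fun r hr => hall r (mem_supp.1 hr)),
    Finset.sum_const, hsupp, show (supp u).card = 3 by omega, nsmul_one] at h0
  exact one_ne_zero (α := F) (by push_cast at h0; linear_combination h0 - h2')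

/-- A non-monomial element with an axis column. -/
theorem top_of_axis_four (hq : 3 ≤ q) (hn : n = 4) (hM : ∀ g, Mon g → g ∈ M) {g : G} (hg : g ∈ M)
    (hgm : ¬ Mon g) {a : Fin n} (ha : IsAxis (app g e[a])) : M = ⊤ := by
  obtain ⟨ζ, hζ, ho⟩ := exists_circ_gen K
  obtain ⟨b, l, hb⟩ := ha
  obtain ⟨c, hc⟩ := not_forall.1 hgm
  have hca : c ≠ a := fun e => hc (e ▸ ⟨b, l, hb⟩)
  have hl : Circ K l := by
    have h := h_app g e[a] e[a]
    rw [hb, h_smul_left K, h_smul_right K, h_self_single K, h_self_single K, mul_one] at h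
    exact h
  have h1 := rel_conj K hg (rel_single K hζ hM c a)
  rw [hb] at h1
  have hu : H (app g e[c]) (app g e[c]) = 1 := by rw [h_app, h_self_single K]
  have hA := ax_of_rel K hζ hM hu
    (rel_smul K (circ_one K) hl (u := app g e[c]) (by rwa [one_smul]))
  have hb0 : app g e[c] b = 0 := by
    have h := h_app g e[c] e[a]
    rw [hb, h_smul_right K, h_single K, h_single K e[c] a, Pi.single_eq_of_ne hca.symm] at h
    exact (mul_eq_zero.1 h).resolve_left ((map_ne_zero K.bar).2 hl.ne_zero)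
  exact top_of_ax K hq hn hM hζ ho hA (two_le_supp K (app_single_ne_zero K g c) hc) hb0

/-- A monomial element acting by inverse phases of large order on two orthogonal vectors. -/
theorem axis_of_mon_pair {g : G} (hg : Mon g) {u u' : V} {ζ : F} (hζ : Circ K ζ) (hζ2 : ζ ^ 2 ≠ 1)
    (hζ3 : ζ ^ 3 ≠ 1) (hζ4 : ζ ^ 4 ≠ 1) (hu : H u u = 1) (hu' : H u' u' = 1) (huu' : H u u' = 0)
    (h : ∀ x, app g x = x + ((ζ - 1) * H x u) • u + ((ζ⁻¹ - 1) * H x u') • u') : IsAxis u := by
  classical
  rcases mon_two_eigen_two K hg hζ hζ2 hζ3 hu hu' huu' h with hax | ⟨h2, hsub⟩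
  · exact hax
  by_contra hax
  obtain ⟨o, o', hoo, hs⟩ := Finset.card_eq_two.1 (le_antisymm h2
    (two_le_supp K (ne_zero_of_h K (hu ▸ one_ne_zero : H u u ≠ 0)) hax))
  have hp : u o ≠ 0 := mem_supp.1 (by rw [hs]; simp)
  have hr : u o' ≠ 0 := mem_supp.1 (by rw [hs]; simp)
  have hsum : ∀ x y : V, (∀ s ∉ ({o, o'} : Finset (Fin n)), x s = 0) →
      H x y = x o * K.bar (y o) + x o' * K.bar (y o') := fun x y hx => by
    rw [Unitary.herm_apply K, ← Finset.sum_subset (Finset.subset_univ ({o, o'} : Finset (Fin n)))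
      (fun s _ hs' => by rw [hx s hs', zero_mul]), Finset.sum_pair hoo]
  have z1 : ∀ s ∉ ({o, o'} : Finset (Fin n)), u s = 0 := fun s hs' => notMem_supp.1 (hs ▸ hs')
  have z2 : ∀ s ∉ ({o, o'} : Finset (Fin n)), u' s = 0 := fun s hs' =>
    notMem_supp.1 fun hh => (hs ▸ hs') (hsub hh)
  have E1 := (hsum u u z1).symm.trans hu
  have E2 := (hsum u' u' z2).symm.trans hu'
  have E3 := (hsum u u' z1).symm.trans huu'
  have E3' : K.bar (u o) * u' o + K.bar (u o') * u' o' = 0 := by
    have := congrArg K.bar E3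
    simpa [map_add, map_mul, K.bar_bar] using this
  have hN : u' o * K.bar (u' o) = u o' * K.bar (u o') := by
    linear_combination (-(u' o * K.bar (u' o))) * E1 + (u o' * K.bar (u o')) * E2 +
      (K.bar (u o) * u' o) * E3 - (u o' * K.bar (u' o')) * E3'
  have hP : K.bar (u' o) * u' o' = -(K.bar (u o) * u o') := by
    have hr' : K.bar (u o') ≠ 0 := (map_ne_zero K.bar).2 hr
    refine mul_left_cancel₀ hr' ?_
    linear_combination (K.bar (u' o)) * E3' - (K.bar (u o)) * hN
  obtain ⟨t, l, ht⟩ := hg o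
  have e0 := h e[o]
  rw [ht, h_single_left K, h_single_left K] at e0
  have hco := congrFun e0 o
  have hco' := congrFun e0 o'
  simp only [Pi.add_apply, Pi.smul_apply, smul_eq_mul, Pi.single_eq_same, Pi.single_eq_of_ne hoo.symm,
    zero_add] at hco hco'
  have hne : ζ - ζ⁻¹ ≠ 0 := sub_ne_zero.2 fun e => hζ2 (by rw [sq]; nth_rw 2 [e]; exact mul_inv_cancel₀ hζ.ne_zero)
  rcases eq_or_ne t o' with rfl | hto'
  · rw [Pi.single_eq_of_ne hoo, mul_zero] at hco
    set N := u o * K.bar (u o) with hNdef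
    have e1 : ζ * N + ζ⁻¹ * (1 - N) = 0 := by
      linear_combination -hco - (ζ⁻¹ - 1) * hN - (ζ⁻¹ - 1) * E1
    have e2 := congrArg K.bar e1
    simp only [map_add, map_mul, map_sub, map_one, map_zero, hζ.bar_eq, map_inv₀, inv_inv,
      show K.bar N = N from bar_norm K _] at e2
    have hζ0 := hζ.ne_zero
    field_simp at e1 e2
    exact norm_ne_zero K hp ((mul_eq_zero.1 (show (1 - ζ ^ 4) * N = 0 by
      linear_combination e2 - ζ ^ 2 * e1)).resolve_left (sub_ne_zero.2 fun e => hζ4 e.symm))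
  · rw [Pi.single_eq_of_ne (Ne.symm hto'), mul_zero] at hco'
    exact mul_ne_zero (mul_ne_zero hne ((map_ne_zero K.bar).2 hp)) hr
      (by linear_combination -hco' - (ζ⁻¹ - 1) * hP)

/-- An element with a zero entry. -/
theorem top_of_zero_four (hq : 4 ≤ q) (hn : n = 4) (hM : ∀ g, Mon g → g ∈ M) {g : G} (hg : g ∈ M)
    (hgm : ¬ Mon g) {k m : Fin n} (hm : app g e[k] m = 0) : M = ⊤ := by
  classical
  obtain ⟨ζ, hζ, ho⟩ := exists_circ_gen K
  have hpow : ∀ i, 1 ≤ i → i ≤ 4 → ζ ^ i ≠ 1 := fun i h1 h4 e => by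
    have := Nat.le_of_dvd h1 (orderOf_dvd_of_pow_eq_one e)
    omega
  set v := app g e[k] with hv
  by_cases hax : IsAxis v
  · exact top_of_axis_four K (by omega) hn hM hg hgm hax
  by_cases htwo : ∃ m', m' ≠ m ∧ v m' = 0
  · obtain ⟨m', hne, hm'⟩ := htwo
    obtain ⟨y, hy, hyx⟩ := exists_conj_pair K hM (M.inv_mem hg) hne.symm hζ
    have hyk : app y e[k] = e[k] := by
      rw [hyx, h_single_left K, h_single_left K, entry_swap K, entry_swap K, ← hv, hm, hm']
      simp
    by_cases hym : Mon y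
    · refine top_of_axis_four K (by omega) hn hM (M.inv_mem hg) (not_mon_inv K hgm) (a := m) ?_
      exact axis_of_mon_pair K hym hζ (hpow 2 (by omega) (by omega)) (hpow 3 (by omega) (by omega))
        (hpow 4 (by omega) le_rfl) (by rw [h_app, h_self_single K]) (by rw [h_app, h_self_single K])
        (by rw [h_app, h_single K]; simp [hne]) hyx
    · exact top_of_axis_four K (by omega) hn hM hy hym (a := k) ⟨k, 1, by rw [hyk, one_smul]⟩
  push Not at htwo
  set ν := (ζ ^ n)⁻¹ with hνdef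
  have hν : Circ K ν := (hζ.pow n).inv
  have hν1 : ν ≠ 1 := fun e => hpow n (by omega) (by omega) (inv_eq_one.1 e)
  have hμ : ∀ a : Fin n, ∃ μ : G, Mon μ ∧ ∀ x, app μ x = ζ • rho q ν e[a] x := fun a => by
    obtain ⟨μ, hμ, hμx⟩ := exists_mon K 1 (Function.update (fun _ => ζ) a (ζ * ν)) (fun s => by
      rw [Function.update_apply]; split_ifs <;> first | exact hζ.mul hν | exact hζ) (by
      rw [Equiv.Perm.sign_one, Units.val_one, Int.cast_one, one_mul, Finset.prod_update_of_mem
        (Finset.mem_univ a), Finset.prod_const, Finset.card_sdiff_of_subset (Finset.subset_univ _),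
        Finset.card_univ, Fintype.card_fin, Finset.card_singleton, hνdef, mul_comm ζ, mul_assoc,
        ← pow_succ', Nat.sub_add_cancel (by omega)]
      exact inv_mul_cancel₀ (pow_ne_zero _ hζ.ne_zero))
    refine ⟨μ, hμ, fun x => funext fun s => ?_⟩
    have := hμx x s
    rw [Equiv.Perm.one_apply] at this
    rw [this, rho, h_single K]
    rcases eq_or_ne s a with rfl | hs
    · simp; ring
    · simp [hs]
  obtain ⟨μ, hμm, hμx⟩ := hμ k
  obtain ⟨μ', hμ'm, hμ'x⟩ := hμ m
  obtain ⟨h₀, hh₀, e₀⟩ : Rel q M ν v e[m] := by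
    refine ⟨g * μ * g⁻¹ * μ'⁻¹,
      M.mul_mem (M.mul_mem (M.mul_mem hg (hM μ hμm)) (M.inv_mem hg)) (M.inv_mem (hM μ' hμ'm)), fun x => ?_⟩
    have h1 : app μ'⁻¹ x = ζ⁻¹ • rho q ν⁻¹ e[m] x := app_injective μ' (by
      rw [app_inv', hμ'x, rho_smul_right K, smul_smul, mul_inv_cancel₀ hζ.ne_zero, one_smul,
        rho_inv K hν.ne_zero (h_self_single K m)])
    rw [app_mul, app_mul, app_mul, hμx, app_smul, rho_app K, app_inv', h1, rho_smul_right K,
      smul_smul, mul_inv_cancel₀ hζ.ne_zero, one_smul]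
  -- the new element fixes an axis
  refine top_of_axis_four K (by omega) hn hM hh₀ ?_ (a := m) ⟨m, ν⁻¹, funext fun r => ?_⟩
  · intro hmon
    obtain ⟨s, hs⟩ : ∃ s, s ≠ m := by
      obtain ⟨s, hs⟩ := Finset.card_pos.1 (show 0 < (Finset.univ.erase m).card by
        rw [Finset.card_erase_of_mem (Finset.mem_univ _), Finset.card_univ, Fintype.card_fin]; omega)
      exact ⟨s, Finset.ne_of_mem_erase hs⟩
    obtain ⟨t, l, ht⟩ := hmon s
    obtain ⟨r, hr⟩ := Finset.card_pos.1 (show 0 < (((Finset.univ.erase m).erase s).erase t).card by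
      have h1 := Finset.card_erase_add_one (Finset.mem_univ m)
      have h2 := Finset.pred_card_le_card_erase (s := Finset.univ.erase m) (a := s)
      have h3 := Finset.pred_card_le_card_erase (s := (Finset.univ.erase m).erase s) (a := t)
      rw [Finset.card_univ, Fintype.card_fin] at h1
      omega)
    simp only [Finset.mem_erase] at hr
    obtain ⟨hrt, hrs, hrm, -⟩ := hr
    have := congrFun ((e₀ e[s]).symm.trans ht) r
    simp [rho, h_single K, h_single_left K, hs.symm, hrs, hrt, sub_ne_zero.2 hν1, htwo s hs,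
      htwo r hrm] at this
  · rw [e₀]
    simp [rho, h_single K, h_single_left K, h_smul_left K, h_add_left K, hm]
    rcases eq_or_ne r m with rfl | hr <;> simp [*] <;> ring

end CfsgLib.Classical.HermFour
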