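import Cfsg.Agent.Lib.Classical.UnitaryMax
import Cfsg.Agent.Lib.Classical.UnitaryDecompMax.Local

set_option autoImplicit false

/-!
Stabilisers of anisotropic points in special unitary groups of dimension at least four.
-/

namespace CfsgLib.Classical.HermFour

open Matrix Cfsg CfsgLib.Classical.Herm CfsgLib.Classical.HermDecompMax
open CfsgLib.ClassicalAut (Unitary.Conj Unitary.space)

variable {F : Type*} [Field F] [Finite F] {q : ℕ} (K : Unitary.Conj F q) {n : ℕ}

local notation "H" => hermForm n F q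
local notation "V" => (Fin n → F)
local notation "G" => SU n F q

include K

/-- A non-degenerate line is spanned by each of its non-zero vectors, which are anisotropic. -/
theorem line_facts {W : Submodule F V} (hW : Nondeg (q := q) W) (h1 : Module.finrank F W = 1)
    {a : V} (ha : a ∈ W) (ha0 : a ≠ 0) : (∀ b ∈ W, ∃ t : F, t • a = b) ∧ H a a ≠ 0 := by
  have hgen : ∀ b ∈ W, ∃ t : F, t • a = b := fun b hb => by
    obtain ⟨t, ht⟩ := (finrank_eq_one_iff_of_nonzero' (⟨a, ha⟩ : W) (fun e => ha0 (congrArg Subtype.val e))).1 h1 ⟨b, hb⟩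
    exact ⟨t, congrArg Subtype.val ht⟩
  obtain ⟨y, hy, hay⟩ := hW a ha ha0
  obtain ⟨t, rfl⟩ := hgen y hy
  exact ⟨hgen, fun e => hay (by rw [h_smul_right K, e, mul_zero])⟩

theorem exists_notMem_stab_line (hn : 4 ≤ n) {W : Submodule F V} (hW : Nondeg (q := q) W)
    (h1 : Module.finrank F W = 1) : ∃ g : G, g ∉ stab W := by
  have hd := finrank_orth K hW
  obtain ⟨a, ha, ha0⟩ := Submodule.exists_mem_ne_zero_of_ne_bot (p := W) fun e => by
    rw [e, finrank_bot] at h1; omega
  obtain ⟨-, haa⟩ := line_facts K hW h1 ha ha0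
  obtain ⟨p, hp, -, hpp⟩ :=
    exists_aniso_perp_one K (nondeg_orth K hW) (by omega) (zero_mem (orth K W))
  obtain ⟨t, ht, htt⟩ := exists_scaled K hp hpp (s := -(H a a)) (by rw [map_neg, bar_self K])
  have haz : H a (t • p) = 0 := ht a ha
  have hww : H (a + t • p) (a + t • p) = 0 := by
    rw [h_add_left K, h_add_right K, h_add_right K, haz, h_eq_zero_symm K haz, htt]; ring
  obtain ⟨θ, hθ0, hθ⟩ := exists_skew K
  obtain ⟨g, hg⟩ := exists_T K hww hθ
  refine ⟨g, fun h => haa ?_⟩
  have h' := h a ha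
  rw [hg.2.2, W.add_mem_iff_right ha, h_add_right K, haz, add_zero] at h'
  have h2 := W.smul_mem (θ * H a a)⁻¹ h'
  rw [smul_smul, inv_mul_cancel₀ (mul_ne_zero hθ0 haa), one_smul, W.add_mem_iff_right ha] at h2
  have h0 : t • p = 0 := (Submodule.eq_bot_iff _).1 (isCompl_orth K hW).inf_eq_bot _ ⟨h2, ht⟩
  rw [h0, h_zero_left K] at htt
  exact neg_eq_zero.1 htt.symm

theorem line_le_or_top (hn : 4 ≤ n) {W : Submodule F V} (hW : Nondeg (q := q) W)
    (h1 : Module.finrank F W = 1) (M : Subgroup G) (hM : (stab W : Set G) ⊆ M) :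
    M = ⊤ ∨ (M : Set G) ⊆ stab W := by
  have hd := finrank_orth K hW
  set U := orth K W with hUdef
  have hU : Nondeg (q := q) U := nondeg_orth K hW
  by_cases hR : ∀ g ∈ M, ∀ v ∈ U, H v v = 0 → app g v ∈ U
  · refine Or.inr fun g hg w hw => mem_of_orth_orth K fun v hv => ?_
    have hgU : g ∈ stab U := fun u hu => by
      by_cases huu : H u u = 0
      · exact hR g hg u hu huu
      obtain ⟨p, hp, hpu, hpp⟩ := exists_aniso_perp_one K hU (by omega) hu
      obtain ⟨t, ht, htt⟩ := exists_scaled K hp hpp (s := -(H u u)) (by rw [map_neg, bar_self K])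
      have hut : H u (t • p) = 0 := by rw [h_smul_right K, h_eq_zero_symm K hpu, mul_zero]
      have iso : ∀ ζ : F, Circ K ζ → app g (u + ζ • (t • p)) ∈ U := fun ζ hζ => by
        have hζ' : ζ * K.bar ζ = 1 := hζ
        refine hR g hg _ (U.add_mem hu (U.smul_mem _ ht)) ?_
        simp only [h_add_left K, h_add_right K, h_smul_left K ζ, h_smul_right K ζ, htt, hut,
          h_eq_zero_symm K hut, mul_zero, add_zero, zero_add]
        linear_combination -(H u u) * hζ'
      obtain ⟨ζ, hζ, hζ1⟩ := exists_circ_ne_one K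
      have h1 := iso 1 (circ_one K)
      have h2 := iso ζ hζ
      rw [one_smul] at h1
      have h3 : app g (t • p) ∈ U := by
        have h4 := U.smul_mem (1 - ζ)⁻¹ (U.sub_mem h1 h2)
        rwa [← app_sub, ← app_smul, show (u + t • p) - (u + ζ • (t • p)) = (1 - ζ) • (t • p) by module,
          smul_smul, inv_mul_cancel₀ (sub_ne_zero.2 (Ne.symm hζ1)), one_smul] at h4
      rw [app_add] at h1
      exact (U.add_mem_iff_left h3).1 h1
    obtain ⟨y, hy, hyv⟩ := exists_preimage hgU hv
    rw [← hyv, h_app]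
    exact hy w hw
  left
  push Not at hR
  obtain ⟨g₀, hg₀, v₀, hv₀, hvv₀, hgv⟩ := hR
  have hc : app g₀ v₀ ∈ centres K M :=
    app_mem_centres K hg₀ (mem_centres_of_stab K hM (Or.inr hv₀) hvv₀)
  set v := app g₀ v₀
  obtain ⟨a, ha, hva⟩ := exists_split K hW v
  have ha0 : a ≠ 0 := fun e => hgv (by rw [e, sub_zero] at hva; exact hva)
  obtain ⟨hgen, haa⟩ := line_facts K hW h1 ha ha0
  refine eq_top_of_centres K hn fun x hxx => ?_
  obtain ⟨b, hb, hxb⟩ := exists_split K hW x
  obtain ⟨t, rfl⟩ := hgen b hb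
  rcases eq_or_ne t 0 with rfl | ht
  · rw [zero_smul, sub_zero] at hxb
    exact mem_centres_of_stab K hM (Or.inr hxb) hxx
  set u := v - a with hu
  set u' := t⁻¹ • x - a with hu'
  have hu'U : u' ∈ U := by
    have h := U.smul_mem t⁻¹ hxb
    rwa [smul_sub, smul_smul, inv_mul_cancel₀ ht, one_smul] at h
  have norm : ∀ y : V, H y y = 0 → y - a ∈ U → H (y - a) (y - a) = -(H a a) := fun y hy hyU => by
    have e : H a (y - a) = 0 := hyU a ha
    rw [show y = a + (y - a) from (add_sub_cancel a y).symm, h_add_left K, h_add_right K a,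
      h_add_right K (y - a), e, h_eq_zero_symm K e] at hy
    linear_combination hy
  have hnu : H u u = -(H a a) := norm v hc.1 hva
  have hnu' : H u' u' = -(H a a) := norm _ (by rw [h_smul_left K, h_smul_right K, hxx, mul_zero, mul_zero]) hu'U
  have hne : -(H a a) ≠ 0 := neg_ne_zero.2 haa
  obtain ⟨p, hp, hpu, hpp⟩ := exists_aniso_perp_one K hU (by omega) hu'U
  obtain ⟨g, hgu, hgfix, -⟩ := exists_move K hU hva hu'U (ne_zero_of_h K (hnu.trans_ne hne))
    (ne_zero_of_h K (hnu'.trans_ne hne)) (hnu.trans hnu'.symm) hpp hpu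
  have hfix : ∀ w ∈ W, app g w = w := fun w hw =>
    hgfix w (fun y hy => h_eq_zero_symm K (hy w hw)) (hp w hw)
  have hgs : g ∈ stab W := fun w hw => by rw [hfix w hw]; exact hw
  have h3 := app_mem_centres K (hM hgs) hc
  rw [show v = a + u from (add_sub_cancel a v).symm, app_add, hfix a ha, hgu, hu',
    add_sub_cancel] at h3
  simpa [smul_smul, ht] using smul_mem_centres K t h3

end CfsgLib.Classical.HermFour
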