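import Cfsg.Agent.Lib.Classical.SUFour.OrthRad

set_option autoImplicit false
set_option linter.unusedSectionVars false

/-!
Orthogonal subfield groups are maximal in `SU_4(q)`, `q` odd and at least five.
-/

namespace CfsgLib.Classical.HermFour.OrthSub

open Matrix Cfsg CfsgLib.Classical.Herm CfsgLib.Classical.Herm.OrthSubfield
open CfsgLib.ClassicalAut (Unitary.Conj)

variable {F : Type*} [Field F] [Finite F] {q : ℕ} (K : Unitary.Conj F q)

local notation "H" => hermForm 4 F q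
local notation "V" => (Fin 4 → F)
local notation "G" => SU 4 F q

variable {F₀ : Subfield F} {P : GL (Fin 4) F} {M : Subgroup (SU 4 F q)}
  {Q : QuadraticForm F₀ (Fin 4 → F₀)} (S : Setup (q := q) F₀ P M Q)

include K S

theorem orth_parts {θ : F} (hθ0 : θ ≠ 0) (hθ : θ + K.bar θ = 0) {x y z : V} (hx : x ∈ rat F₀ P)
    (hy : y ∈ rat F₀ P) (hz : z ∈ rat F₀ P) (h : H (x + θ • y) z = 0) : H x z = 0 ∧ H y z = 0 := by
  rw [h_add_left K, h_smul_left K] at h
  exact parts_unique K S hθ0 hθ (vm K S hx hz) (vm K S hy hz) h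

/-- The real and skew parts of an isotropic vector. -/
theorem iso_parts {θ : F} (hθ0 : θ ≠ 0) (hθ : θ + K.bar θ = 0) {b b' : V} (hb : b ∈ rat F₀ P)
    (hb' : b' ∈ rat F₀ P) (h : H (b + θ • b') (b + θ • b') = 0) : H b b = θ ^ 2 * H b' b' := by
  simp only [h_add_left K, h_add_right K, h_smul_left K, h_smul_right K,
    show K.bar θ = -θ by linear_combination hθ, vs K S hb hb'] at h
  linear_combination h

/-- The plane of a non totally singular irrational point is nondegenerate. -/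
theorem det_ne {θ : F} (hθ0 : θ ≠ 0) (hθ : θ + K.bar θ = 0) {b b' : V} (hb : b ∈ rat F₀ P)
    (hb' : b' ∈ rat F₀ P) (hbb : H b b = θ ^ 2 * H b' b') (hne : H b' b' ≠ 0 ∨ H b b' ≠ 0) :
    H b b * H b' b' - H b b' * H b' b ≠ 0 := by
  rw [vs K S hb hb', hbb]
  intro e
  by_cases hD : H b' b' = 0
  · rw [hD] at e
    refine (hne.resolve_left (not_not.2 hD)) (mul_self_eq_zero.1 ?_)
    linear_combination -e
  · have e' : (H b b' / H b' b') * (H b b' / H b' b') = θ * θ := by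
      field_simp
      linear_combination -e
    have hmem : H b b' / H b' b' ∈ F₀ := F₀.div_mem (vm K S hb hb') (vm K S hb' hb')
    rcases mul_self_eq_mul_self_iff.1 e' with e1 | e1
    · exact skew_not_mem K S hθ0 hθ (e1 ▸ hmem)
    · exact skew_not_mem K S hθ0 hθ (by simpa [e1] using F₀.neg_mem hmem)

/-- A non totally singular irrational point takes all values on the orthogonal of a point orthogonal to it. -/
theorem full_of_nondeg {θ : F} (hθ0 : θ ≠ 0) (hθ : θ + K.bar θ = 0) {b b' p : V} (hb : b ∈ rat F₀ P)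
    (hb' : b' ∈ rat F₀ P) (hdet : H b b * H b' b' - H b b' * H b' b ≠ 0) (hbp : H b p = 0)
    (hb'p : H b' p = 0) (a : F) : ∃ r ∈ rat F₀ P, H r p = 0 ∧ H (b + θ • b') r = a := by
  obtain ⟨x, hx, y, hy, rfl⟩ := parts K S hθ0 hθ a
  have hC := vs K S hb hb'
  obtain ⟨Δ, hΔ⟩ : ∃ Δ, Δ = H b b * H b' b' - H b b' * H b' b := ⟨_, rfl⟩
  have hΔF : Δ ∈ F₀ := hΔ ▸ F₀.sub_mem (F₀.mul_mem (vm K S hb hb) (vm K S hb' hb'))
    (F₀.mul_mem (vm K S hb hb') (vm K S hb' hb))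
  rw [← hΔ] at hdet
  obtain ⟨s, hs⟩ : ∃ s, s = (x * H b' b' - y * H b b') / Δ := ⟨_, rfl⟩
  obtain ⟨t, ht⟩ : ∃ t, t = (y * H b b - x * H b b') / Δ := ⟨_, rfl⟩
  have hsF : s ∈ F₀ := hs ▸ F₀.div_mem (F₀.sub_mem (F₀.mul_mem hx (vm K S hb' hb'))
    (F₀.mul_mem hy (vm K S hb hb'))) hΔF
  have htF : t ∈ F₀ := ht ▸ F₀.div_mem (F₀.sub_mem (F₀.mul_mem hy (vm K S hb hb))
    (F₀.mul_mem hx (vm K S hb hb'))) hΔF
  refine ⟨s • b + t • b', add_mem (smul_mem_rat hsF hb) (smul_mem_rat htF hb'), ?_, ?_⟩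
  · rw [h_add_left K, h_smul_left K, h_smul_left K, hbp, hb'p]; ring
  · simp only [h_add_left K, h_add_right K, h_smul_left K, h_smul_right K, fixed K S hsF, fixed K S htF,
      hC]
    rw [hs, ht]
    rw [hC] at hΔ
    field_simp
    rw [hΔ]
    ring

/-- Two orthogonal independent singular vectors give one orthogonal to a given singular vector. -/
theorem exists_orth_sing {s₁ s₂ v : V} (h₁ : s₁ ∈ rat F₀ P) (h₂ : s₂ ∈ rat F₀ P) (hv : v ∈ rat F₀ P)
    (e11 : H s₁ s₁ = 0) (e22 : H s₂ s₂ = 0) (e12 : H s₁ s₂ = 0) (hs₁0 : s₁ ≠ 0)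
    (hind : ∀ k : F, s₂ ≠ k • s₁) :
    ∃ u ∈ rat F₀ P, H u u = 0 ∧ H u v = 0 ∧ ∀ k : F, u ≠ k • v := by
  have e21 := h_eq_zero_symm K e12
  by_cases hh : H s₁ v = 0 ∧ H s₂ v = 0
  · by_cases h : ∀ k : F, s₁ ≠ k • v
    · exact ⟨s₁, h₁, e11, hh.1, h⟩
    · push Not at h
      obtain ⟨k, hk⟩ := h
      refine ⟨s₂, h₂, e22, hh.2, fun l hl => ?_⟩
      have hk0 : k ≠ 0 := fun e => hs₁0 (by rw [hk, e, zero_smul])
      exact hind (l / k) (by rw [hl, hk, smul_smul, div_mul_cancel₀ _ hk0])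
  obtain ⟨u, hu⟩ : ∃ u, u = H s₂ v • s₁ - H s₁ v • s₂ := ⟨_, rfl⟩
  have e1 : H u s₁ = 0 := by rw [hu, h_sub_left K, h_smul_left K, h_smul_left K, e11, e21]; ring
  have e2 : H u s₂ = 0 := by rw [hu, h_sub_left K, h_smul_left K, h_smul_left K, e12, e22]; ring
  refine ⟨u, hu ▸ sub_mem (smul_mem_rat (vm K S h₂ hv) h₁) (smul_mem_rat (vm K S h₁ hv) h₂), ?_, ?_, ?_⟩
  · simp only [hu, h_sub_left K, h_sub_right K, h_smul_left K, h_smul_right K, e11, e22, e12, e21]; ring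
  · rw [hu, h_sub_left K, h_smul_left K, h_smul_left K]; ring
  · intro k hk
    by_cases hk0 : k = 0
    · rw [hk0, zero_smul, hu, sub_eq_zero] at hk
      by_cases h1 : H s₁ v = 0
      · rw [h1, zero_smul, smul_eq_zero] at hk
        exact hh ⟨h1, hk.resolve_right hs₁0⟩
      · exact hind ((H s₁ v)⁻¹ * H s₂ v) (by rw [mul_smul, hk, smul_smul, inv_mul_cancel₀ h1, one_smul])
    · rw [hk, h_smul_left K, mul_eq_zero, or_iff_right hk0] at e1 e2
      exact hh ⟨h_eq_zero_symm K e1, h_eq_zero_symm K e2⟩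

/-- A nondegenerate irrational point with an orthogonal singular pair. -/
theorem eq_top_of_rot {g : G} (hg : g ∈ M) {v₀ u₀ b b' : V} {θ : F} (hθ0 : θ ≠ 0)
    (hθ : θ + K.bar θ = 0) (hv₀ : v₀ ∈ rat F₀ P) (hv₀0 : v₀ ≠ 0) (hv₀v : H v₀ v₀ = 0)
    (hu₀ : u₀ ∈ rat F₀ P) (hu₀u : H u₀ u₀ = 0) (hu₀v : H u₀ v₀ = 0) (hind : ∀ k : F, u₀ ≠ k • v₀)
    (hb : b ∈ rat F₀ P) (hb' : b' ∈ rat F₀ P) (hgv : app g v₀ = b + θ • b')
    (hdet : H b b * H b' b' - H b b' * H b' b ≠ 0)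
    (hno : ∀ p ∈ rat F₀ P, H p p = 0 → H p b = 0 → H p b' = 0 → p = 0) : M = ⊤ := by
  have hθb : K.bar θ = -θ := by linear_combination hθ
  obtain ⟨B, hB⟩ : ∃ B, B = b + θ • b' := ⟨_, rfl⟩
  rw [← hB] at hgv
  have hBB : H B B = 0 := by rw [← hgv, h_app]; exact hv₀v
  have hbb := iso_parts K S hθ0 hθ hb hb' (by rw [← hB]; exact hBB)
  obtain ⟨A, hA⟩ : ∃ A, A = app g u₀ := ⟨_, rfl⟩
  have hAB : H A B = 0 := by rw [hA, ← hgv, h_app]; exact hu₀v
  have hAA : H A A = 0 := by rw [hA, h_app]; exact hu₀u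
  obtain ⟨h, hhe⟩ : ∃ h, h = H A b' := ⟨_, rfl⟩
  have hAb : H A b = θ * h := by
    rw [hB, h_add_right K, h_smul_right K, hθb, ← hhe] at hAB
    linear_combination hAB
  have hC' := vs K S hb hb'
  obtain ⟨Δ, hΔ⟩ : ∃ Δ, Δ = H b b * H b' b' - H b b' * H b' b := ⟨_, rfl⟩
  rw [← hΔ] at hdet
  rw [hC', hbb] at hΔ
  obtain ⟨x, hx⟩ : ∃ x, x = h * (θ * H b' b' - H b b') / Δ := ⟨_, rfl⟩
  obtain ⟨C, hC⟩ : ∃ C, C = A - x • B := ⟨_, rfl⟩
  have hCb : H C b = 0 := by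
    rw [hC, hB]
    simp only [h_sub_left K, h_add_left K, h_smul_left K, hAb, hC', hbb]
    rw [hx]
    field_simp
    rw [hΔ]
    ring
  have hCb' : H C b' = 0 := by
    rw [hC, hB]
    simp only [h_sub_left K, h_add_left K, h_smul_left K, ← hhe]
    rw [hx]
    field_simp
    rw [hΔ]
    ring
  have hC0 : C ≠ 0 := fun e => hind x (app_injective g (by
    rw [app_smul, ← hA, hgv]; exact sub_eq_zero.1 (hC ▸ e)))
  have hCB : H C B = 0 := by
    rw [hC, h_sub_left K, h_smul_left K, hAB, hBB]; ring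
  have hBC := h_eq_zero_symm K hCB
  have hAC : A = C + x • B := by rw [hC]; abel
  have hCC : H C C = 0 := by
    have := hAA
    rw [hAC, h_add_left K, h_add_right K, h_add_right K, h_smul_left K, h_smul_left K, h_smul_right K,
      h_smul_right K, hCB, hBC, hBB] at this
    linear_combination this
  obtain ⟨c₀, hc₀, c₁, hc₁, hCd⟩ := rat_parts (P := P) (parts K S hθ0 hθ) C
  rw [hCd] at hCb hCb' hCC
  obtain ⟨c0b, c1b⟩ := orth_parts K S hθ0 hθ hc₀ hc₁ hb hCb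
  obtain ⟨c0b', c1b'⟩ := orth_parts K S hθ0 hθ hc₀ hc₁ hb' hCb'
  have hcc := iso_parts K S hθ0 hθ hc₀ hc₁ hCC
  obtain ⟨f, hf⟩ : ∃ f, f = H c₁ c₁ := ⟨_, rfl⟩
  have hf0 : f ≠ 0 := by
    intro e
    rw [hf] at e
    have h1 := hno c₁ hc₁ e c1b c1b'
    have h2 := hno c₀ hc₀ (by rw [hcc, e, mul_zero]) c0b c0b'
    exact hC0 (by rw [hCd, h1, h2, smul_zero, add_zero])
  obtain ⟨e₀, he₀⟩ : ∃ e₀, e₀ = H c₀ c₁ := ⟨_, rfl⟩
  have hdet2 : θ ^ 2 * f * f - e₀ * e₀ ≠ 0 := by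
    have := det_ne K S hθ0 hθ hc₀ hc₁ hcc (Or.inl (hf ▸ hf0))
    rwa [hcc, vs K S hc₀ hc₁, ← hf, ← he₀] at this
  obtain ⟨κ, hκ, hκe⟩ : ∃ κ ∈ F₀, e₀ + κ * f ≠ 0 := by
    by_cases h0 : e₀ = 0
    · exact ⟨1, F₀.one_mem, by rw [h0, one_mul, zero_add]; exact hf0⟩
    · exact ⟨0, F₀.zero_mem, by rwa [zero_mul, add_zero]⟩
  obtain ⟨d, hd⟩ : ∃ d, d = c₀ + κ • c₁ := ⟨_, rfl⟩
  have hdR : d ∈ rat F₀ P := hd ▸ add_mem hc₀ (smul_mem_rat hκ hc₁)
  have hdb : H d b = 0 := by rw [hd, h_add_left K, h_smul_left K, c0b, c1b]; ring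
  have hdb' : H d b' = 0 := by rw [hd, h_add_left K, h_smul_left K, c0b', c1b']; ring
  have hdc : H d c₁ = e₀ + κ * f := by rw [hd, h_add_left K, h_smul_left K, ← he₀, ← hf]
  have hdd : H d d ≠ 0 := fun e => hκe (by
    rw [← hdc, hno d hdR e hdb hdb', h_zero_left K])
  obtain ⟨ρ, hρM, hρ⟩ := exists_refl2 K S hc₁ hdR (hf ▸ hf0) hdd
  have hρB : app ρ B = B := by
    rw [hρ, show H B d = 0 by simp [hB, h_add_left K, h_smul_left K, h_eq_zero_symm K hdb, h_eq_zero_symm K hdb']]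
    simp [hB, h_add_left K, h_smul_left K, h_eq_zero_symm K c1b, h_eq_zero_symm K c1b']
  -- the elements with axis `B`
  obtain ⟨k₀, hk₀⟩ := exists_E (K := K) (n := 4) (a := u₀) (b := v₀) (c := 0) (by norm_num) hu₀u
    (h_eq_zero_symm K hu₀v) (by rw [hv₀v, map_zero]; ring)
  have hk₀M := rat_E_mem K S.card S.rational S.le hu₀ hv₀ F₀.zero_mem hk₀
  have hk := isE_conj hk₀ g
  rw [← hA, hgv] at hk
  have hk' := isE_conj hk ρ
  rw [hρB] at hk'
  have hkM : g * k₀ * g⁻¹ ∈ M := M.mul_mem (M.mul_mem hg hk₀M) (M.inv_mem hg)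
  have s1 := isE_swap hk hBB
  have s2 := isE_swap hk' hBB
  have m1 := isE_mul s1 s2
  have m2 := isE_mul s2 s1
  obtain ⟨dT, hdT⟩ : ∃ dT, dT = H A (app ρ A) - H (app ρ A) A := ⟨_, rfl⟩
  obtain ⟨T, hT⟩ := exists_T K hBB (c := dT) (by rw [hdT, map_sub, ← h_swap K, ← h_swap K]; ring)
  have hTM : T ∈ M := by
    have e : T * (ρ * (g * k₀ * g⁻¹) * ρ⁻¹ * (g * k₀ * g⁻¹)) =
        g * k₀ * g⁻¹ * (ρ * (g * k₀ * g⁻¹) * ρ⁻¹) := ext_app fun z => by
      rw [app_mul, hT.2.2, m2.2.2.2, m1.2.2.2, hdT]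
      simp only [h_add_left K, h_sub_left K, h_add_right K, h_smul_left K, hBB,
        ← neg_one_smul F (app ρ A), ← neg_one_smul F A, h_smul_right K, map_neg, map_one, hk.2.1, hk'.2.1,
        h_eq_zero_symm K hk.2.1, h_eq_zero_symm K hk'.2.1]
      module
    rw [eq_mul_inv_of_mul_eq e]
    have hk'M : ρ * (g * k₀ * g⁻¹) * ρ⁻¹ ∈ M := M.mul_mem (M.mul_mem hρM hkM) (M.inv_mem hρM)
    exact M.mul_mem (M.mul_mem hkM hk'M) (M.inv_mem (M.mul_mem hk'M hkM))
  refine eq_top_of_T K S hg hv₀ hv₀0 ?_ (hgv ▸ hT) hTM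
  have hA1 : H A d = H c₀ d + θ * H c₁ d := by
    rw [hAC, hCd, h_add_left K, h_smul_left K, hB]
    simp only [h_add_left K, h_smul_left K, h_eq_zero_symm K hdb, h_eq_zero_symm K hdb']
    ring
  have hA0 : H A c₁ = e₀ + θ * f := by
    rw [hAC, hCd, h_add_left K, h_smul_left K, hB]
    simp only [h_add_left K, h_smul_left K, h_eq_zero_symm K c1b, h_eq_zero_symm K c1b', ← he₀, ← hf]
    ring
  have hA1' : H A d = (θ ^ 2 * f + κ * e₀) + θ * (e₀ + κ * f) := by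
    rw [hA1, hd]
    simp only [h_add_right K, h_smul_right K, fixed K S hκ, vs K S hc₀ hc₁, hcc, ← he₀, ← hf]
  have hddF := fixed K S (vm K S hdR hdR)
  have hfF : K.bar f = f := by rw [hf]; exact bar_self K _
  have he₀F : K.bar e₀ = e₀ := by rw [he₀]; exact fixed K S (vm K S hc₀ hc₁)
  have hbA0 : H c₁ A = e₀ - θ * f := by
    rw [h_swap K A c₁, hA0, map_add, map_mul, he₀F, hfF, hθb]; ring
  have hbA1 : H d A = (θ ^ 2 * f + κ * e₀) - θ * (e₀ + κ * f) := by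
    rw [h_swap K A d, hA1']
    simp only [map_add, map_mul, map_pow, he₀F, hfF, hθb, fixed K S hκ]; ring
  have hbd : K.bar (H d d) = H d d := hddF
  rw [hdT, hρ]
  simp only [h_add_left K, h_add_right K, h_smul_left K, h_smul_right K, map_add, map_mul, map_div₀,
    map_neg, map_ofNat, map_pow, neg_sq, hA0, hA1', hbA0, hbA1, hdc, ← hf, hfF, he₀F, hbd, hθb, hAA, fixed K S hκ]
  intro e0
  have h0 : (8 * θ) * ((e₀ + κ * f) * (θ ^ 2 * f * f - e₀ * e₀)) = 0 := by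
    field_simp at e0
    first
      | linear_combination e0
      | linear_combination -e0
  have h8 : (8 : F) * θ ≠ 0 := mul_ne_zero (by
    rw [show (8 : F) = 2 * 2 * 2 by norm_num]; exact mul_ne_zero (mul_ne_zero S.two S.two) S.two) hθ0
  simp [h8, hκe, hdet2] at h0

/-- No orthogonal singular pair: a reflection pair makes one in the orbit. -/
theorem eq_top_of_minus {g : G} (hg : g ∈ M) {v₀ b b' : V} {θ : F} (hθ0 : θ ≠ 0)
    (hθ : θ + K.bar θ = 0) (hv₀ : v₀ ∈ rat F₀ P) (hv₀0 : v₀ ≠ 0) (hv₀v : H v₀ v₀ = 0)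
    (hb : b ∈ rat F₀ P) (hb' : b' ∈ rat F₀ P) (hgv : app g v₀ = b + θ • b')
    (hout : ∀ c : F, ∀ r ∈ rat F₀ P, app g v₀ ≠ c • r)
    (hne : H b' b' ≠ 0 ∨ H b b' ≠ 0)
    (hno : ∀ p ∈ rat F₀ P, H p p = 0 → H p b = 0 → H p b' = 0 → p = 0)
    (hpair : ∀ s₁ ∈ rat F₀ P, ∀ s₂ ∈ rat F₀ P, H s₁ s₁ = 0 → H s₂ s₂ = 0 → H s₁ s₂ = 0 → s₁ ≠ 0 →
      ∃ k : F, s₂ = k • s₁) : M = ⊤ := by
  have hBB : H (app g v₀) (app g v₀) = 0 := by rw [h_app]; exact hv₀v
  have hbb := iso_parts K S hθ0 hθ hb hb' (by rw [← hgv]; exact hBB)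
  have hdet := det_ne K S hθ0 hθ hb hb' hbb hne
  have hC' := vs K S hb hb'
  obtain ⟨r, hr, rb, rb', rr⟩ := exists_nonsing K S hb hb'
    (hne.elim (fun h => Or.inr (Or.inr h)) fun h => Or.inr (Or.inl h))
  obtain ⟨r₂, hr₂, r₂b, r₂b', r₂r, r₂r₂⟩ := exists_ortho K S hb hb' hr hdet rb rb' rr
  have hrr₂ := h_eq_zero_symm K r₂r
  have hns : ∀ x ∈ F₀, H r r * x ^ 2 + H r₂ r₂ ≠ 0 := fun x hx e => by
    have := hno (x • r + r₂) (add_mem (smul_mem_rat hx hr) hr₂) (by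
      simp only [h_add_left K, h_add_right K, h_smul_left K, h_smul_right K, fixed K S hx, r₂r, hrr₂]
      linear_combination e) (by rw [h_add_left K, h_smul_left K, rb, r₂b]; ring)
      (by rw [h_add_left K, h_smul_left K, rb', r₂b']; ring)
    have h1 := congrArg (fun z => H z r₂) this
    simp [h_add_left K, h_smul_left K, h_zero_left K, hrr₂, r₂r₂] at h1
  -- a singular vector in the plane
  obtain ⟨p, hp, hpp, hp0, s, t, hpst⟩ : ∃ p ∈ rat F₀ P, H p p = 0 ∧ p ≠ 0 ∧ ∃ s t : F,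
      p = s • b + t • b' := by
    by_cases hD : H b' b' = 0
    · refine ⟨b', hb', hD, fun e => ?_, 0, 1, by simp⟩
      exact (hne.resolve_left (not_not.2 hD)) (by rw [e]; exact h_zero_right K b)
    obtain ⟨D, hDe⟩ : ∃ D, D = H b' b' := ⟨_, rfl⟩
    rw [← hDe] at hD
    have hDF : D ∈ F₀ := hDe ▸ vm K S hb' hb'
    obtain ⟨x, hx, y, hy, hxy⟩ := binary K S hθ0 hθ (t := -D) (vm K S hr hr) (vm K S hr₂ hr₂)
      (F₀.neg_mem hDF) rr hns
    obtain ⟨r₃, hr₃d⟩ : ∃ r₃, r₃ = x • r + y • r₂ := ⟨_, rfl⟩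
    have hr₃ : r₃ ∈ rat F₀ P := hr₃d ▸ add_mem (smul_mem_rat hx hr) (smul_mem_rat hy hr₂)
    have r₃b : H r₃ b = 0 := by rw [hr₃d, h_add_left K, h_smul_left K, h_smul_left K, rb, r₂b]; ring
    have r₃b' : H r₃ b' = 0 := by rw [hr₃d, h_add_left K, h_smul_left K, h_smul_left K, rb', r₂b']; ring
    have r₃r₃ : H r₃ r₃ = -D := by
      rw [← hxy, hr₃d]
      simp only [h_add_left K, h_add_right K, h_smul_left K, h_smul_right K, fixed K S hx, fixed K S hy,
        r₂r, hrr₂]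
      ring
    obtain ⟨y₃, hy₃, y₃b, y₃b', y₃r₃, y₃y₃⟩ := exists_ortho K S hb hb' hr₃ hdet r₃b r₃b'
      (by rw [r₃r₃]; exact neg_ne_zero.2 hD)
    have hr₃y₃ := h_eq_zero_symm K y₃r₃
    obtain ⟨k₃, hk₃, ek₃⟩ := nsq K S hθ0 hθ (z := H y₃ y₃ / D) (F₀.div_mem (vm K S hy₃ hy₃) hDF)
      fun x hx e => by
        have hy3D : H y₃ y₃ = x ^ 2 * D := by rw [e, div_mul_cancel₀ _ hD]
        have := hno (x • r₃ + y₃) (add_mem (smul_mem_rat hx hr₃) hy₃) (by
          simp only [h_add_left K, h_add_right K, h_smul_left K, h_smul_right K, fixed K S hx, y₃r₃,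
            hr₃y₃, r₃r₃, hy3D]
          ring) (by rw [h_add_left K, h_smul_left K, r₃b, y₃b]; ring)
          (by rw [h_add_left K, h_smul_left K, r₃b', y₃b']; ring)
        have h1 := congrArg (fun z => H z y₃) this
        simp [h_add_left K, h_smul_left K, h_zero_left K, hr₃y₃, y₃y₃] at h1
    obtain ⟨c, hc⟩ : ∃ c, c = H b b' / D := ⟨_, rfl⟩
    have hcF : c ∈ F₀ := hc ▸ F₀.div_mem (vm K S hb hb') hDF
    obtain ⟨e₂, he₂⟩ : ∃ e₂, e₂ = b - c • b' := ⟨_, rfl⟩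
    have he₂R : e₂ ∈ rat F₀ P := he₂ ▸ sub_mem hb (smul_mem_rat hcF hb')
    have e₂b' : H e₂ b' = 0 := by
      rw [he₂, h_sub_left K, h_smul_left K, hc, ← hDe, div_mul_cancel₀ _ hD, sub_self]
    have hb'e₂ := h_eq_zero_symm K e₂b'
    by_cases hsq : ∃ x ∈ F₀, x ^ 2 = -(H e₂ e₂) / D
    · obtain ⟨x, hx, e⟩ := hsq
      refine ⟨x • b' + e₂, add_mem (smul_mem_rat hx hb') he₂R, ?_, fun e0 => ?_, 1, x - c, by
        rw [he₂]; module⟩
      · simp only [h_add_left K, h_add_right K, h_smul_left K, h_smul_right K, fixed K S hx, e₂b', hb'e₂,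
          ← hDe]
        rw [show x * (x * D) = x ^ 2 * D by ring, e, div_mul_cancel₀ _ hD]
        ring
      · refine hdet ?_
        have h1 := congrArg (fun z => H z b) e0
        have h2 := congrArg (fun z => H z b') e0
        simp only [he₂, h_add_left K, h_sub_left K, h_smul_left K, h_zero_left K, hC'] at h1 h2
        rw [hC']
        linear_combination H b' b' * h1 - H b b' * h2
    push Not at hsq
    obtain ⟨k₁, hk₁, ek₁⟩ := nsq K S hθ0 hθ
      (F₀.div_mem (F₀.neg_mem (vm K S he₂R he₂R)) hDF) hsq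
    have hk₃0 : k₃ ≠ 0 := fun e => y₃y₃ (by
      rw [e, zero_pow two_ne_zero, mul_zero, div_eq_zero_iff, or_iff_left hD] at ek₃; exact ek₃)
    have hk₁0 : k₁ ≠ 0 := fun e => hsq 0 F₀.zero_mem (by
      rw [ek₁, e]; ring)
    have hkF : k₁ / k₃ ∈ F₀ := F₀.div_mem hk₁ hk₃
    have hye : H y₃ e₂ = 0 := by
      rw [he₂, h_sub_right K, h_smul_right K, y₃b, y₃b']; ring
    have hb'y₃ := h_eq_zero_symm K y₃b'
    have hb'r₃ := h_eq_zero_symm K r₃b'
    have hr₃e : H r₃ e₂ = 0 := by rw [he₂, h_sub_right K, h_smul_right K, r₃b, r₃b']; ring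
    have y₃e₂ := h_eq_zero_symm K hye
    obtain ⟨l, hl⟩ := hpair (b' + r₃) (add_mem hb' hr₃) (e₂ + (k₁ / k₃) • y₃)
      (add_mem he₂R (smul_mem_rat hkF hy₃)) (by
        simp only [h_add_left K, h_add_right K, hb'r₃, r₃b', r₃r₃, ← hDe]; ring) (by
        simp only [h_add_left K, h_add_right K, h_smul_left K, h_smul_right K, fixed K S hkF, hye, y₃e₂]
        have e1 : H y₃ y₃ = θ ^ 2 * k₃ ^ 2 * D := by rw [← ek₃, div_mul_cancel₀ _ hD]
        have e2 : H e₂ e₂ = -(θ ^ 2 * k₁ ^ 2 * D) := by rw [← ek₁, div_mul_cancel₀ _ hD, neg_neg]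
        rw [e1, e2]
        field_simp
        ring) (by
        simp only [h_add_left K, h_add_right K, h_smul_right K, hb'e₂, hb'y₃, hr₃e, hr₃y₃]; ring)
      (fun e => hD (by
        have h1 := congrArg (fun z => H z r₃) e
        simpa [h_add_left K, h_zero_left K, hb'r₃, r₃r₃] using h1))
    exfalso
    have h1 := congrArg (fun z => H z r₃) hl
    simp [h_add_left K, h_smul_left K, hb'r₃, r₃r₃, y₃r₃, h_eq_zero_symm K hr₃e, hD] at h1
    rw [h1, zero_smul] at hl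
    have h2 := congrArg (fun z => H z y₃) hl
    simp [h_add_left K, h_smul_left K, h_zero_left K, y₃e₂, y₃y₃, hk₁0, hk₃0] at h2
  -- its partner in the plane
  obtain ⟨f, hf, hff, hpf, s', t', hfst⟩ : ∃ f ∈ rat F₀ P, H f f = 0 ∧ H p f = 1 ∧ ∃ s t : F,
      f = s • b + t • b' := by
    have key : ∀ x ∈ rat F₀ P, H p x ≠ 0 → (∃ s t : F, x = s • b + t • b') →
        ∃ f ∈ rat F₀ P, H f f = 0 ∧ H p f = 1 ∧ ∃ s t : F, f = s • b + t • b' := by
      rintro x hx hpx ⟨s', t', hxst⟩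
      obtain ⟨h, hh⟩ : ∃ h, h = H p x := ⟨_, rfl⟩
      rw [← hh] at hpx
      have hhF : h ∈ F₀ := hh ▸ vm K S hp hx
      obtain ⟨c, hc⟩ : ∃ c, c = H x x / (2 * h * h) := ⟨_, rfl⟩
      have hcF : c ∈ F₀ := hc ▸ F₀.div_mem (vm K S hx hx) (F₀.mul_mem (F₀.mul_mem (two_mem K S) hhF) hhF)
      have hh' : H x p = h := by rw [vs K S hp hx, hh]
      have h2 := S.two
      refine ⟨h⁻¹ • x - c • p, sub_mem (smul_mem_rat (F₀.inv_mem hhF) hx) (smul_mem_rat hcF hp), ?_, ?_,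
        h⁻¹ * s' - c * s, h⁻¹ * t' - c * t, by rw [hxst, hpst]; module⟩
      · simp only [h_sub_left K, h_sub_right K, h_smul_left K, h_smul_right K, fixed K S hcF,
          fixed K S (F₀.inv_mem hhF), hpp, ← hh, hh']
        rw [hc]; field_simp; ring
      · simp only [h_sub_right K, h_smul_right K, fixed K S (F₀.inv_mem hhF), hpp, ← hh]
        field_simp; ring
    by_cases h1 : H p b = 0
    · exact key b' hb' (fun e => hp0 (hno p hp hpp h1 e)) ⟨0, 1, by simp⟩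
    · exact key b hb h1 ⟨1, 0, by simp⟩
  have hfp : H f p = 1 := by rw [vs K S hp hf, hpf]
  have rp : H r p = 0 := by rw [hpst, h_add_right K, h_smul_right K, h_smul_right K, rb, rb']; ring
  have rf : H r f = 0 := by rw [hfst, h_add_right K, h_smul_right K, h_smul_right K, rb, rb']; ring
  have r₂p : H r₂ p = 0 := by rw [hpst, h_add_right K, h_smul_right K, h_smul_right K, r₂b, r₂b']; ring
  have r₂f : H r₂ f = 0 := by rw [hfst, h_add_right K, h_smul_right K, h_smul_right K, r₂b, r₂b']; ring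
  obtain ⟨w, hw⟩ : ∃ w, w = app g v₀ := ⟨_, rfl⟩
  have hwr : H w r = 0 := by
    rw [hw, hgv, h_add_left K, h_smul_left K, h_eq_zero_symm K rb, h_eq_zero_symm K rb']; ring
  have hwr₂ : H w r₂ = 0 := by
    rw [hw, hgv, h_add_left K, h_smul_left K, h_eq_zero_symm K r₂b, h_eq_zero_symm K r₂b']; ring
  have hwd : w = H w f • p + H w p • f := by
    conv_lhs => rw [frame_eq K S hp hf hpp hff hpf rp rf rr r₂p r₂f r₂r r₂r₂ w]
    rw [hwr, hwr₂]
    simp
  obtain ⟨α, hα⟩ : ∃ α, α = H w f := ⟨_, rfl⟩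
  obtain ⟨β, hβ⟩ : ∃ β, β = H w p := ⟨_, rfl⟩
  rw [← hα, ← hβ] at hwd
  have hα0 : α ≠ 0 := fun e => hout β f hf (by rw [← hw, hwd, e]; simp)
  have hβ0 : β ≠ 0 := fun e => hout α p hp (by rw [← hw, hwd, e]; simp)
  obtain ⟨μ, hμ⟩ : ∃ μ, μ = β / α := ⟨_, rfl⟩
  have hμ0 : μ ≠ 0 := hμ ▸ div_ne_zero hβ0 hα0
  have hwμ : w = α • (p + μ • f) := by rw [hwd, hμ, smul_add, smul_smul, mul_div_cancel₀ _ hα0]
  have hμs : μ + K.bar μ = 0 := by
    have e : H w w = 0 := hw ▸ hBB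
    rw [hwμ] at e
    simp only [h_smul_left K, h_smul_right K, h_add_left K, h_add_right K, hpp, hff, hpf, hfp] at e
    refine mul_left_cancel₀ (mul_ne_zero hα0 ((map_ne_zero K.bar).2 hα0)) ?_
    linear_combination e
  have hμb : K.bar μ = -μ := by linear_combination hμs
  have hd2 := sq_skew K S hμs
  obtain ⟨A, hA⟩ : ∃ A, A = H r r := ⟨_, rfl⟩
  obtain ⟨A₂, hA₂⟩ : ∃ A₂, A₂ = H r₂ r₂ := ⟨_, rfl⟩
  have hAF : A ∈ F₀ := hA ▸ vm K S hr hr
  have hA₂F : A₂ ∈ F₀ := hA₂ ▸ vm K S hr₂ hr₂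
  rw [← hA] at rr
  rw [← hA₂] at r₂r₂
  obtain ⟨N, hN⟩ := K.exists_norm (-A₂ / A) (by rw [map_div₀, map_neg, fixed K S hAF, fixed K S hA₂F])
  obtain ⟨z, hz, s'', hs'', rfl⟩ := parts K S hμ0 hμs N
  rw [map_add, map_mul, fixed K S hz, fixed K S hs'', hμb] at hN
  obtain ⟨σ, hσ⟩ : ∃ σ, σ = μ ^ 2 * s'' / A := ⟨_, rfl⟩
  have hσF : σ ∈ F₀ := hσ ▸ F₀.div_mem (F₀.mul_mem hd2 hs'') hAF
  obtain ⟨x, hx⟩ : ∃ x, x = σ + z := ⟨_, rfl⟩
  have hxF : x ∈ F₀ := hx ▸ F₀.add_mem hσF hz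
  obtain ⟨y, hy⟩ : ∃ y, y = -(σ * A) := ⟨_, rfl⟩
  have hyF : y ∈ F₀ := hy ▸ F₀.neg_mem (F₀.mul_mem hσF hAF)
  obtain ⟨a, ha⟩ : ∃ a, a = p + r := ⟨_, rfl⟩
  obtain ⟨c, hc⟩ : ∃ c, c = y • f + x • p + σ • r + r₂ := ⟨_, rfl⟩
  have haR : a ∈ rat F₀ P := ha ▸ add_mem hp hr
  have hcR : c ∈ rat F₀ P := hc ▸ add_mem (add_mem (add_mem (smul_mem_rat hyF hf) (smul_mem_rat hxF hp))
    (smul_mem_rat hσF hr)) hr₂
  have pr := h_eq_zero_symm K rp
  have fr := h_eq_zero_symm K rf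
  have pr₂ := h_eq_zero_symm K r₂p
  have fr₂ := h_eq_zero_symm K r₂f
  have haa : H a a = A := by
    simp only [ha, h_add_left K, h_add_right K, hpp, rp, pr, ← hA]; ring
  have hca : H c a = 0 := by
    simp only [hc, ha, h_add_left K, h_add_right K, h_smul_left K, hpp, hfp, rp, r₂p, fr, pr, r₂r, ← hA]
    rw [hy]; ring
  have hcc : H c c = 2 * x * y + σ ^ 2 * A + A₂ := by
    simp only [hc, h_add_left K, h_add_right K, h_smul_left K, h_smul_right K, fixed K S hxF,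
      fixed K S hyF, fixed K S hσF, hpp, hff, hpf, hfp, rp, rf, pr, fr, r₂p, r₂f, pr₂, fr₂, r₂r, hrr₂,
      ← hA, ← hA₂]
    ring
  have hkey : A * (y ^ 2 - μ ^ 2 * x ^ 2) = μ ^ 2 * H c c := by
    have hN' : A * (z ^ 2 - μ ^ 2 * s'' ^ 2) = -A₂ := by
      field_simp at hN
      linear_combination hN
    have hσA : σ * A = μ ^ 2 * s'' := by rw [hσ, div_mul_cancel₀ _ rr]
    rw [hcc, hy, hx]
    linear_combination (A * (σ * A + μ ^ 2 * s'')) * hσA - (μ ^ 2) * hN'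
  have hwa : H (p + μ • f) a = μ := by
    simp only [ha, h_add_left K, h_add_right K, h_smul_left K, hpp, hfp, pr, fr]; ring
  have hwc : H (p + μ • f) c = y + μ * x := by
    simp only [hc, h_add_left K, h_add_right K, h_smul_left K, h_smul_right K, fixed K S hxF,
      fixed K S hyF, fixed K S hσF, hpp, hff, hpf, hfp, pr, fr, pr₂, fr₂]
    ring
  have hyx : y + μ * x ≠ 0 := by
    intro e
    obtain ⟨ey, ex⟩ := parts_unique K S hμ0 hμs hyF hxF e
    have hσ0 : σ = 0 := by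
      rw [hy, neg_eq_zero] at ey
      exact (mul_eq_zero.1 ey).resolve_right rr
    rw [hcc, ey, ex, hσ0] at hkey
    exact mul_ne_zero (pow_ne_zero 2 hμ0) r₂r₂ (by linear_combination -hkey)
  have hcc0 : H c c ≠ 0 := by
    intro e
    rw [e, mul_zero, mul_eq_zero, or_iff_right rr] at hkey
    exact hyx ((mul_eq_zero.1 (show (y + μ * x) * (y - μ * x) = 0 by linear_combination hkey)).resolve_right
      fun e' => hyx (by
        obtain ⟨ey, ex⟩ := parts_unique K S hμ0 hμs hyF (F₀.neg_mem hxF) (by linear_combination e')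
        rw [neg_eq_zero] at ex
        rw [ey, ex]; ring))
  obtain ⟨ρ, hρM, hρ⟩ := exists_refl2 K S haR hcR (by rw [haa]; exact rr) hcc0
  have hρw : app ρ w = α • ((p + μ • f) + (-2 / H c c * (y + μ * x)) • c + (-2 / A * μ) • a) := by
    rw [hwμ, app_smul, hρ, haa, hwc, h_add_left K, h_smul_left K, hwa, hca, mul_zero, add_zero]
  have hac := h_eq_zero_symm K hca
  have horth : H (app ρ w) w = 0 := by
    have e0 : H (p + μ • f) (p + μ • f) = 0 := by
      simp only [h_add_left K, h_add_right K, h_smul_left K, h_smul_right K, hpp, hff, hpf, hfp, hμb]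
      ring
    have eca : H c (p + μ • f) = y - μ * x := by
      rw [h_swap K (p + μ • f) c, hwc, map_add, map_mul, fixed K S hyF, fixed K S hxF, hμb]; ring
    have eaa : H a (p + μ • f) = -μ := by rw [h_swap K (p + μ • f) a, hwa, hμb]
    rw [hρw, hwμ]
    rw [h_smul_left K, h_smul_right K, h_add_left K, h_add_left K, h_smul_left K, h_smul_left K, e0, eca, eaa]
    field_simp
    linear_combination (-2 * α * K.bar α) * hkey
  obtain ⟨e, he⟩ : ∃ e : G, e = g⁻¹ * ρ * g := ⟨_, rfl⟩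
  have heM : e ∈ M := he ▸ M.mul_mem (M.mul_mem (M.inv_mem hg) hρM) hg
  have hev : app g (app e v₀) = app ρ w := by
    rw [he, app_mul, app_mul, app_inv', hw]
  have hv' : H (app e v₀) v₀ = 0 := by rw [← h_app g, hev, ← hw]; exact horth
  have hv'v' : H (app e v₀) (app e v₀) = 0 := by rw [h_app]; exact hv₀v
  have hirr : ∀ k : F, app e v₀ ≠ k • v₀ := fun k e0 => by
    have h1 := congrArg (fun z => H (app g z) r₂) e0
    simp only [app_smul, ← hw, h_smul_left K, hwr₂, mul_zero, hev] at h1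
    rw [hρw] at h1
    have hcr : H c r₂ = A₂ := by
      simp only [hc, h_smul_left K, h_add_left K, pr₂, fr₂, hrr₂, ← hA₂]; ring
    have har : H a r₂ = 0 := by simp only [ha, h_add_left K, pr₂, hrr₂]; ring
    simp only [h_smul_left K, h_add_left K, pr₂, fr₂, hcr, har] at h1
    have h2 := S.two
    simp [hα0, hcc0, hyx, r₂r₂, h2] at h1
  obtain ⟨c₀, hc₀, c₁, hc₁, hd⟩ := rat_parts (P := P) (parts K S hθ0 hθ) (app e v₀)
  rw [hd] at hv' hv'v'
  obtain ⟨o₀, o₁⟩ := orth_parts K S hθ0 hθ hc₀ hc₁ hv₀ hv'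
  have hcc' := iso_parts K S hθ0 hθ hc₀ hc₁ hv'v'
  have hne' : H c₁ c₁ ≠ 0 ∨ H c₀ c₁ ≠ 0 := by
    by_contra h
    push Not at h
    obtain ⟨h11, h01⟩ := h
    have h00 : H c₀ c₀ = 0 := by rw [hcc', h11, mul_zero]
    obtain ⟨k₀, hk₀⟩ := hpair v₀ hv₀ c₀ hc₀ hv₀v h00 (h_eq_zero_symm K o₀) hv₀0
    obtain ⟨k₁, hk₁⟩ := hpair v₀ hv₀ c₁ hc₁ hv₀v h11 (h_eq_zero_symm K o₁) hv₀0
    exact hirr (k₀ + θ * k₁) (by rw [hd, hk₀, hk₁]; module)
  refine eq_top_of_perp K S heM hv₀ hv₀0 hv₀v hv₀ hv₀0 hv₀v (by rw [hd]; exact hv') fun a => ?_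
  rw [hd]
  exact full_of_nondeg K S hθ0 hθ hc₀ hc₁ (det_ne K S hθ0 hθ hc₀ hc₁ hcc' hne') o₀ o₁ a

theorem le_or_top : M = ⊤ ∨ ∀ g ∈ M, toGLHom g ∈ Cfsg.Geo.subfieldSubgroup F₀ P := by
  classical
  obtain ⟨θ, hθ0, hθ⟩ := exists_skew K
  by_cases hR : ∀ g ∈ M, ∀ v ∈ rat F₀ P, H v v = 0 → ∃ c : F, ∃ r ∈ rat F₀ P, app g v = c • r
  · refine Or.inr fun g hg => (toGLHom_mem_subfield_iff g).2 ?_
    have happ0 : app g (0 : V) = 0 := mulVec_zero _
    have ratio : ∀ a ∈ rat F₀ P, ∀ b ∈ rat F₀ P, H a a = 0 → H b b = 0 → H a b ≠ 0 → ∀ c : F,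
        ∀ r ∈ rat F₀ P, app g a = c • r → ∃ r' ∈ rat F₀ P, app g b = c • r' := by
      intro a ha b hb haa hbb hab c r hr hga
      obtain ⟨d, r', hr', hgb⟩ := hR g hg b hb hbb
      have h1 := h_app g a b
      rw [hga, hgb, h_smul_left K, h_smul_right K] at h1
      have hc0 : c ≠ 0 := fun e => hab (by rw [← h1, e, zero_mul])
      have hrr : H r r' ≠ 0 := fun e => hab (by rw [← h1, e, mul_zero, mul_zero])
      obtain ⟨k, hk⟩ : ∃ k, k = H a b / H r r' := ⟨_, rfl⟩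
      have hkF : k ∈ F₀ := hk ▸ F₀.div_mem (vm K S ha hb) (vm K S hr hr')
      have e1 : c * K.bar d = k := by rw [hk, eq_div_iff hrr]; linear_combination h1
      have e2 : K.bar c * d = k := by
        have := congrArg K.bar e1
        rwa [map_mul, K.bar_bar, fixed K S hkF] at this
      have hN : c * K.bar c ∈ F₀ := mem_of_fixed K S (by rw [map_mul, K.bar_bar, mul_comm])
      refine ⟨(k / (c * K.bar c)) • r', smul_mem_rat (F₀.div_mem hkF hN) hr', ?_⟩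
      rw [hgb, smul_smul]
      congr 1
      have hcb : K.bar c ≠ 0 := (map_ne_zero K.bar).2 hc0
      field_simp
      linear_combination e2
    obtain ⟨p, hp, hpp, hp0⟩ := exists_sing K S
    obtain ⟨f, hf, hff, hpf, hfp⟩ := exists_partner K S hp hpp hp0
    obtain ⟨r, hr, y, hy, rp, rf, rr, yp, yf, yr, yy⟩ := exists_frame K S hp hf hpp hff hpf
    obtain ⟨c, r₀, hr₀, hgp⟩ := hR g hg p hp hpp
    have hc0 : c ≠ 0 := fun e => hp0 (app_injective g (by rw [hgp, e, zero_smul, happ0]))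
    have hiso : ∀ a ∈ rat F₀ P, H a a = 0 → ∃ r' ∈ rat F₀ P, app g a = c • r' := by
      intro a ha haa
      by_cases ha0 : a = 0
      · exact ⟨0, zero_mem _, by rw [ha0, happ0, smul_zero]⟩
      obtain ⟨s, hs, hss, sp, sa⟩ := exists_both K S hp ha hpp haa hp0 ha0
      obtain ⟨r', hr', e⟩ := ratio p hp s hs hpp hss (h_ne_zero_symm K sp) c r₀ hr₀ hgp
      exact ratio s hs a ha hss haa sa c r' hr' e
    obtain ⟨pf, hpfR, epf⟩ := hiso f hf hff
    have hvec : ∀ x ∈ rat F₀ P, H x p = 0 → H x f = 0 → ∃ r' ∈ rat F₀ P, app g x = c • r' := by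
      intro x hx xp xf
      have hl : -(H x x) / 2 ∈ F₀ := F₀.div_mem (F₀.neg_mem (vm K S hx hx)) (two_mem K S)
      obtain ⟨r', hr', e⟩ := hiso (f + x + (-(H x x) / 2) • p) (add_mem (add_mem hf hx) (smul_mem_rat hl hp))
        (by
          have h2 := S.two
          simp only [h_add_left K, h_add_right K, h_smul_left K, h_smul_right K, fixed K S hl, hpp,
            hff, hpf, hfp, xp, xf, h_eq_zero_symm K xp, h_eq_zero_symm K xf]
          field_simp; ring)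
      refine ⟨r' - pf - (-(H x x) / 2) • r₀, sub_mem (sub_mem hr' hpfR) (smul_mem_rat hl hr₀), ?_⟩
      rw [app_add, app_add, app_smul, hgp, epf] at e
      rw [smul_sub, smul_sub, ← e]
      module
    obtain ⟨r₁, hr₁, e₁⟩ := hvec r hr rp rf
    obtain ⟨y₁, hy₁, e₂⟩ := hvec y hy yp yf
    refine ⟨c, hc0, fun a ha => ⟨H a f • r₀ + H a p • pf + (H a r / H r r) • r₁ + (H a y / H y y) • y₁,
      add_mem (add_mem (add_mem (smul_mem_rat (vm K S ha hf) hr₀) (smul_mem_rat (vm K S ha hp) hpfR))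
        (smul_mem_rat (F₀.div_mem (vm K S ha hr) (vm K S hr hr)) hr₁))
        (smul_mem_rat (F₀.div_mem (vm K S ha hy) (vm K S hy hy)) hy₁), ?_⟩⟩
    conv_lhs => rw [frame_eq K S hp hf hpp hff hpf rp rf rr yp yf yr yy a]
    simp only [app_add, app_smul, hgp, epf, e₁, e₂]
    module
  left
  push Not at hR
  obtain ⟨g, hg, v, hv, hvv, hout⟩ := hR
  have hv0 : v ≠ 0 := fun e => hout 0 0 (zero_mem _) (by rw [e, smul_zero]; exact mulVec_zero _)
  obtain ⟨b, hb, b', hb', hB⟩ := rat_parts (P := P) (parts K S hθ0 hθ) (app g v)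
  have hind : ∀ l ∈ F₀, b' ≠ l • b := fun l _ e => hout (1 + θ * l) b hb (by rw [hB, e]; module)
  have hind' : ∀ l ∈ F₀, b ≠ l • b' := fun l _ e => hout (l + θ) b' hb' (by rw [hB, e]; module)
  have hBB : H (app g v) (app g v) = 0 := by rw [h_app]; exact hvv
  have hbb := iso_parts K S hθ0 hθ hb hb' (by rw [← hB]; exact hBB)
  by_cases hts : H b' b' = 0 ∧ H b b' = 0
  · -- totally singular plane
    obtain ⟨hD, hC⟩ := hts
    have h00 : H b b = 0 := by rw [hbb, hD, mul_zero]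
    have hb0 : b ≠ 0 := fun e => hind' 0 F₀.zero_mem (by rw [e, zero_smul])
    have hindF : ∀ k : F, b' ≠ k • b := fun k e => by
      obtain ⟨f, hf, -, -, hfb⟩ := exists_partner K S hb h00 hb0
      have hk : K.bar k ∈ F₀ := by
        have := vm K S hf hb'
        rwa [e, h_smul_right K, hfb, mul_one] at this
      exact hind k (by rw [← K.bar_bar k, fixed K S hk]; exact hk) e
    obtain ⟨u, hu, huu, huv, hui⟩ := exists_orth_sing K S hb hb' hv h00 hD hC hb0 hindF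
    obtain ⟨y, hy, yv, yu⟩ := exists_dual K S hv hu fun k _ => hui k
    obtain ⟨c, hc⟩ : ∃ c, c = -(H y y) / 2 := ⟨_, rfl⟩
    have hcF : c ∈ F₀ := hc ▸ F₀.div_mem (F₀.neg_mem (vm K S hy hy)) (two_mem K S)
    obtain ⟨u', hu'd⟩ : ∃ u', u' = y + c • u := ⟨_, rfl⟩
    have hu' : u' ∈ rat F₀ P := hu'd ▸ add_mem hy (smul_mem_rat hcF hu)
    have huy : H u y = 1 := by rw [vs K S hy hu, yu]
    have h2 := S.two
    have hu'u' : H u' u' = 0 := by
      simp only [hu'd, h_add_left K, h_add_right K, h_smul_left K, h_smul_right K, fixed K S hcF, huu,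
        yu, huy]
      rw [hc]; field_simp; ring
    have hu'v : H u' v = 0 := by rw [hu'd, h_add_left K, h_smul_left K, yv, huv, mul_zero, add_zero]
    have huu' : H u u' = 1 := by rw [hu'd, h_add_right K, h_smul_right K, huu, mul_zero, add_zero, huy]
    have go : ∀ u ∈ rat F₀ P, H u u = 0 → H u v = 0 → H (app g u) b' ≠ 0 → M = ⊤ := by
      intro u hu huu huv hα
      obtain ⟨k₀, hk₀⟩ := exists_E (K := K) (n := 4) (a := u) (b := v) (c := 0) (by norm_num) huu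
        (h_eq_zero_symm K huv) (by rw [hvv, map_zero]; ring)
      have hk₀M := rat_E_mem K S.card S.rational S.le hu hv F₀.zero_mem hk₀
      have hk := isE_conj hk₀ g
      rw [hB] at hk
      exact eq_top_of_ts K S (M.mul_mem (M.mul_mem hg hk₀M) (M.inv_mem hg)) hθ0 hθ hb hb' hind hind'
        h00 hC hD hk hα
    by_cases h1 : H (app g u) b' = 0
    · refine go u' hu' hu'u' hu'v fun h2 => ?_
      -- otherwise both images lie in the line
      have hAv : H (app g u) (app g v) = 0 := by rw [h_app]; exact huv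
      have hA'v : H (app g u') (app g v) = 0 := by rw [h_app]; exact hu'v
      rw [hB, h_add_right K, h_smul_right K, h1, mul_zero, add_zero] at hAv
      rw [hB, h_add_right K, h_smul_right K, h2, mul_zero, add_zero] at hA'v
      obtain ⟨f, hf, hff, hbf, hfb⟩ := exists_partner K S hb h00 hb0
      obtain ⟨r, hr, y', hy', rp, rf, rr, yp, yf, yr, yy⟩ := exists_frame K S hb hf h00 hff hbf
      have hfe := frame_eq K S hb hf h00 hff hbf rp rf rr yp yf yr yy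
      have hb'b : H b' b = 0 := h_eq_zero_symm K hC
      obtain ⟨a₁, ha₁⟩ : ∃ a₁, a₁ = H b' r := ⟨_, rfl⟩
      obtain ⟨a₂, ha₂⟩ : ∃ a₂, a₂ = H b' y' := ⟨_, rfl⟩
      have ea₁ : H r b' = a₁ := by rw [vs K S hb' hr, ha₁]
      have ea₂ : H y' b' = a₂ := by rw [vs K S hb' hy', ha₂]
      have hex : ∀ z, H z b = 0 → H z b' = H z r / H r r * a₁ + H z y' / H y' y' * a₂ := fun z hz => by
        conv_lhs => rw [hfe z]
        rw [hz, zero_smul, add_zero]
        simp only [h_add_left K, h_smul_left K, hC, ea₁, ea₂, mul_zero, zero_add]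
      have e0 := hex b' hb'b
      rw [hD, ← ha₁, ← ha₂] at e0
      have hA := hex _ hAv
      rw [h1] at hA
      have hA' := hex _ hA'v
      rw [h2] at hA'
      obtain ⟨a₁0, a₂0⟩ : a₁ ≠ 0 ∧ a₂ ≠ 0 := by
        have hnb : a₁ ≠ 0 ∨ a₂ ≠ 0 := by
          by_contra h
          push Not at h
          refine hindF (H b' f) ?_
          conv_lhs => rw [hfe b']
          rw [hb'b, ← ha₁, ← ha₂, h.1, h.2]
          simp
        refine ⟨fun e => ?_, fun e => ?_⟩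
        · rw [e] at e0 hnb
          simp [yy] at e0 hnb
          exact hnb e0
        · rw [e] at e0 hnb
          simp [rr] at e0 hnb
          exact hnb e0
      have hAA : H (app g u) (app g u') = H u u' := h_app g u u'
      have hval : H (app g u) (app g u') = H (app g u) r / H r r * K.bar (H (app g u') r) +
          H (app g u) y' / H y' y' * K.bar (H (app g u') y') := by
        refine (congrArg (fun x => H (app g u) x) (hfe (app g u'))).trans ?_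
        simp only [hA'v, zero_smul, add_zero, h_add_right K, h_smul_right K, map_div₀, bar_self K, hAv,
          mul_zero, zero_add]
        ring
      rw [huu', hval] at hAA
      refine one_ne_zero (α := F) ?_
      rw [← hAA]
      have eA' := congrArg K.bar hA'
      rw [map_zero, map_add, map_mul, map_mul, map_div₀, map_div₀, bar_self K, bar_self K,
        fixed K S (ha₁ ▸ vm K S hb' hr : a₁ ∈ F₀), fixed K S (ha₂ ▸ vm K S hb' hy' : a₂ ∈ F₀)] at eA'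
      field_simp at hA eA' e0 ⊢
      apply mul_left_cancel₀ (mul_ne_zero (mul_ne_zero a₁0 a₁0) yy)
      linear_combination (K.bar (H (app g u') r) * a₁ * H y' y') * hA.symm -
        (a₂ * H (app g u) y' * H r r) * eA'.symm +
        (H (app g u) y' * K.bar (H (app g u') y') * H r r) * e0.symm
    · exact go u hu huu huv h1
  have hne : H b' b' ≠ 0 ∨ H b b' ≠ 0 := not_and_or.1 hts
  have hdet := det_ne K S hθ0 hθ hb hb' hbb hne
  by_cases hp : ∃ p ∈ rat F₀ P, H p p = 0 ∧ H p b = 0 ∧ H p b' = 0 ∧ p ≠ 0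
  · obtain ⟨p, hp, hpp, hpb, hpb', hp0⟩ := hp
    refine eq_top_of_perp K S hg hv hv0 hvv hp hp0 hpp ?_ fun a => ?_
    · rw [hB, h_add_left K, h_smul_left K, h_eq_zero_symm K hpb, h_eq_zero_symm K hpb']; ring
    · rw [hB]
      exact full_of_nondeg K S hθ0 hθ hb hb' hdet (h_eq_zero_symm K hpb) (h_eq_zero_symm K hpb') a
  push Not at hp
  by_cases hpair : ∃ s₁ ∈ rat F₀ P, ∃ s₂ ∈ rat F₀ P, H s₁ s₁ = 0 ∧ H s₂ s₂ = 0 ∧ H s₁ s₂ = 0 ∧ s₁ ≠ 0 ∧
      ∀ k : F, s₂ ≠ k • s₁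
  · obtain ⟨s₁, h₁, s₂, h₂, e11, e22, e12, h10, hi⟩ := hpair
    obtain ⟨u, hu, huu, huv, hui⟩ := exists_orth_sing K S h₁ h₂ hv e11 e22 e12 h10 hi
    exact eq_top_of_rot K S hg hθ0 hθ hv hv0 hvv hu huu huv hui hb hb' hB hdet hp
  push Not at hpair
  exact eq_top_of_minus K S hg hθ0 hθ hv hv0 hvv hb hb' hB hout hne hp hpair

theorem exists_notMem : ∃ g : G, toGLHom g ∉ Cfsg.Geo.subfieldSubgroup F₀ P := by
  obtain ⟨θ, hθ0, hθ⟩ := exists_skew K
  obtain ⟨p, hp, hpp, hp0⟩ := exists_sing K S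
  obtain ⟨f, hf, hff, hpf, hfp⟩ := exists_partner K S hp hpp hp0
  obtain ⟨g, hg⟩ := exists_T K hpp hθ
  refine ⟨g, fun h => ?_⟩
  obtain ⟨c, hc0, hc⟩ := (toGLHom_mem_subfield_iff g).1 h
  obtain ⟨r, hr, hgp⟩ := hc p hp
  obtain ⟨r', hr', hgf⟩ := hc f hf
  rw [hg.2.2, hpp, mul_zero, zero_smul, add_zero] at hgp
  rw [hg.2.2, hfp, mul_one] at hgf
  have h1 : c * H r f = 1 := by rw [← h_smul_left K, ← hgp, hpf]
  have hcF : c ∈ F₀ := by
    rw [eq_inv_of_mul_eq_one_left h1]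
    exact F₀.inv_mem (vm K S hr hf)
  refine skew_not_mem K S hθ0 hθ ?_
  have := vm K S (smul_mem_rat hcF hr') hf
  rwa [← hgf, h_add_left K, h_smul_left K, hff, hpf, zero_add, mul_one] at this

end CfsgLib.Classical.HermFour.OrthSub

namespace CfsgLib.Classical.HermFour

open Matrix Cfsg CfsgLib.Classical.Herm
open CfsgLib.ClassicalAut (Unitary.Conj)

/-- Orthogonal subfield groups are maximal in `SU_4(q)`, `q` odd and at least five. -/
theorem isMaximalIn_orth_subfield {F : Type*} [Field F] [Finite F] {q : ℕ} (K : Unitary.Conj F q)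
    {F₀ : Subfield F} {P : GL (Fin 4) F} (hcard : Nat.card F = Nat.card F₀ ^ 2)
    (hP : Cfsg.Geo.IsFormRationalStructure (hermForm 4 F q) F₀ 1 P) (h2 : (2 : F) ≠ 0) (hq : 5 ≤ q) :
    Cfsg.Geo.IsMaximalIn (GU 4 F q ⊓ Cfsg.Geo.specialLinear (Fin 4) F)
      (Cfsg.Geo.subfieldSubgroup F₀ P ⊓ (GU 4 F q ⊓ Cfsg.Geo.specialLinear (Fin 4) F)) := by
  obtain ⟨Q, hB, hQ, -⟩ := OrthSubfield.exists_form K hcard hP h2
  exact isMaximalIn_subfield_of
    (OrthSub.exists_notMem (M := ⊤) K ⟨hcard, hq, hP, h2, hB, hQ, fun g _ => Subgroup.mem_top g⟩)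
    fun M hM => OrthSub.le_or_top K ⟨hcard, hq, hP, h2, hB, hQ, hM⟩

end CfsgLib.Classical.HermFour
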