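import Cfsg.Agent.Lib.Classical.SUFour.OrthTools

set_option autoImplicit false
set_option linter.unusedSectionVars false

/-!
Orthogonal subfield groups in `SU_4(q)`: irrational points orthogonal to a rational one, and irrational
points on a rational totally singular line.
-/

namespace CfsgLib.Classical.HermFour.OrthSub

open Matrix Cfsg CfsgLib.Classical.Herm CfsgLib.Classical.Herm.OrthSubfield
open CfsgLib.ClassicalAut (Unitary.Conj)

variable {F : Type*} [Field F] [Finite F] {q : ℕ} (K : Unitary.Conj F q)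

local notation "H" => hermForm 4 F q
local notation "V" => (Fin 4 → F)
local notation "G" => SU 4 F q

variable {F₀ : Subfield F} {P : GL (Fin 4) F} {M : Subgroup (SU 4 F q)}
  {Q : QuadraticForm F₀ (Fin 4 → F₀)} (S : Setup (q := q) F₀ P M Q)

include K S

/-- An element of the subfield other than `0` and `±1`. -/
theorem exists_k : ∃ k ∈ F₀, k ≠ 0 ∧ k ^ 2 ≠ 1 := by
  classical
  let _ := Fintype.ofFinite F₀
  by_contra hc
  push Not at hc
  have hq : Nat.card F₀ = q := Nat.pow_left_injective (by norm_num) (S.card.symm.trans K.card)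
  have hsub : (Finset.univ : Finset F₀) ⊆ {0, 1, -1} := fun x _ => by
    by_cases hx : x = 0
    · simp [hx]
    have hsq : x * x = 1 := Subtype.ext (by
      have := hc x x.2 (fun e => hx (Subtype.ext e))
      rwa [pow_two] at this)
    rcases mul_self_eq_one_iff.1 hsq with e | e <;> simp [e]
  have h1 := (Finset.card_le_card hsub).trans Finset.card_le_three
  rw [Finset.card_univ, ← Nat.card_eq_fintype_card, hq] at h1
  have := S.five
  omega

/-- An irrational point orthogonal to a rational singular one, with all values on its orthogonal. -/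
theorem eq_top_of_perp {g : G} (hg : g ∈ M) {v₀ p : V} (hv₀ : v₀ ∈ rat F₀ P) (hv₀0 : v₀ ≠ 0)
    (hv₀v : H v₀ v₀ = 0) (hp : p ∈ rat F₀ P) (hp0 : p ≠ 0) (hpp : H p p = 0)
    (hvp : H (app g v₀) p = 0)
    (hfull : ∀ a : F, ∃ r ∈ rat F₀ P, H r p = 0 ∧ H (app g v₀) r = a) : M = ⊤ := by
  obtain ⟨v, hv⟩ : ∃ v, v = app g v₀ := ⟨_, rfl⟩
  rw [← hv] at hvp hfull
  have hpv := h_eq_zero_symm K hvp
  have hvv : H v v = 0 := by rw [hv, h_app]; exact hv₀v
  obtain ⟨θ, hθ0, hθ⟩ := exists_skew K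
  obtain ⟨f, hf, hff, hpf, hfp⟩ := exists_partner K S hp hpp hp0
  obtain ⟨r, hr, y, hy, rp, rf, rr, yp, yf, yr, yy⟩ := exists_frame K S hp hf hpp hff hpf
  have fr := frame_eq K S hp hf hpp hff hpf rp rf rr yp yf yr yy
  obtain ⟨A, hA⟩ : ∃ A, A = H r r := ⟨_, rfl⟩
  obtain ⟨B, hB⟩ : ∃ B, B = H y y := ⟨_, rfl⟩
  rw [← hA] at rr
  rw [← hB] at yy
  have hAF : A ∈ F₀ := hA ▸ vm K S hr hr
  have hBF : B ∈ F₀ := hB ▸ vm K S hy hy
  obtain ⟨a₁, ha₁⟩ : ∃ a₁, a₁ = H v r := ⟨_, rfl⟩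
  obtain ⟨a₂, ha₂⟩ : ∃ a₂, a₂ = H v y := ⟨_, rfl⟩
  -- the values span
  have hspan : ∀ a : F, ∃ s ∈ F₀, ∃ t ∈ F₀, a = s * a₁ + t * a₂ := fun a => by
    obtain ⟨x, hx, hxp, e⟩ := hfull a
    have hs : H x r / A ∈ F₀ := F₀.div_mem (vm K S hx hr) hAF
    have ht : H x y / B ∈ F₀ := F₀.div_mem (vm K S hx hy) hBF
    refine ⟨_, hs, _, ht, ?_⟩
    rw [← e]
    conv_lhs => rw [fr x]
    rw [hxp, ← hA, ← hB, zero_smul, add_zero]
    simp only [h_add_right K, h_smul_right K, fixed K S hs, fixed K S ht, hvp, ← ha₁, ← ha₂,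
      mul_zero, zero_add]
  have hindep : ∀ X ∈ F₀, ∀ Y ∈ F₀, X * a₁ + Y * a₂ = 0 → X = 0 ∧ Y = 0 := by
    intro X hX Y hY e
    have key : ∀ {b : F}, (∀ a, ∃ t ∈ F₀, a = t * b) → False := fun {b} h => by
      obtain ⟨t, ht, e1⟩ := h 1
      obtain ⟨t', ht', e2⟩ := h θ
      refine skew_not_mem K S hθ0 hθ ?_
      have ht0 : t ≠ 0 := fun e0 => one_ne_zero (e1.trans (by rw [e0, zero_mul]))
      rw [show θ = t' / t by field_simp; linear_combination t * e2 - t' * e1]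
      exact F₀.div_mem ht' ht
    refine ⟨by_contra fun h0 => key (b := a₂) fun a => ?_, by_contra fun h0 => key (b := a₁) fun a => ?_⟩
    · obtain ⟨s, hs, t, ht, rfl⟩ := hspan a
      refine ⟨t - s * Y / X, F₀.sub_mem ht (F₀.div_mem (F₀.mul_mem hs hY) hX), ?_⟩
      field_simp
      linear_combination s * e
    · obtain ⟨s, hs, t, ht, rfl⟩ := hspan a
      refine ⟨s - t * X / Y, F₀.sub_mem hs (F₀.div_mem (F₀.mul_mem ht hX) hY), ?_⟩
      field_simp
      linear_combination t * e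
  have ha₁0 : a₁ ≠ 0 := fun e => one_ne_zero (hindep 1 F₀.one_mem 0 F₀.zero_mem (by rw [e]; ring)).1
  have ha₂0 : a₂ ≠ 0 := fun e => one_ne_zero (hindep 0 F₀.zero_mem 1 F₀.one_mem (by rw [e]; ring)).2
  have hrv : H r v = K.bar a₁ := by rw [h_swap K v r, ha₁]
  have hyv : H y v = K.bar a₂ := by rw [h_swap K v y, ha₂]
  have hev : ∀ z, H z p = 0 → H z v = H z r / A * K.bar a₁ + H z y / B * K.bar a₂ := fun z hz => by
    conv_lhs => rw [fr z]
    rw [hz, ← hA, ← hB, zero_smul, add_zero]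
    simp only [h_add_left K, h_smul_left K, hpv, hrv, hyv, mul_zero, zero_add]
  -- a vector moving `p` along the line
  obtain ⟨f₀, hf₀, hf₀f, hv₀f, -⟩ := exists_partner K S hv₀ hv₀v hv₀0
  obtain ⟨y₀, hy₀, -, -, y₀v, -, y₀y, -⟩ := exists_frame K S hv₀ hf₀ hv₀v hf₀f hv₀f
  obtain ⟨z, hz⟩ : ∃ z, z = app g y₀ := ⟨_, rfl⟩
  have hzv : H z v = 0 := by rw [hz, hv, h_app]; exact y₀v
  have hzz : H z z ≠ 0 := by rw [hz, h_app]; exact y₀y
  obtain ⟨b, hb⟩ : ∃ b, b = H p z := ⟨_, rfl⟩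
  have hb0 : b ≠ 0 := by
    intro e
    rw [hb] at e
    have hzp := h_eq_zero_symm K e
    have e1 := hev z hzp
    rw [hzv] at e1
    have e2 := hev v hvp
    rw [hvv, ← ha₁, ← ha₂] at e2
    have e3 : H z z = H z r / A * K.bar (H z r) + H z y / B * K.bar (H z y) := by
      have := congrArg (fun x => H x z) (fr z)
      simpa [hzp, ← hA, ← hB, h_add_left K, h_smul_left K, e, ← h_swap K z r, ← h_swap K z y] using this
    have e1' : 0 = K.bar (H z r) / A * a₁ + K.bar (H z y) / B * a₂ := by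
      have := congrArg K.bar e1
      simpa [map_add, map_mul, map_div₀, fixed K S hAF, fixed K S hBF, K.bar_bar] using this
    apply hzz
    have h1 : (a₁ * K.bar a₁) * H z z = 0 := by
      rw [e3]
      field_simp at e1 e1' e2 ⊢
      have hAB : A * B ≠ 0 := mul_ne_zero rr yy
      apply mul_left_cancel₀ yy
      linear_combination -(K.bar (H z r) * a₁ * B) * e1 + (K.bar a₂ * H z y * A) * e1' -
        (H z y * K.bar (H z y) * A) * e2
    exact (mul_eq_zero.1 h1).resolve_left (mul_ne_zero ha₁0 ((map_ne_zero K.bar).2 ha₁0))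
  have hvz := h_eq_zero_symm K hzv
  have hlo : ∀ t ∈ F₀, ∃ e : G, e ∈ M ∧ app e p = p + (t * b) • v ∧ app e v = v := by
    intro t ht
    obtain ⟨c, e₀, he₀, heE⟩ := exists_rat_E K S.card S.rational S.two S.le (by norm_num) hv₀
      (smul_mem_rat (F₀.neg_mem ht) hy₀) hv₀v (by rw [h_smul_left K, y₀v, mul_zero])
    have h1 := isE_conj heE g
    rw [← hv, app_smul, ← hz] at h1
    refine ⟨g * e₀ * g⁻¹, M.mul_mem (M.mul_mem hg he₀) (M.inv_mem hg), ?_, ?_⟩
    · rw [h1.2.2.2, hpv, h_smul_right K, map_neg, fixed K S ht, ← hb]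
      module
    · rw [h1.2.2.2, hvv, h_smul_right K, hvz]
      module
  have hup : ∀ a : F, ∃ e : G, e ∈ M ∧ app e v = v + a • p ∧ app e p = p := by
    intro a
    obtain ⟨x, hx, hxp, e⟩ := hfull (-a)
    obtain ⟨c, e₀, he₀, heE⟩ := exists_rat_E K S.card S.rational S.two S.le (by norm_num) hp hx hpp hxp
    refine ⟨e₀, he₀, ?_, ?_⟩
    · rw [heE.2.2.2, hvp, e]; module
    · rw [heE.2.2.2, hpp, h_eq_zero_symm K hxp]; module
  obtain ⟨k, hk, hk0, hk1⟩ := exists_k K S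
  obtain ⟨a, ha⟩ : ∃ a, a = (k - 1) / b := ⟨_, rfl⟩
  obtain ⟨U₁, hU₁, u₁v, u₁p⟩ := hup a
  obtain ⟨L₁, hL₁, l₁p, l₁v⟩ := hlo 1 F₀.one_mem
  obtain ⟨U₂, hU₂, u₂v, u₂p⟩ := hup (-a / k)
  obtain ⟨L₂, hL₂, l₂p, l₂v⟩ := hlo (-k) (F₀.neg_mem hk)
  obtain ⟨m, hm⟩ : ∃ m : G, m = U₁ * L₁ * U₂ * L₂ := ⟨_, rfl⟩
  have hmM : m ∈ M := hm ▸ M.mul_mem (M.mul_mem (M.mul_mem hU₁ hL₁) hU₂) hL₂
  have hmp : app m p = k • p := by
    rw [hm]
    simp only [app_mul, app_add, app_smul, l₂p, l₁p, u₂v, l₁v, u₁v, u₁p, u₂p, l₂v]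
    rw [ha]
    match_scalars <;> field_simp <;> ring
  have hmv : app m v = k⁻¹ • v := by
    rw [hm]
    simp only [app_mul, app_add, app_smul, l₂p, l₁p, u₂v, l₁v, u₁v, u₁p, u₂p, l₂v]
    rw [ha]
    match_scalars <;> field_simp <;> ring
  by_contra hne
  obtain ⟨c₀, E, hE, hEE⟩ := exists_rat_E K S.card S.rational S.two S.le (by norm_num) hp hr hpp rp
  have h1 := isE_conj hEE m
  rw [hmp] at h1
  have hm1 : H (app m r) p = 0 := by
    refine mul_left_cancel₀ hk0 ?_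
    rw [mul_zero, ← fixed K S hk, ← h_smul_right K, ← hmp, h_app, rp]
  have hE' : IsE K (m * E * m⁻¹) p (k • app m r) (k * k * c₀) := by
    refine ⟨hpp, by rw [h_smul_left K, hm1, mul_zero], ?_, fun x => ?_⟩
    · have h0 := h1.2.2.1
      rw [h_smul_left K, h_smul_right K, map_mul, map_mul, fixed K S hk]
      linear_combination (k * k) * h0
    · rw [h1.2.2.2]
      simp only [h_smul_right K, fixed K S hk]
      module
  have hval : ∀ x ∈ rat F₀ P, H x p = 0 → H (app m r) x ∈ F₀ := fun x hx hxp => by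
    by_contra hn
    refine hne (eq_top_of_pair K S (M.mul_mem (M.mul_mem hmM hE) (M.inv_mem hmM)) hp hp0 hx hE' hxp
      fun h => hn ?_)
    rw [h_smul_left K] at h
    have := F₀.mul_mem (F₀.inv_mem hk) h
    rwa [← mul_assoc, inv_mul_cancel₀ hk0, one_mul] at this
  have e1 : H (app m r) v = k * K.bar a₁ := by
    have := h_app m r v
    rw [hmv, h_smul_right K, map_inv₀, fixed K S hk, hrv] at this
    rw [← this, ← mul_assoc, mul_inv_cancel₀ hk0, one_mul]
  rw [hev _ hm1] at e1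
  have hX : H (app m r) r / A - k ∈ F₀ := F₀.sub_mem (F₀.div_mem (hval r hr rp) hAF) hk
  have hY : H (app m r) y / B ∈ F₀ := F₀.div_mem (hval y hy yp) hBF
  obtain ⟨eX, eY⟩ := hindep _ hX _ hY (by
    have := congrArg K.bar (show (H (app m r) r / A - k) * K.bar a₁ + H (app m r) y / B * K.bar a₂ = 0 by
      linear_combination e1)
    simpa [map_add, map_mul, fixed K S hX, fixed K S hY, K.bar_bar] using this)
  have e2 : app m r = H (app m r) f • p + k • r := by
    conv_lhs => rw [fr (app m r)]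
    rw [hm1, ← hA, ← hB, eY, sub_eq_zero.1 eX]
    module
  have e3 := h_app m r r
  rw [e2] at e3
  simp only [h_add_left K, h_add_right K, h_smul_left K, h_smul_right K, hpp, rp, h_eq_zero_symm K rp,
    fixed K S hk, ← hA] at e3
  exact hk1 (mul_right_cancel₀ rr (by linear_combination e3))

omit S in
/-- An element acting trivially modulo a totally singular plane and on it. -/
def IsRad (g : G) (b b' : V) (s₁₁ s₁₂ s₂₁ s₂₂ : F) : Prop :=
  ∀ x, app g x = x + (s₁₁ * H x b + s₁₂ * H x b') • b + (s₂₁ * H x b + s₂₂ * H x b') • b'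

omit S in
theorem rad_mul {g g' : G} {b b' : V} (hbb : H b b = 0) (hbb' : H b b' = 0) (hb'b : H b' b = 0)
    (hb'b' : H b' b' = 0) {s t u w s' t' u' w' : F} (h : IsRad g b b' s t u w)
    (h' : IsRad g' b b' s' t' u' w') :
    IsRad (g * g') b b' (s + s') (t + t') (u + u') (w + w') := fun x => by
  rw [app_mul, h' x, h]
  simp only [h_add_left K, h_smul_left K, hbb, hbb', hb'b, hb'b', mul_zero, add_zero]
  module

omit S in
theorem rad_swap {g : G} {b b' : V} {s t u w : F} (h : IsRad g b b' s t u w) :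
    IsRad g b' b w u t s := fun x => by
  rw [h x]
  module

omit S in
theorem rad_conj {g e : G} {b b' : V} {τ s t u w : F} (hτ : K.bar τ = τ) (h : IsRad g b b' s t u w)
    (heb : app e b = b) (heb' : app e b' = b' + τ • b) :
    IsRad (e * g * e⁻¹) b b' (s + τ * (t + u) + τ ^ 2 * w) (t + τ * w) (u + τ * w) w := fun x => by
  obtain ⟨z, rfl⟩ : ∃ z, x = app e z := ⟨app e⁻¹ x, (app_inv' e x).symm⟩
  rw [app_mul, app_mul, app_inv, h, app_add, app_add, app_smul, app_smul, heb, heb']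
  have e1 : H z b = H (app e z) b := by conv_rhs => rw [← heb, h_app]
  have e2 : H z b' = H (app e z) b' + τ * H (app e z) b := by
    have : H (app e z) (b' + τ • b) = H z b' := by rw [← heb', h_app]
    rw [← this, h_add_right K, h_smul_right K, hτ]
  rw [e1, e2]
  module

/-- A radical element with a skew diagonal entry gives everything. -/
theorem eq_top_of_rad {g : G} (hgM : g ∈ M) {b b' : V} (hb : b ∈ rat F₀ P) (hb' : b' ∈ rat F₀ P)
    (hind : ∀ k ∈ F₀, b' ≠ k • b) (hb0 : b ≠ 0) (hbb : H b b = 0) (hbb' : H b b' = 0)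
    (hb'b' : H b' b' = 0) {s t u w : F} (h : IsRad g b b' s t u w) (hw : w ≠ 0)
    (hws : w + K.bar w = 0) : M = ⊤ := by
  have hb'b := h_eq_zero_symm K hbb'
  obtain ⟨y, hy, hyb, hyb'⟩ := exists_dual K S hb hb' hind
  have hby' : H b' y = 1 := by rw [vs K S hy hb', hyb']
  have hmove : ∀ τ ∈ F₀, ∃ e : G, e ∈ M ∧ app e b = b ∧ app e b' = b' + τ • b := by
    intro τ hτ
    obtain ⟨c, e, he, heE⟩ := exists_rat_E K S.card S.rational S.two S.le (by norm_num) hb
      (smul_mem_rat (F₀.neg_mem hτ) hy) hbb (by rw [h_smul_left K, hyb, mul_zero])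
    refine ⟨e, he, ?_, ?_⟩
    · rw [heE.2.2.2, hbb, h_smul_right K, h_eq_zero_symm K hyb]; module
    · rw [heE.2.2.2, hb'b, h_smul_right K, hby', map_neg, fixed K S hτ]; module
  obtain ⟨e₁, he₁, e₁b, e₁b'⟩ := hmove 1 F₀.one_mem
  obtain ⟨e₂, he₂, e₂b, e₂b'⟩ := hmove (-1) (F₀.neg_mem F₀.one_mem)
  have r1 := rad_conj K (map_one K.bar) h e₁b e₁b'
  have r2 := rad_conj K (by rw [map_neg, map_one] : K.bar (-1) = -1) h e₂b e₂b'
  have r12 := rad_mul K hbb hbb' hb'b hb'b' r1 r2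
  have rgg := rad_mul K hbb hbb' hb'b hb'b' h h
  have hd : 2 * w + K.bar (2 * w) = 0 := by rw [map_mul, map_ofNat]; linear_combination 2 * hws
  obtain ⟨T, hT⟩ := exists_T K hbb hd
  refine eq_top_of_T K S M.one_mem hb hb0 (mul_ne_zero S.two hw)
    (show IsT K T (app 1 b) (2 * w) by rw [app_one]; exact hT) ?_
  have e : T = (e₁ * g * e₁⁻¹ * (e₂ * g * e₂⁻¹)) * (g * g)⁻¹ := by
    rw [eq_mul_inv_iff_mul_eq]
    refine ext_app fun x => ?_
    rw [app_mul, rgg x, hT.2.2, r12 x]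
    simp only [h_add_left K, h_smul_left K, hbb, hb'b, mul_zero, add_zero]
    module
  rw [e]
  exact M.mul_mem (M.mul_mem (M.mul_mem (M.mul_mem he₁ hgM) (M.inv_mem he₁))
    (M.mul_mem (M.mul_mem he₂ hgM) (M.inv_mem he₂))) (M.inv_mem (M.mul_mem hgM hgM))

/-- An irrational point on a rational totally singular line. -/
theorem eq_top_of_ts {k : G} (hkM : k ∈ M) {A b b' : V} {θ : F} (hθ0 : θ ≠ 0) (hθ : θ + K.bar θ = 0)
    (hb : b ∈ rat F₀ P) (hb' : b' ∈ rat F₀ P) (hind : ∀ l ∈ F₀, b' ≠ l • b)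
    (hind' : ∀ l ∈ F₀, b ≠ l • b') (hbb : H b b = 0) (hbb' : H b b' = 0) (hb'b' : H b' b' = 0)
    (hk : IsE K k A (b + θ • b') 0) (hα : H A b' ≠ 0) : M = ⊤ := by
  have hθb : K.bar θ = -θ := by linear_combination hθ
  have hb'b := h_eq_zero_symm K hbb'
  obtain ⟨B, hB⟩ : ∃ B, B = b + θ • b' := ⟨_, rfl⟩
  rw [← hB] at hk
  obtain ⟨α, hαe⟩ : ∃ α, α = H A b' := ⟨_, rfl⟩
  rw [← hαe] at hα
  have hAB : H A B = 0 := h_eq_zero_symm K hk.2.1
  have hAb : H A b = θ * α := by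
    rw [hB, h_add_right K, h_smul_right K, hθb, ← hαe] at hAB
    linear_combination hAB
  have hBB : H B B = 0 := by
    simp only [hB, h_add_left K, h_add_right K, h_smul_left K, h_smul_right K, hbb, hbb', hb'b, hb'b']
    ring
  obtain ⟨h, hh⟩ := exists_E (K := K) (n := 4) (a := b') (b := b) (c := 0) (by norm_num) hb'b' hbb'
    (by rw [hbb, map_zero]; ring)
  have hhM := rat_E_mem K S.card S.rational S.le hb' hb F₀.zero_mem hh
  have hhB : app h B = B := by
    rw [hh.2.2.2, show H B b' = 0 by simp [hB, h_add_left K, h_smul_left K, hbb', hb'b'],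
      show H B b = 0 by simp [hB, h_add_left K, h_smul_left K, hbb, hb'b]]
    module
  have hhA : app h A = A + α • (b - θ • b') := by
    rw [hh.2.2.2, ← hαe, hAb]; module
  have h1 := isE_conj hk h
  rw [hhB] at h1
  have h2 := isE_mul (isE_swap h1 hBB) (isE_inv hk hBB)
  obtain ⟨c, hc⟩ : ∃ c, c = 2 * θ * (α * K.bar α) := ⟨_, rfl⟩
  have hcv : (0 : F) + 0 - H A (-app h A) = c := by
    rw [hhA, ← neg_one_smul F (A + _)]
    simp only [h_smul_right K, h_add_right K, h_sub_right K, map_neg, map_one, hk.1, hAb, ← hαe, hθb]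
    rw [hc]; ring
  rw [hcv] at h2
  obtain ⟨R, hR⟩ : ∃ R : G, R = (h * k * h⁻¹) * k⁻¹ := ⟨_, rfl⟩
  rw [← hR] at h2
  have hRM : R ∈ M := hR ▸ M.mul_mem (M.mul_mem (M.mul_mem hhM hkM) (M.inv_mem hhM)) (M.inv_mem hkM)
  have hrad : IsRad R b b' (c - α + K.bar α) (θ * (α + K.bar α - c)) (θ * (α + c + K.bar α))
      (θ ^ 2 * (K.bar α - α - c)) := fun x => by
    rw [h2.2.2.2, hhA, show -(A + α • (b - θ • b')) + A = α • (θ • b' - b) by module, hB]
    simp only [h_add_right K, h_sub_right K, h_smul_right K, hθb]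
    module
  have hb0 : b ≠ 0 := fun e => hind' 0 F₀.zero_mem (by rw [e, zero_smul])
  have hb'0 : b' ≠ 0 := fun e => hind 0 F₀.zero_mem (by rw [e, zero_smul])
  by_cases h22 : θ ^ 2 * (K.bar α - α - c) = 0
  · refine eq_top_of_rad K S hRM hb' hb hind' hb'0 hb'b' hb'b hbb (rad_swap K hrad) ?_ ?_
    · have h0 := (mul_eq_zero.1 h22).resolve_left (pow_ne_zero 2 hθ0)
      intro e
      have hc0 : c = 0 := mul_left_cancel₀ S.two (by linear_combination e - h0)
      rw [hc] at hc0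
      simp [S.two, hθ0, hα] at hc0
    · rw [hc]
      simp only [map_add, map_sub, map_mul, map_ofNat, hθb, K.bar_bar]
      ring
  · refine eq_top_of_rad K S hRM hb hb' hind hb0 hbb hbb' hb'b' hrad h22 ?_
    rw [hc]
    simp only [map_sub, map_mul, map_pow, map_ofNat, hθb, K.bar_bar]
    ring

end CfsgLib.Classical.HermFour.OrthSub
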