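import Cfsg.Agent.Lib.Classical.UnitaryOrthSubfield

set_option autoImplicit false
set_option linter.unusedSectionVars false

/-!
Orthogonal subfield groups in `SU_4(q)`, `q` odd: rational vectors, products of two reflections, and
the fact that one transvection with rational centre in an overgroup gives everything.
-/

namespace CfsgLib.Classical.HermFour.OrthSub

open Matrix Cfsg CfsgLib.Classical.Herm CfsgLib.Classical.Herm.OrthSubfield
open CfsgLib.ClassicalAut (Unitary.Conj)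

variable {F : Type*} [Field F] [Finite F] {q : ℕ} (K : Unitary.Conj F q)

local notation "H" => hermForm 4 F q
local notation "V" => (Fin 4 → F)
local notation "G" => SU 4 F q

/-- An overgroup of an orthogonal subfield group. -/
structure Setup (F₀ : Subfield F) (P : GL (Fin 4) F) (M : Subgroup (SU 4 F q))
    (Q : QuadraticForm F₀ (Fin 4 → F₀)) : Prop where
  card : Nat.card F = Nat.card F₀ ^ 2
  five : 5 ≤ q
  rational : Cfsg.Geo.IsFormRationalStructure (hermForm 4 F q) F₀ 1 P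
  two : (2 : F) ≠ 0
  nondeg : Orth.Nondeg Q
  polar : ∀ u v, ((QuadraticMap.polar (⇑Q) u v : F₀) : F) = hermForm 4 F q (emb P u) (emb P v)
  le : ∀ g, toGLHom g ∈ Cfsg.Geo.subfieldSubgroup F₀ P → g ∈ M

variable {F₀ : Subfield F} {P : GL (Fin 4) F} {M : Subgroup (SU 4 F q)}
  {Q : QuadraticForm F₀ (Fin 4 → F₀)} (S : Setup (q := q) F₀ P M Q)

include K S

theorem vm {a b : V} (ha : a ∈ rat F₀ P) (hb : b ∈ rat F₀ P) : H a b ∈ F₀ :=
  val_mem (K := K) S.rational ha hb

theorem vs {a b : V} (ha : a ∈ rat F₀ P) (hb : b ∈ rat F₀ P) : H b a = H a b :=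
  val_symm K S.card S.rational ha hb

theorem fixed {c : F} (hc : c ∈ F₀) : K.bar c = c := bar_fix K S.card hc

theorem two_mem : (2 : F) ∈ F₀ := by
  rw [← one_add_one_eq_two]; exact F₀.add_mem F₀.one_mem F₀.one_mem

theorem mem_of_fixed {c : F} (hc : K.bar c = c) : c ∈ F₀ := by
  obtain ⟨θ, -, hθb, hdec⟩ := exists_outside K S.card
  obtain ⟨s, hs, t, ht, e⟩ := hdec c
  rw [e, map_add, map_mul, fixed K S hs, fixed K S ht, add_right_inj] at hc
  by_cases ht0 : t = 0
  · rw [e, ht0, zero_mul, add_zero]; exact hs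
  · exact absurd (mul_left_cancel₀ ht0 hc) hθb

theorem sq_skew {θ : F} (hθ : θ + K.bar θ = 0) : θ ^ 2 ∈ F₀ := mem_of_fixed K S (by
  rw [map_pow, show K.bar θ = -θ by linear_combination hθ, neg_sq])

theorem skew_not_mem {θ : F} (hθ0 : θ ≠ 0) (hθ : θ + K.bar θ = 0) : θ ∉ F₀ := fun h =>
  hθ0 (mul_left_cancel₀ S.two (by rw [fixed K S h] at hθ; linear_combination hθ))

/-- Real and skew parts. -/
theorem parts {θ : F} (hθ0 : θ ≠ 0) (hθ : θ + K.bar θ = 0) (c : F) :
    ∃ s ∈ F₀, ∃ t ∈ F₀, c = s + t * θ := by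
  have h2 := S.two
  have hb : K.bar θ = -θ := by linear_combination hθ
  refine ⟨(c + K.bar c) / 2, mem_of_fixed K S ?_, (c - K.bar c) / (2 * θ), mem_of_fixed K S ?_, ?_⟩
  · rw [map_div₀, map_add, K.bar_bar, map_ofNat, add_comm]
  · rw [map_div₀, map_sub, K.bar_bar, map_mul, map_ofNat, hb]
    field_simp
    ring
  · field_simp
    ring

theorem parts_unique {θ s t : F} (hθ0 : θ ≠ 0) (hθ : θ + K.bar θ = 0) (hs : s ∈ F₀) (ht : t ∈ F₀)
    (h : s + θ * t = 0) : s = 0 ∧ t = 0 := by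
  have hb : K.bar θ = -θ := by linear_combination hθ
  have h1 := congrArg K.bar h
  rw [map_add, map_mul, fixed K S hs, fixed K S ht, hb, map_zero] at h1
  have h2 : s = 0 := mul_left_cancel₀ S.two (by linear_combination h + h1)
  rw [h2, zero_add] at h
  exact ⟨h2, (mul_eq_zero.1 h).resolve_left hθ0⟩

/-- A nonsquare of the subfield is the square of a skew element times a square. -/
theorem nsq {θ z : F} (hθ0 : θ ≠ 0) (hθ : θ + K.bar θ = 0) (hz : z ∈ F₀)
    (hns : ∀ x ∈ F₀, x ^ 2 ≠ z) : ∃ k ∈ F₀, z = θ ^ 2 * k ^ 2 := by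
  classical
  let _ := Fintype.ofFinite F₀
  obtain ⟨d, hd⟩ : ∃ d : F₀, (d : F) = θ ^ 2 := ⟨⟨_, sq_skew K S hθ⟩, rfl⟩
  have hd0 : d ≠ 0 := fun e => pow_ne_zero 2 hθ0 (by rw [← hd, e]; rfl)
  have hdn : ¬ IsSquare d := fun ⟨x, hx⟩ => by
    have hx' : θ ^ 2 = (x : F) * x := by rw [← hd, hx]; rfl
    rcases mul_self_eq_mul_self_iff.1 (show θ * θ = (x : F) * x by rw [← hx']; ring) with e | e
    · exact skew_not_mem K S hθ0 hθ (e ▸ x.2)
    · exact skew_not_mem K S hθ0 hθ (e ▸ F₀.neg_mem x.2)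
  have hzn : ¬ IsSquare (⟨z, hz⟩ : F₀) := fun ⟨x, hx⟩ => hns x x.2 (by
    rw [pow_two]; exact (congrArg Subtype.val hx).symm)
  have hsq : IsSquare ((⟨z, hz⟩ : F₀) * d) := by
    have h0 : (⟨z, hz⟩ : F₀) * d ≠ 0 := mul_ne_zero (fun e => hzn (e ▸ IsSquare.zero)) hd0
    rw [← quadraticChar_one_iff_isSquare h0, map_mul, quadraticChar_neg_one_iff_not_isSquare.2 hzn,
      quadraticChar_neg_one_iff_not_isSquare.2 hdn]
    rfl
  obtain ⟨x, hx⟩ := hsq
  refine ⟨(x : F) / θ ^ 2, F₀.div_mem x.2 (sq_skew K S hθ), ?_⟩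
  have hx' : z * θ ^ 2 = (x : F) * x := by rw [← hd]; exact congrArg Subtype.val hx
  field_simp
  linear_combination hx'

/-- A value of an anisotropic binary form. -/
theorem binary {θ a₁ a₂ t : F} (hθ0 : θ ≠ 0) (hθ : θ + K.bar θ = 0) (h1 : a₁ ∈ F₀) (h2 : a₂ ∈ F₀)
    (ht : t ∈ F₀) (h10 : a₁ ≠ 0) (hns : ∀ x ∈ F₀, a₁ * x ^ 2 + a₂ ≠ 0) :
    ∃ x ∈ F₀, ∃ y ∈ F₀, a₁ * x ^ 2 + a₂ * y ^ 2 = t := by
  obtain ⟨k, hk, hk'⟩ := nsq K S hθ0 hθ (z := -a₂ / a₁) (F₀.div_mem (F₀.neg_mem h2) h1)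
    (fun x hx e => hns x hx (by rw [e]; field_simp; ring))
  have hk0 : k ≠ 0 := fun e => hns 0 F₀.zero_mem (by
    rw [e, zero_pow two_ne_zero, mul_zero, div_eq_zero_iff, or_iff_left h10, neg_eq_zero] at hk'
    rw [hk']; ring)
  obtain ⟨w, hw⟩ := K.exists_norm (t / a₁) (by
    rw [map_div₀, fixed K S ht, fixed K S h1])
  obtain ⟨x, hx, y, hy, rfl⟩ := parts K S hθ0 hθ w
  rw [map_add, map_mul, fixed K S hx, fixed K S hy, show K.bar θ = -θ by linear_combination hθ] at hw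
  refine ⟨x, hx, y / k, F₀.div_mem hy hk, ?_⟩
  have e1 : a₂ = -a₁ * (θ ^ 2 * k ^ 2) := by rw [← hk']; field_simp
  rw [e1]
  field_simp at hw ⊢
  linear_combination hw

theorem sing_emb {p : V} (hp : p ∈ rat F₀ P) (hpp : H p p = 0) :
    ∃ u, p = emb P u ∧ Q u = 0 := by
  obtain ⟨u, rfl⟩ := exists_emb hp
  exact ⟨u, rfl, (sing_iff K S.card S.rational S.two S.polar u).1 hpp⟩

/-- A rational vector orthogonal to three others. -/
theorem exists_perp {a b c : V} (ha : a ∈ rat F₀ P) (hb : b ∈ rat F₀ P) (hc : c ∈ rat F₀ P) :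
    ∃ y ∈ rat F₀ P, y ≠ 0 ∧ H y a = 0 ∧ H y b = 0 ∧ H y c = 0 := by
  classical
  obtain ⟨u, rfl⟩ := exists_emb ha
  obtain ⟨v, rfl⟩ := exists_emb hb
  obtain ⟨w, rfl⟩ := exists_emb hc
  have h := Orth.finrank_orth_span S.nondeg ({u, v, w} : Finset (Fin 4 → F₀))
  rw [Module.finrank_fin_fun] at h
  have hcard : ({u, v, w} : Finset (Fin 4 → F₀)).card ≤ 3 := Finset.card_le_three
  obtain ⟨y, hy, hy0⟩ := (Submodule.ne_bot_iff
    (Orth.orth Q (Submodule.span F₀ (({u, v, w} : Finset (Fin 4 → F₀)) : Set (Fin 4 → F₀))))).1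
    (fun e => by rw [e, finrank_bot] at h; omega)
  have hz : ∀ z ∈ ({u, v, w} : Finset (Fin 4 → F₀)), H (emb P y) (emb P z) = 0 := fun z hz => by
    refine h_eq_zero_symm K ?_
    rw [← S.polar, Orth.mem_orth.1 hy z (Submodule.subset_span hz)]; rfl
  exact ⟨_, emb_mem y, fun e => hy0 (emb_inj (P := P) (e.trans emb_zero.symm)),
    hz u (by simp), hz v (by simp), hz w (by simp)⟩

/-- A rational vector with values `0` and `1` at two independent ones. -/
theorem exists_dual {a b : V} (ha : a ∈ rat F₀ P) (hb : b ∈ rat F₀ P)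
    (hab : ∀ k ∈ F₀, b ≠ k • a) : ∃ y ∈ rat F₀ P, H y a = 0 ∧ H y b = 1 := by
  obtain ⟨u, rfl⟩ := exists_emb ha
  obtain ⟨v, rfl⟩ := exists_emb hb
  obtain ⟨y, hy, -, h1⟩ := exists_one K S.card S.rational S.nondeg S.polar
    (W := Submodule.span F₀ {u}) (x := v) fun h => by
      obtain ⟨k, hk⟩ := Submodule.mem_span_singleton.1 h
      exact hab k k.2 (by rw [← hk, emb_smul])
  exact ⟨_, emb_mem y, (hy u (Submodule.mem_span_singleton_self u)).2, h1⟩

/-- A nonzero rational isotropic vector. -/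
theorem exists_sing : ∃ p ∈ rat F₀ P, H p p = 0 ∧ p ≠ 0 := by
  obtain ⟨m, -, hm, -, hmP⟩ := exists_far K S.card S.rational S.two S.nondeg S.polar ∅ (by simp)
  exact ⟨_, emb_mem m, hm, fun e => hmP (by
    rw [emb_inj (P := P) (e.trans emb_zero.symm)]; exact Submodule.zero_mem _)⟩

/-- An isotropic partner. -/
theorem exists_partner {p : V} (hp : p ∈ rat F₀ P) (hpp : H p p = 0) (hp0 : p ≠ 0) :
    ∃ f ∈ rat F₀ P, H f f = 0 ∧ H p f = 1 ∧ H f p = 1 := by
  obtain ⟨y, hy, -, hy1⟩ := exists_dual K S (zero_mem _) hp fun k _ e => hp0 (by rw [e, smul_zero])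
  have hy1' : H p y = 1 := by rw [vs K S hy hp, hy1]
  have h2 := two_mem K S
  have hc : -(H y y) / 2 ∈ F₀ := F₀.div_mem (F₀.neg_mem (vm K S hy hy)) h2
  have h2' := S.two
  refine ⟨y + (-(H y y) / 2) • p, add_mem hy (smul_mem_rat hc hp), ?_, ?_, ?_⟩
  · simp only [h_add_left K, h_add_right K, h_smul_left K, h_smul_right K, fixed K S hc, hpp, hy1, hy1']
    field_simp
    ring
  · rw [h_add_right K, h_smul_right K, hpp, mul_zero, add_zero, hy1']
  · rw [h_add_left K, h_smul_left K, hpp, mul_zero, add_zero, hy1]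

/-- Four independent vectors have no common orthogonal. -/
theorem eq_zero_of_four {v : Fin 4 → V} (hv : ∀ c : Fin 4 → F, ∑ i, c i • v i = 0 → c = 0) {z : V}
    (hz : ∀ i, H z (v i) = 0) : z = 0 := by
  have hli : LinearIndependent F v := Fintype.linearIndependent_iff.2 fun c hc => congrFun (hv c hc)
  have htop := hli.span_eq_top_of_card_eq_finrank (by simp)
  refine h_nondeg K fun y => ?_
  have hy : y ∈ Submodule.span F (Set.range v) := htop ▸ Submodule.mem_top
  induction hy using Submodule.span_induction with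
  | mem x hx => obtain ⟨i, rfl⟩ := hx; exact hz i
  | zero => exact h_zero_right K z
  | add a b _ _ h1 h2 => rw [h_add_right K, h1, h2, add_zero]
  | smul c a _ h1 => rw [h_smul_right K, h1, mul_zero]

/-- Completion of a nondegenerate plane and a nonsingular vector to a basis. -/
theorem exists_ortho {a b r : V} (ha : a ∈ rat F₀ P) (hb : b ∈ rat F₀ P) (hr : r ∈ rat F₀ P)
    (hdet : H a a * H b b - H a b * H b a ≠ 0) (hra : H r a = 0) (hrb : H r b = 0) (hrr : H r r ≠ 0) :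
    ∃ y ∈ rat F₀ P, H y a = 0 ∧ H y b = 0 ∧ H y r = 0 ∧ H y y ≠ 0 := by
  obtain ⟨y, hy, hy0, ya, yb, yr⟩ := exists_perp K S ha hb hr
  refine ⟨y, hy, ya, yb, yr, fun hyy => hy0 ?_⟩
  refine eq_zero_of_four K S (v := ![a, b, r, y]) (fun c hc => ?_) fun i => by
    fin_cases i <;> assumption
  simp [Fin.sum_univ_four] at hc
  have e1 := congrArg (fun z => H z a) hc
  have e2 := congrArg (fun z => H z b) hc
  have e3 := congrArg (fun z => H z r) hc
  simp [h_add_left K, h_smul_left K, h_zero_left K, hra, hrb, ya, yb, yr, h_eq_zero_symm K hra,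
    h_eq_zero_symm K hrb, hrr] at e1 e2 e3
  have c0 : c 0 = 0 := by
    refine (mul_eq_zero.1 (show c 0 * (H a a * H b b - H a b * H b a) = 0 from ?_)).resolve_right hdet
    linear_combination H b b * e1 - H b a * e2
  have c1 : c 1 = 0 := by
    refine (mul_eq_zero.1 (show c 1 * (H a a * H b b - H a b * H b a) = 0 from ?_)).resolve_right hdet
    linear_combination H a a * e2 - H a b * e1
  rw [c0, c1, e3] at hc
  simp [hy0] at hc
  exact funext fun i => by fin_cases i <;> assumption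

/-- A nonsingular vector orthogonal to two, not spanning a totally singular plane. -/
theorem exists_nonsing {a b : V} (ha : a ∈ rat F₀ P) (hb : b ∈ rat F₀ P)
    (hne : H a a ≠ 0 ∨ H a b ≠ 0 ∨ H b b ≠ 0) :
    ∃ r ∈ rat F₀ P, H r a = 0 ∧ H r b = 0 ∧ H r r ≠ 0 := by
  classical
  obtain ⟨u, rfl⟩ := exists_emb ha
  obtain ⟨v, rfl⟩ := exists_emb hb
  have hW : Module.finrank F₀ (Submodule.span F₀ ({u, v} : Set (Fin 4 → F₀))) ≤ 2 := by
    have h1 := finrank_span_finset_le_card (R := F₀) ({u, v} : Finset (Fin 4 → F₀))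
    rw [Set.finrank, Finset.coe_pair] at h1
    have h3 : ({u, v} : Finset (Fin 4 → F₀)).card ≤ 2 := Finset.card_le_two
    omega
  obtain ⟨y, hy, hyy⟩ := exists_nonsingular K S.card S.rational S.two S.nondeg S.polar
    (W := Submodule.span F₀ ({u, v} : Set (Fin 4 → F₀))) (by omega) (Or.inl fun hle => by
      have h0 : ∀ x ∈ ({u, v} : Set (Fin 4 → F₀)), ∀ y ∈ ({u, v} : Set (Fin 4 → F₀)),
          H (emb P x) (emb P y) = 0 := fun x hx y hy => by
        rw [← S.polar, Orth.mem_orth.1 (hle (Submodule.subset_span hy)) x (Submodule.subset_span hx)]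
        rfl
      rcases hne with h | h | h
      · exact h (h0 u (by simp) u (by simp))
      · exact h (h0 u (by simp) v (by simp))
      · exact h (h0 v (by simp) v (by simp)))
  have hz : ∀ z ∈ ({u, v} : Set (Fin 4 → F₀)), H (emb P y) (emb P z) = 0 := fun z hz => by
    refine h_eq_zero_symm K ?_
    rw [← S.polar, Orth.mem_orth.1 hy z (Submodule.subset_span hz)]; rfl
  exact ⟨_, emb_mem y, hz u (by simp), hz v (by simp), hyy⟩

/-- A hyperbolic pair completed to an orthogonal frame. -/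
theorem exists_frame {p f : V} (hp : p ∈ rat F₀ P) (hf : f ∈ rat F₀ P) (hpp : H p p = 0)
    (hff : H f f = 0) (hpf : H p f = 1) :
    ∃ r ∈ rat F₀ P, ∃ y ∈ rat F₀ P, H r p = 0 ∧ H r f = 0 ∧ H r r ≠ 0 ∧
      H y p = 0 ∧ H y f = 0 ∧ H y r = 0 ∧ H y y ≠ 0 := by
  obtain ⟨r, hr, rp, rf, rr⟩ := exists_nonsing K S hp hf (Or.inr (Or.inl (by rw [hpf]; exact one_ne_zero)))
  obtain ⟨y, hy, yp, yf, yr, yy⟩ := exists_ortho K S hp hf hr (by
    rw [hpp, hff, hpf, vs K S hp hf, hpf]; simp) rp rf rr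
  exact ⟨r, hr, y, hy, rp, rf, rr, yp, yf, yr, yy⟩

/-- Coordinates in such a frame. -/
theorem frame_eq {p f r y : V} (hp : p ∈ rat F₀ P) (hf : f ∈ rat F₀ P) (hpp : H p p = 0)
    (hff : H f f = 0) (hpf : H p f = 1) (rp : H r p = 0) (rf : H r f = 0) (rr : H r r ≠ 0)
    (yp : H y p = 0) (yf : H y f = 0) (yr : H y r = 0) (yy : H y y ≠ 0) (z : V) :
    z = H z f • p + H z p • f + (H z r / H r r) • r + (H z y / H y y) • y := by
  have hfp : H f p = 1 := by rw [vs K S hp hf, hpf]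
  have pr := h_eq_zero_symm K rp
  have fr := h_eq_zero_symm K rf
  have py := h_eq_zero_symm K yp
  have fy := h_eq_zero_symm K yf
  have ry := h_eq_zero_symm K yr
  refine sub_eq_zero.1 (eq_zero_of_four K S (v := ![p, f, r, y]) (fun c hc => ?_) fun i => ?_)
  · simp [Fin.sum_univ_four] at hc
    have e1 := congrArg (fun z => H z f) hc
    have e2 := congrArg (fun z => H z p) hc
    have e3 := congrArg (fun z => H z r) hc
    have e4 := congrArg (fun z => H z y) hc
    simp [h_add_left K, h_smul_left K, h_zero_left K, hpp, hff, hpf, hfp, rp, rf, rr, yp, yf, yr, yy,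
      pr, fr, py, fy, ry] at e1 e2 e3 e4
    exact funext fun i => by fin_cases i <;> assumption
  · fin_cases i <;>
      simp [h_sub_left K, h_add_left K, h_smul_left K, hpp, hff, hpf, hfp, rp, rf, rr, yp, yf, yr, yy,
        pr, fr, py, fy, ry]

/-- The product of two rational reflections. -/
theorem exists_refl2 {a b : V} (ha : a ∈ rat F₀ P) (hb : b ∈ rat F₀ P) (haa : H a a ≠ 0)
    (hbb : H b b ≠ 0) :
    ∃ g : G, g ∈ M ∧ ∀ z, app g z = (z + (-2 / H b b * H z b) • b) +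
      (-2 / H a a * H (z + (-2 / H b b * H z b) • b) a) • a := by
  have hl : ∀ {a : V}, a ∈ rat F₀ P → H a a ≠ 0 → -2 / H a a ∈ F₀ ∧
      (-2 / H a a) + K.bar (-2 / H a a) + (-2 / H a a) * K.bar (-2 / H a a) * H a a = 0 ∧
      (quasi K a (-2 / H a a)).det = -1 := fun {a} ha haa => by
    have hm : -2 / H a a ∈ F₀ := F₀.div_mem (F₀.neg_mem (two_mem K S)) (vm K S ha ha)
    refine ⟨hm, ?_, ?_⟩
    · rw [fixed K S hm]; field_simp; ring
    · rw [det_quasi]; field_simp; ring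
  obtain ⟨ma, la, da⟩ := hl ha haa
  obtain ⟨mb, lb, db⟩ := hl hb hbb
  obtain ⟨g, hg⟩ : ∃ g : G, g.1.1 = quasi K a (-2 / H a a) * quasi K b (-2 / H b b) :=
    ⟨⟨⟨quasi K a (-2 / H a a) * quasi K b (-2 / H b b), by rw [det_mul, da, db]; ring⟩,
      fun x y => by
        show H ((quasi K a _ * quasi K b _) *ᵥ x) ((quasi K a _ * quasi K b _) *ᵥ y) = _
        rw [← mulVec_mulVec, ← mulVec_mulVec, quasi_isometry K la, quasi_isometry K lb]⟩, rfl⟩
  have happ : ∀ z, app g z = (z + (-2 / H b b * H z b) • b) +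
      (-2 / H a a * H (z + (-2 / H b b * H z b) • b) a) • a := fun z => by
    show g.1.1 *ᵥ z = _
    rw [hg, ← mulVec_mulVec, quasi_apply, quasi_apply]
  refine ⟨g, S.le g ((toGLHom_mem_subfield_iff g).2 ⟨1, one_ne_zero,
    fun x hx => ⟨app g x, ?_, (one_smul F _).symm⟩⟩), happ⟩
  have h1 := add_mem hx (smul_mem_rat (F₀.mul_mem mb (vm K S hx hb)) hb)
  rw [happ]
  exact add_mem h1 (smul_mem_rat (F₀.mul_mem ma (vm K S h1 ha)) ha)

/-- An isotropic rational vector orthogonal to neither of two isotropic ones. -/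
theorem exists_both {a b : V} (ha : a ∈ rat F₀ P) (hb : b ∈ rat F₀ P) (haa : H a a = 0)
    (hbb : H b b = 0) (ha0 : a ≠ 0) (hb0 : b ≠ 0) :
    ∃ s ∈ rat F₀ P, H s s = 0 ∧ H s a ≠ 0 ∧ H s b ≠ 0 := by
  have h2 := two_mem K S
  have h2' := S.two
  by_cases hab : ∀ k ∈ F₀, b ≠ k • a
  · by_cases h : H a b = 0
    · have hba : ∀ k ∈ F₀, a ≠ k • b := fun k hk e => by
        have hk0 : k ≠ 0 := fun e0 => ha0 (by rw [e, e0, zero_smul])
        exact hab k⁻¹ (F₀.inv_mem hk) (by rw [e, smul_smul, inv_mul_cancel₀ hk0, one_smul])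
      obtain ⟨y₁, hy₁, y1a, y1b⟩ := exists_dual K S ha hb hab
      obtain ⟨y₂, hy₂, y2b, y2a⟩ := exists_dual K S hb ha hba
      obtain ⟨y, hy⟩ : ∃ y, y = y₁ + y₂ := ⟨_, rfl⟩
      have hyR : y ∈ rat F₀ P := hy ▸ add_mem hy₁ hy₂
      have ya : H y a = 1 := by rw [hy, h_add_left K, y1a, y2a, zero_add]
      have yb : H y b = 1 := by rw [hy, h_add_left K, y1b, y2b, add_zero]
      have ay : H a y = 1 := by rw [vs K S hyR ha, ya]
      have hc : -(H y y) / 2 ∈ F₀ := F₀.div_mem (F₀.neg_mem (vm K S hyR hyR)) h2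
      refine ⟨y + (-(H y y) / 2) • a, add_mem hyR (smul_mem_rat hc ha), ?_, ?_, ?_⟩
      · simp only [h_add_left K, h_add_right K, h_smul_left K, h_smul_right K, fixed K S hc, haa, ya, ay]
        field_simp
        ring
      · rw [h_add_left K, h_smul_left K, ya, haa, mul_zero, add_zero]; exact one_ne_zero
      · rw [h_add_left K, h_smul_left K, yb, h, mul_zero, add_zero]; exact one_ne_zero
    · obtain ⟨y, hy, ya, yb, yy⟩ := exists_nonsing K S ha hb (Or.inr (Or.inl h))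
      obtain ⟨c, hc⟩ : ∃ c, c = -(H y y) / (2 * H a b) := ⟨_, rfl⟩
      have hcF : c ∈ F₀ := hc ▸ F₀.div_mem (F₀.neg_mem (vm K S hy hy)) (F₀.mul_mem h2 (vm K S ha hb))
      have hc0 : c ≠ 0 := hc ▸ div_ne_zero (neg_ne_zero.2 yy) (mul_ne_zero h2' h)
      have hba := vs K S ha hb
      refine ⟨a + y + c • b, add_mem (add_mem ha hy) (smul_mem_rat hcF hb), ?_, ?_, ?_⟩
      · simp only [h_add_left K, h_add_right K, h_smul_left K, h_smul_right K, fixed K S hcF, haa, hbb,
          ya, yb, h_eq_zero_symm K ya, h_eq_zero_symm K yb, hba]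
        rw [hc]
        field_simp
        ring
      · simp only [h_add_left K, h_smul_left K, haa, ya, hba, zero_add]; exact mul_ne_zero hc0 h
      · simp only [h_add_left K, h_smul_left K, hbb, yb, mul_zero, add_zero]; exact h
  · push Not at hab
    obtain ⟨k, hk, rfl⟩ := hab
    obtain ⟨f, hf, hff, -, hfa⟩ := exists_partner K S ha haa ha0
    refine ⟨f, hf, hff, by rw [hfa]; exact one_ne_zero, ?_⟩
    rw [h_smul_right K, hfa, mul_one, fixed K S hk]
    exact fun e => hb0 (by rw [e, zero_smul])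

/-- The rational group moves any isotropic rational vector to a multiple of any other. -/
theorem exists_move {a b : V} (ha : a ∈ rat F₀ P) (hb : b ∈ rat F₀ P) (haa : H a a = 0)
    (hbb : H b b = 0) (ha0 : a ≠ 0) (hb0 : b ≠ 0) :
    ∃ g : G, g ∈ M ∧ ∃ k ∈ F₀, k ≠ 0 ∧ app g a = k • b := by
  obtain ⟨s, hs, hss, sa, sb⟩ := exists_both K S ha hb haa hbb ha0 hb0
  have hka : (H s a)⁻¹ ∈ F₀ := F₀.inv_mem (vm K S hs ha)
  have hkb : (H s b)⁻¹ ∈ F₀ := F₀.inv_mem (vm K S hs hb)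
  obtain ⟨a', ha'⟩ : ∃ a', a' = (H s a)⁻¹ • a := ⟨_, rfl⟩
  obtain ⟨b', hb'⟩ : ∃ b', b' = (H s b)⁻¹ • b := ⟨_, rfl⟩
  have ha'R : a' ∈ rat F₀ P := ha' ▸ smul_mem_rat hka ha
  have hb'R : b' ∈ rat F₀ P := hb' ▸ smul_mem_rat hkb hb
  have hsa : H s a' = 1 := by rw [ha', h_smul_right K, fixed K S hka, inv_mul_cancel₀ sa]
  have hsb : H s b' = 1 := by rw [hb', h_smul_right K, fixed K S hkb, inv_mul_cancel₀ sb]
  have has : H a' s = 1 := by rw [vs K S hs ha'R, hsa]
  have hbs : H b' s = 1 := by rw [vs K S hs hb'R, hsb]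
  have haa' : H a' a' = 0 := by rw [ha', h_smul_left K, h_smul_right K, haa, mul_zero, mul_zero]
  have hbb' : H b' b' = 0 := by rw [hb', h_smul_left K, h_smul_right K, hbb, mul_zero, mul_zero]
  obtain ⟨c, hc⟩ : ∃ c, c = H b' a' := ⟨_, rfl⟩
  have hcF : c ∈ F₀ := hc ▸ vm K S hb'R ha'R
  have hab : H a' b' = c := by rw [vs K S hb'R ha'R, hc]
  obtain ⟨w, hw⟩ : ∃ w, w = b' - a' - c • s := ⟨_, rfl⟩
  have hwR : w ∈ rat F₀ P := hw ▸ sub_mem (sub_mem hb'R ha'R) (smul_mem_rat hcF hs)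
  obtain ⟨g, hg⟩ := exists_E (K := K) (n := 4) (by norm_num) (a := s) (b := w) (c := c) hss
    (by simp only [hw, h_sub_left K, h_smul_left K, hbs, has, hss]; ring)
    (by simp only [hw, h_sub_left K, h_sub_right K, h_smul_left K, h_smul_right K, fixed K S hcF, hbb',
          haa', hss, hbs, has, hsa, hsb, hab, ← hc]
        ring)
  have e : app g a' = b' := by
    rw [hg.2.2.2, has, show H a' w = 0 by
      simp only [hw, h_sub_right K, h_smul_right K, fixed K S hcF, hab, haa', has]; ring]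
    rw [hw]
    module
  refine ⟨g, rat_E_mem K S.card S.rational S.le hs hwR hcF hg, H s a / H s b,
    F₀.div_mem (vm K S hs ha) (vm K S hs hb), div_ne_zero sa sb, ?_⟩
  rw [ha', hb', app_smul] at e
  rw [div_eq_mul_inv, mul_smul, ← e, smul_smul, mul_inv_cancel₀ sa, one_smul]

/-- Two centres with skew product are moved into one another. -/
theorem jump {a b : V} (ha : a ∈ centres K M) (hb : b ∈ centres K M)
    (hskew : H a b + K.bar (H a b) = 0) (hab : H a b ≠ 0) :
    ∃ g : G, g ∈ M ∧ app g a = b ∧ ∀ z, H z a = 0 → H z b = 0 → app g z = z := by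
  have hba : H b a = -H a b := by rw [h_swap K a b]; linear_combination hskew
  have hh : K.bar (H a b) = -H a b := by linear_combination hskew
  have hk : (H a b)⁻¹ + K.bar (H a b)⁻¹ = 0 := by rw [map_inv₀, hh, inv_neg, add_neg_cancel]
  have hd : b - a ∈ centres K M := by
    obtain ⟨t, ht⟩ := exists_T K ha.1 hk
    have := app_mem_centres K (ha.2 t _ ht) hb
    rwa [ht.2.2, hba, mul_neg, inv_mul_cancel₀ hab, neg_smul, one_smul, ← sub_eq_add_neg] at this
  obtain ⟨t, ht⟩ := exists_T K hd.1 hk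
  refine ⟨t, hd.2 t _ ht, ?_, fun z hza hzb => ?_⟩
  · rw [ht.2.2, h_sub_right K, ha.1, sub_zero, inv_mul_cancel₀ hab, one_smul, add_sub_cancel]
  · rw [ht.2.2, h_sub_right K, hzb, hza, sub_zero, mul_zero, zero_smul, add_zero]

/-- A rational centre gives everything. -/
theorem eq_top_of_centre {p : V} (hp : p ∈ rat F₀ P) (hp0 : p ≠ 0) (hpc : p ∈ centres K M) : M = ⊤ := by
  have hpp : H p p = 0 := hpc.1
  obtain ⟨θ, hθ0, hθ⟩ := exists_skew K
  have hθb : K.bar θ = -θ := by linear_combination hθ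
  have hC : ∀ a ∈ rat F₀ P, H a a = 0 → a ∈ centres K M := fun a ha haa => by
    by_cases ha0 : a = 0
    · rw [ha0, ← zero_smul F p]; exact smul_mem_centres K 0 hpc
    obtain ⟨g, hg, k, -, hk0, e⟩ := exists_move K S hp ha hpp haa hp0 ha0
    have := smul_mem_centres K k⁻¹ (app_mem_centres K hg hpc)
    rwa [e, smul_smul, inv_mul_cancel₀ hk0, one_smul] at this
  obtain ⟨f, hf, hff, hpf, hfp⟩ := exists_partner K S hp hpp hp0
  obtain ⟨r, hr, y, hy, rp, rf, rr, yp, yf, yr, yy⟩ := exists_frame K S hp hf hpp hff hpf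
  have hone : ∀ w c g, IsE K g p w c → g ∈ M → ∀ c' g', IsE K g' p w c' → g' ∈ M := by
    intro w c g hg hgM c' g' hg'
    have hd : (c' - c) + K.bar (c' - c) = 0 := by
      rw [map_sub]; linear_combination hg'.2.2.1 - hg.2.2.1
    obtain ⟨t, ht⟩ := exists_T K hpp hd
    have e : g' = t * g := ext_app fun x => by
      rw [app_mul, ht.2.2, hg.2.2.2, hg'.2.2.2]
      simp only [h_add_left K, h_sub_left K, h_smul_left K, hpp, hg.2.1]
      module
    rw [e]
    exact M.mul_mem (hpc.2 t _ ht) hgM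
  let W : Set V := {w | H w p = 0 ∧ ∃ c, ∃ g ∈ M, IsE K g p w c}
  have hWadd : ∀ w ∈ W, ∀ w' ∈ W, w + w' ∈ W := by
    rintro w ⟨hw, c, g, hg, hgE⟩ w' ⟨hw', c', g', hg', hgE'⟩
    exact ⟨by rw [h_add_left K, hw, hw', add_zero], _, g * g', M.mul_mem hg hg', isE_mul hgE hgE'⟩
  have hWrat : ∀ x ∈ rat F₀ P, H x p = 0 → x ∈ W := fun x hx hxp => by
    obtain ⟨c, g, hg, hgE⟩ := exists_rat_E K S.card S.rational S.two S.le (by norm_num) hp hx hpp hxp
    exact ⟨hxp, c, g, hg, hgE⟩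
  have hWline : ∀ a : F, a • p ∈ W := fun a => by
    refine ⟨by rw [h_smul_left K, hpp, mul_zero], 0, ?_⟩
    obtain ⟨g, hg⟩ := exists_E (K := K) (n := 4) (a := p) (b := a • p) (c := 0) (by norm_num) hpp
      (by rw [h_smul_left K, hpp, mul_zero])
      (by rw [h_smul_left K, h_smul_right K, hpp, map_zero]; ring)
    refine ⟨g, ?_, hg⟩
    refine hpc.2 g (a - K.bar a) ⟨hpp, by rw [map_sub, K.bar_bar]; ring, fun x => ?_⟩
    rw [hg.2.2.2, h_smul_right K]
    module
  -- a loop through three rational centres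
  have hskewW : ∀ r ∈ rat F₀ P, ∀ y ∈ rat F₀ P, H r p = 0 → H r f = 0 → H y p = 0 → H y f = 0 →
      H y r = 0 → H y y ≠ 0 → ∀ t ∈ F₀, (t * θ) • r ∈ W := by
    intro r hr y hy rp rf yp yf yr yy t ht
    obtain ⟨c, hc⟩ : ∃ c, c = -(H y y) / 2 := ⟨_, rfl⟩
    have hcF : c ∈ F₀ := hc ▸ F₀.div_mem (F₀.neg_mem (vm K S hy hy)) (two_mem K S)
    have hc0 : c ≠ 0 := hc ▸ div_ne_zero (neg_ne_zero.2 yy) S.two
    obtain ⟨s, hsd⟩ : ∃ s, s = f + y + c • p := ⟨_, rfl⟩
    have hs : s ∈ rat F₀ P := hsd ▸ add_mem (add_mem hf hy) (smul_mem_rat hcF hp)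
    have h2 := S.two
    have py := h_eq_zero_symm K yp
    have fy := h_eq_zero_symm K yf
    have hss : H s s = 0 := by
      simp only [hsd, h_add_left K, h_add_right K, h_smul_left K, h_smul_right K, fixed K S hcF, hpp,
        hff, hpf, hfp, yp, yf, py, fy]
      rw [hc]; field_simp; ring
    have hfs : H f s = c := by
      simp only [hsd, h_add_right K, h_smul_right K, fixed K S hcF, hff, fy, hfp]; ring
    have hsp : H s p = 1 := by
      simp only [hsd, h_add_left K, h_smul_left K, hfp, yp, hpp]; ring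
    have rs : H r s = 0 := by
      simp only [hsd, h_add_right K, h_smul_right K, rf, rp, h_eq_zero_symm K yr]; ring
    obtain ⟨g₁, hg₁, e₁, fix₁⟩ := jump K S hpc (smul_mem_centres K θ (hC f hf hff))
      (by rw [h_smul_right K, hpf, mul_one, K.bar_bar]; linear_combination hθ)
      (by rw [h_smul_right K, hpf, mul_one]; simpa using hθ0)
    obtain ⟨g₂, hg₂, e₂, fix₂⟩ := jump K S (smul_mem_centres K θ (hC f hf hff)) (hC s hs hss)
      (by rw [h_smul_left K, hfs, map_mul, fixed K S hcF, hθb]; ring)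
      (by rw [h_smul_left K, hfs]; exact mul_ne_zero hθ0 hc0)
    obtain ⟨g₃, hg₃, e₃, fix₃⟩ := jump K S (hC s hs hss) (smul_mem_centres K θ hpc)
      (by rw [h_smul_right K, hsp, mul_one, K.bar_bar]; linear_combination hθ)
      (by rw [h_smul_right K, hsp, mul_one]; simpa using hθ0)
    obtain ⟨m, hm⟩ : ∃ m : G, m = g₃ * g₂ * g₁ := ⟨_, rfl⟩
    have hmM : m ∈ M := hm ▸ M.mul_mem (M.mul_mem hg₃ hg₂) hg₁
    have hmp : app m p = θ • p := by rw [hm, app_mul, app_mul, e₁, e₂, e₃]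
    have rθf : H r (θ • f) = 0 := by rw [h_smul_right K, rf, mul_zero]
    have rθp : H r (θ • p) = 0 := by rw [h_smul_right K, rp, mul_zero]
    have hmr : app m r = r := by
      rw [hm, app_mul, app_mul, fix₁ r rp rθf, fix₂ r rθf rs, fix₃ r rs rθp]
    obtain ⟨c₀, E, hE, hEE⟩ := exists_rat_E K S.card S.rational S.two S.le (by norm_num) hp
      (smul_mem_rat (F₀.neg_mem ht) hr) hpp
      (by rw [h_smul_left K, rp, mul_zero])
    have h1 := isE_conj hEE m
    rw [hmp, app_smul, hmr] at h1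
    refine ⟨by rw [h_smul_left K, rp, mul_zero], θ * K.bar θ * c₀, m * E * m⁻¹,
      M.mul_mem (M.mul_mem hmM hE) (M.inv_mem hmM), hpp, by rw [h_smul_left K, rp, mul_zero], ?_,
      fun x => ?_⟩
    · have := h1.2.2.1
      have h0 := hEE.2.2.1
      simp only [h_smul_left K, h_smul_right K, map_mul, map_neg, fixed K S ht, hθb, neg_neg] at h0 ⊢
      linear_combination -(θ * θ) * h0
    · rw [h1.2.2.2]
      simp only [h_smul_right K, map_mul, map_neg, fixed K S ht, hθb]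
      module
  have hfull : ∀ w, H w p = 0 → w ∈ W := fun w hw => by
    have hvec : ∀ r ∈ rat F₀ P, ∀ y ∈ rat F₀ P, H r p = 0 → H r f = 0 → H y p = 0 → H y f = 0 →
        H y r = 0 → H y y ≠ 0 → ∀ k : F, k • r ∈ W := by
      intro r hr y hy rp rf yp yf yr yy k
      obtain ⟨s, hs, t, ht, rfl⟩ := parts K S hθ0 hθ k
      rw [add_smul]
      exact hWadd _ (hWrat _ (smul_mem_rat hs hr) (by rw [h_smul_left K, rp, mul_zero])) _
        (hskewW r hr y hy rp rf yp yf yr yy t ht)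
    rw [frame_eq K S hp hf hpp hff hpf rp rf rr yp yf yr yy w, hw, zero_smul, add_zero]
    exact hWadd _ (hWadd _ (hWline _) _ (hvec r hr y hy rp rf yp yf yr yy _)) _
      (hvec y hy r hr yp yf rp rf (h_eq_zero_symm K yr) rr _)
  refine eq_top_of_centres K (by norm_num) fun v hv => ?_
  by_cases hv0 : v = 0
  · rw [hv0, ← zero_smul F p]; exact smul_mem_centres K 0 hpc
  -- a rational singular point not orthogonal to `v`
  obtain ⟨a, ha, haa, hva⟩ : ∃ a ∈ rat F₀ P, H a a = 0 ∧ H v a ≠ 0 := by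
    by_contra hc
    push Not at hc
    have e1 := hc p hp hpp
    have e2 := hc f hf hff
    have hvy : ∀ y ∈ rat F₀ P, H y p = 0 → H y f = 0 → H v y = 0 := fun y hy yp yf => by
      have hcF : -(H y y) / 2 ∈ F₀ := F₀.div_mem (F₀.neg_mem (vm K S hy hy)) (two_mem K S)
      have := hc (f + y + (-(H y y) / 2) • p) (add_mem (add_mem hf hy) (smul_mem_rat hcF hp)) (by
        have h2 := S.two
        simp only [h_add_left K, h_add_right K, h_smul_left K, h_smul_right K, fixed K S hcF, hpp,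
          hff, hpf, hfp, yp, yf, h_eq_zero_symm K yp, h_eq_zero_symm K yf]
        field_simp; ring)
      simpa [h_add_right K, h_smul_right K, e1, e2] using this
    exact hv0 (by rw [frame_eq K S hp hf hpp hff hpf rp rf rr yp yf yr yy v, e1, e2,
      hvy r hr rp rf, hvy y hy yp yf]; simp)
  have ha0 : a ≠ 0 := fun e => hva (by rw [e]; exact h_zero_right K v)
  obtain ⟨g, hg, k, hk, hk0, e⟩ := exists_move K S ha hp haa hpp ha0 hp0
  obtain ⟨v₁, hv₁⟩ : ∃ v₁, v₁ = app g v := ⟨_, rfl⟩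
  have hvp : H v₁ p ≠ 0 := fun h0 => hva (by
    rw [← h_app g v a, ← hv₁, e, h_smul_right K, h0, mul_zero])
  suffices hv₁c : v₁ ∈ centres K M by
    have := app_mem_centres K (M.inv_mem hg) hv₁c
    rwa [hv₁, app_inv] at this
  have hv₁v : H v₁ v₁ = 0 := by rw [hv₁, h_app]; exact hv
  obtain ⟨v', hv'⟩ : ∃ v', v' = (H v₁ p)⁻¹ • v₁ := ⟨_, rfl⟩
  have hv'p : H v' p = 1 := by rw [hv', h_smul_left K, inv_mul_cancel₀ hvp]
  have hv'v : H v' v' = 0 := by rw [hv', h_smul_left K, h_smul_right K, hv₁v, mul_zero, mul_zero]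
  obtain ⟨w, hw⟩ : ∃ w, w = v' - f - H v' f • p := ⟨_, rfl⟩
  have hwp : H w p = 0 := by
    rw [hw, h_sub_left K, h_sub_left K, h_smul_left K, hv'p, hfp, hpp]; ring
  have hwf : H f w = 0 := by
    refine h_eq_zero_symm K ?_
    rw [hw, h_sub_left K, h_sub_left K, h_smul_left K, hff, hpf]; ring
  have hc : H w w + H v' f + K.bar (H v' f) = 0 := by
    rw [← h_swap K, hw]
    simp only [h_sub_left K, h_sub_right K, h_smul_left K, h_smul_right K, hv'v, hv'p, hfp, hff,
      hpp, hpf, h_swap K p v', h_swap K f v', ← h_swap K v' p, map_one]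
    simp only [h_swap K v' p, hv'p, map_one, ← h_swap K v' f]
    ring
  obtain ⟨-, c₀, g₀, hg₀, hgE₀⟩ := hfull w hwp
  obtain ⟨t, ht⟩ := exists_E (K := K) (n := 4) (by norm_num) hpp hwp hc
  have htM := hone w c₀ g₀ hgE₀ hg₀ _ t ht
  have e' : app t f = v' := by rw [ht.2.2.2, hfp, hwf, hw]; module
  have := app_mem_centres K htM (hC f hf hff)
  rw [e'] at this
  have h := smul_mem_centres K (H v₁ p) this
  rwa [hv', smul_smul, mul_inv_cancel₀ hvp, one_smul] at h

/-- One transvection at an image of a rational isotropic vector gives everything. -/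
theorem eq_top_of_T {g T : G} (hg : g ∈ M) {p : V} (hp : p ∈ rat F₀ P) (hp0 : p ≠ 0) {c : F}
    (hc : c ≠ 0) (hT : IsT K T (app g p) c) (hTM : T ∈ M) : M = ⊤ := by
  have hpp : H p p = 0 := by rw [← h_app g]; exact hT.1
  have h0 : ∃ T ∈ M, IsT K T p c := ⟨g⁻¹ * T * g, M.mul_mem (M.mul_mem (M.inv_mem hg) hTM) hg, hpp,
    hT.2.1, fun x => by rw [app_mul, app_mul, hT.2.2, app_add, app_smul, app_inv, app_inv, h_app]⟩
  obtain ⟨f, hf, hff, hpf, hfp⟩ := exists_partner K S hp hpp hp0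
  have hsq : ∀ a ∈ F₀, ∃ T ∈ M, IsT K T p (c * a ^ 2) := by
    intro a ha
    by_cases ha0 : a = 0
    · exact ⟨1, M.one_mem, hpp, by rw [ha0]; simp, fun x => by rw [app_one, ha0]; simp⟩
    have hx : ∀ l ∈ F₀, l ≠ 0 → p + l • f ∈ rat F₀ P ∧ H (p + l • f) (p + l • f) = 2 * l := fun l hl _ =>
      ⟨add_mem hp (smul_mem_rat hl hf), by
        simp only [h_add_left K, h_add_right K, h_smul_left K, h_smul_right K, fixed K S hl, hpp, hff,
          hpf, hfp]
        ring⟩
    obtain ⟨r1, n1⟩ := hx 1 F₀.one_mem one_ne_zero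
    obtain ⟨r2, n2⟩ := hx a⁻¹ (F₀.inv_mem ha) (inv_ne_zero ha0)
    have h2 := S.two
    -- the torus element scaling `p` by `a`
    obtain ⟨m, hm, hmz⟩ := exists_refl2 K S r2 r1 (by rw [n2]; exact mul_ne_zero S.two (inv_ne_zero ha0))
      (by rw [n1]; exact mul_ne_zero S.two one_ne_zero)
    have hmp : app m p = a • p := by
      rw [hmz, n1, n2]
      simp only [h_add_left K, h_add_right K, h_smul_left K, h_smul_right K, map_one, hpp, hff, hpf,
        hfp, fixed K S (F₀.inv_mem ha)]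
      match_scalars <;> field_simp <;> ring
    obtain ⟨T, hTM, hT⟩ := h0
    refine ⟨m * T * m⁻¹, M.mul_mem (M.mul_mem hm hTM) (M.inv_mem hm), hpp, ?_, fun x => ?_⟩
    · rw [map_mul, map_pow, fixed K S ha]; linear_combination (a ^ 2) * hT.2.1
    · rw [app_mul, app_mul, hT.2.2, app_add, app_smul, app_inv']
      rw [show H (app m⁻¹ x) p = H x (a • p) by rw [← hmp, ← h_app m, app_inv'], hmp, h_smul_right K,
        fixed K S ha, smul_smul]
      congr 2
      ring
  refine eq_top_of_centre K S hp hp0 ⟨hpp, fun t d hd => ?_⟩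
  obtain ⟨l, hl⟩ : ∃ l, l = d / c := ⟨_, rfl⟩
  have hlF : l ∈ F₀ := mem_of_fixed K S (by
    rw [hl, map_div₀, show K.bar d = -d by linear_combination hd.2.1,
      show K.bar c = -c by linear_combination hT.2.1, neg_div_neg_eq])
  have h2 := two_mem K S
  obtain ⟨T₁, hT₁M, hT₁⟩ := hsq ((l + 1) / 2) (F₀.div_mem (F₀.add_mem hlF F₀.one_mem) h2)
  obtain ⟨T₂, hT₂M, hT₂⟩ := hsq ((l - 1) / 2) (F₀.div_mem (F₀.sub_mem hlF F₀.one_mem) h2)
  have e : t = T₂⁻¹ * T₁ := by
    rw [eq_inv_mul_iff_mul_eq]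
    refine ext_app fun x => ?_
    rw [app_mul, hd.2.2, hT₂.2.2, hT₁.2.2]
    simp only [h_add_left K, h_smul_left K, hpp, mul_zero, add_zero, add_assoc, ← add_smul]
    congr 2
    have h2' := S.two
    rw [hl]
    field_simp
    ring
  rw [e]
  exact M.mul_mem (M.inv_mem hT₂M) hT₁M

/-- A Siegel element at a rational axis with an irrational value gives everything. -/
theorem eq_top_of_pair {E₁ : G} (hE₁M : E₁ ∈ M) {p r w : V} {c : F} (hp : p ∈ rat F₀ P) (hp0 : p ≠ 0)
    (hr : r ∈ rat F₀ P) (hE₁ : IsE K E₁ p w c) (hrp : H r p = 0) (hη : H w r ∉ F₀) : M = ⊤ := by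
  obtain ⟨u, rfl⟩ := exists_emb hp
  obtain ⟨v, rfl⟩ := exists_emb hr
  exact eq_top_of_centre K S (emb_mem u) hp0
    (centre_of_pair K S.card S.rational S.two S.le S.nondeg S.polar (by norm_num) hE₁.1 hE₁M hE₁ hrp hη)

end CfsgLib.Classical.HermFour.OrthSub
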