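import Cfsg.Agent.Lib.Classical.UnitaryPair
import Cfsg.Agent.Lib.Classical.UnitaryDecompMax.Scalars

set_option autoImplicit false
set_option linter.unusedSectionVars false

/-!
The stabiliser of a pair of complementary totally singular planes is maximal in the special unitary
group of dimension four, for more than three scalars in the fixed field.
-/

namespace CfsgLib.Classical.HermFour

open Matrix Cfsg CfsgLib.Classical.Herm CfsgLib.Classical.HermPair
open CfsgLib.ClassicalAut (Unitary.Conj Unitary.space Unitary.skewSurj)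

variable {F : Type*} [Field F] [Finite F] {q : ℕ} (K : Unitary.Conj F q) {n : ℕ}
  {U W : Submodule F (Fin n → F)} {M : Subgroup (SU n F q)}

local notation "H" => hermForm n F q
local notation "G" => SU n F q

include K

/-- A fixed scalar whose square is not one. -/
theorem exists_fixed_sq (hq : 4 ≤ q) : ∃ r : F, K.bar r = r ∧ r ≠ 0 ∧ r ^ 2 ≠ 1 := by
  classical
  cases nonempty_fintype F
  by_contra hc
  push Not at hc
  have h : (Finset.univ.filter fun c : F => K.bar c = c ∧ c ≠ 0) ⊆ ({1, -1} : Finset F) :=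
    fun c hc' => by
      rw [Finset.mem_filter] at hc'
      simpa using sq_eq_one_iff.1 (hc c hc'.2.1 hc'.2.2)
  have h1 := (Finset.card_le_card h).trans Finset.card_le_two
  have h2 := card_fixed K
  rw [Nat.card_eq_fintype_card, Fintype.card_subtype] at h2
  omega

/-- The torus of a hyperbolic pair meeting both members. -/
theorem exists_torus (P : Pol q 2 U W) {e f : Fin n → F} (he : e ∈ U) (hf : f ∈ W) (hef : H e f = 1)
    {r : F} (hr : K.bar r = r) (hr0 : r ≠ 0) :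
    ∃ g : G, g ∈ pstab U W ∧
      ∀ x, app g x = x + ((r - 1) * H x f) • e + ((r⁻¹ - 1) * H x e) • f := by
  obtain ⟨θ, hθ0, hθ⟩ := exists_skew K
  have hee : H e e = 0 := P.u0 e he e he
  have hff : H f f = 0 := P.w0 f hf f hf
  have hfe : H f e = 1 := by rw [h_swap K e f, hef, map_one]
  have hinv : ∀ t : F, t ≠ 0 → t + K.bar t = 0 → -t⁻¹ + K.bar (-t⁻¹) = 0 := fun t h0 ht => by
    have : K.bar t ≠ 0 := (map_ne_zero K.bar).2 h0
    rw [map_neg, map_inv₀]; field_simp; linear_combination -ht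
  have word : ∀ t : F, t ≠ 0 → t + K.bar t = 0 →
      ∃ g : G, ∀ x, app g x = x + (t * H x e - H x f) • e - (H x f / t + H x e) • f := by
    intro t h0 ht
    obtain ⟨A, hA⟩ := exists_T K hee ht
    obtain ⟨B, hB⟩ := exists_T K hff (hinv t h0 ht)
    refine ⟨A * B * A, fun x => ?_⟩
    rw [app_mul, app_mul, hA.2.2, hB.2.2, hA.2.2]
    simp only [h_add_left K, h_smul_left K, hee, hff, hef, hfe]
    match_scalars <;> field_simp <;> ring
  have ht : -(r * θ) + K.bar (-(r * θ)) = 0 := by rw [map_neg, map_mul, hr]; linear_combination -r * hθ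
  have ht0 : -(r * θ) ≠ 0 := neg_ne_zero.2 (mul_ne_zero hr0 hθ0)
  obtain ⟨g, hg⟩ := word _ ht0 ht
  obtain ⟨g', hg'⟩ := word θ hθ0 hθ
  have happ : ∀ x, app (g * g') x = x + ((r - 1) * H x f) • e + ((r⁻¹ - 1) * H x e) • f := by
    intro x
    rw [app_mul, hg', hg]
    simp only [h_add_left K, h_sub_left K, h_smul_left K, hee, hff, hef, hfe]
    match_scalars <;> field_simp <;> ring
  refine ⟨g * g', Or.inl ⟨fun x hx => ?_, fun x hx => ?_⟩, happ⟩
  · rw [happ, P.u0 x hx e he, mul_zero, zero_smul, add_zero]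
    exact U.add_mem hx (U.smul_mem _ he)
  · rw [happ, P.w0 x hx f hf, mul_zero, zero_smul, add_zero]
    exact W.add_mem hx (W.smul_mem _ hf)

/-- Dual bases of the two members. -/
theorem coords (P : Pol q 2 U W) {e₁ e₂ f₁ f₂ : Fin n → F} (he₁ : e₁ ∈ U) (he₂ : e₂ ∈ U) (hf₁ : f₁ ∈ W)
    (hf₂ : f₂ ∈ W) (h11 : H e₁ f₁ = 1) (h12 : H e₁ f₂ = 0) (h21 : H e₂ f₁ = 0) (h22 : H e₂ f₂ = 1) :
    (∀ u ∈ U, u = H u f₁ • e₁ + H u f₂ • e₂) ∧ ∀ w ∈ W, w = H w e₁ • f₁ + H w e₂ • f₂ := by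
  have key : ∀ {A B : Submodule F (Fin n → F)}, Pol q 2 A B → ∀ a₁ ∈ A, ∀ a₂ ∈ A, ∀ b₁ ∈ B, ∀ b₂ ∈ B,
      H a₁ b₁ = 1 → H a₁ b₂ = 0 → H a₂ b₁ = 0 → H a₂ b₂ = 1 →
      ∀ u ∈ A, u = H u b₁ • a₁ + H u b₂ • a₂ := by
    intro A B Q a₁ ha₁ a₂ ha₂ b₁ hb₁ b₂ hb₂ e11 e12 e21 e22 u hu
    have hB : B = Submodule.span F (Set.range ![b₁, b₂]) := by
      have hli : LinearIndependent F ![b₁, b₂] := LinearIndependent.pair_iff.2 fun s t hst => by
        have h1 : K.bar s * H a₁ b₁ + K.bar t * H a₁ b₂ = 0 := by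
          rw [← h_smul_right K, ← h_smul_right K, ← h_add_right K, hst, h_zero_right K]
        have h2 : K.bar s * H a₂ b₁ + K.bar t * H a₂ b₂ = 0 := by
          rw [← h_smul_right K, ← h_smul_right K, ← h_add_right K, hst, h_zero_right K]
        rw [e11, e12, mul_one, mul_zero, add_zero] at h1
        rw [e21, e22, mul_one, mul_zero, zero_add] at h2
        exact ⟨(map_eq_zero K.bar).1 h1, (map_eq_zero K.bar).1 h2⟩
      refine (Submodule.eq_of_le_of_finrank_le (Submodule.span_le.2 ?_) ?_).symm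
      · rintro _ ⟨i, rfl⟩
        fin_cases i <;> assumption
      · rw [finrank_span_eq_card hli, Q.dimW, Fintype.card_fin]
    set v := u - (H u b₁ • a₁ + H u b₂ • a₂) with hv
    have hvA : v ∈ A := A.sub_mem hu (A.add_mem (A.smul_mem _ ha₁) (A.smul_mem _ ha₂))
    refine sub_eq_zero.1 (h_nondeg K fun z => ?_)
    rw [← hv]
    obtain ⟨za, hza, zb, hzb, rfl⟩ := exists_parts Q z
    rw [h_add_right K, Q.u0 v hvA za hza, zero_add]
    rw [hB] at hzb
    induction hzb using Submodule.span_induction with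
    | mem w hw =>
      obtain ⟨i, rfl⟩ := hw
      fin_cases i <;>
        simp [v, h_sub_left K, h_add_left K, h_smul_left K, e11, e12, e21, e22]
    | zero => exact h_zero_right K _
    | add a b _ _ ha hb => rw [h_add_right K, ha, hb, add_zero]
    | smul c a _ ha => rw [h_smul_right K, ha, mul_zero]
  refine ⟨key P e₁ he₁ e₂ he₂ f₁ hf₁ f₂ hf₂ h11 h12 h21 h22, key P.symm f₁ hf₁ f₂ hf₂ e₁ he₁ e₂ he₂
    ?_ ?_ ?_ ?_⟩ <;>
    simp [h_swap K e₁ f₁, h_swap K e₁ f₂, h_swap K e₂ f₁, h_swap K e₂ f₂, h11, h12, h21, h22]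

/-- Two pair families with dependent vectors give a centre. -/
theorem centre_of_dep {x x' y : Fin n → F} (hy : H y y = 0) (hxy : H x y = 0) (hxy' : H x' y = 0)
    (hxx : H x' x = 0) (hp : ∀ l : F, ∃ g ∈ M, IsE g (l • x) y)
    (hp' : ∀ l : F, ∃ g ∈ M, IsE g (l • x') y) {a b : F} (hab : a • x + b • x' = y) :
    y ∈ centres K M := by
  refine ⟨hy, fun t c ht => ?_⟩
  obtain ⟨s, hs⟩ := Unitary.skewSurj (n := n) K c
    (show (1 : F) * c + K.bar c = 0 by rw [one_mul, ht.2.1])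
  replace hs : s - 1 * K.bar s = c := hs
  obtain ⟨g, hgM, hg⟩ := hp (s * a)
  obtain ⟨g', hgM', hg'⟩ := hp' (s * b)
  have e0 : H ((s * b) • x') ((s * a) • x) = 0 := by rw [h_smul_left K, h_smul_right K, hxx]; ring
  have key : t = g * g' := by
    refine ext_app fun z => ?_
    rw [ht.2.2, isE_mul_apply K hg hg' hy (by rw [h_smul_left K, hxy, mul_zero])
      (by rw [h_smul_left K, hxy', mul_zero]),
      show (s * a) • x + (s * b) • x' = s • y by rw [← hab]; module, e0, h_smul_right K, ← hs]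
    module
  rw [key]
  exact M.mul_mem hgM hgM'

/-- Separating the two transvection factors of a plane meeting both members. -/
theorem centre_of_split (hq : 4 ≤ q) (P : Pol q 2 U W) (hM : (pstab U W : Set G) ⊆ M)
    {y₁ y₂ : Fin n → F} (hy₁ : y₁ ∈ U) (hy₂ : y₂ ∈ W) (hy20 : y₂ ≠ 0) (h12 : H y₁ y₂ = 0)
    (hs : ∀ c : F, c + K.bar c = 0 → ∃ g ∈ M, ∃ d : F,
      ∀ z, app g z = z + (d * H z y₁) • y₁ + (c * H z y₂) • y₂) :
    y₂ ∈ centres K M := by
  refine ⟨P.w0 _ hy₂ _ hy₂, fun t c ht => ?_⟩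
  obtain ⟨r, hr, hr0, hr2⟩ := exists_fixed_sq K hq
  obtain ⟨u, hu, -, hyu⟩ := exists_sep K P.symm (bot_le : ⊥ ≤ W) hy₂ (by rwa [Submodule.mem_bot])
  have huy : H u y₂ = 1 := by rw [h_swap K y₂ u, hyu, map_one]
  obtain ⟨h, hhs, hh⟩ := exists_torus K P hu hy₂ huy hr hr0
  have e1 : app h y₁ = y₁ := by
    rw [hh, h12, P.u0 _ hy₁ _ hu]; simp
  have e2 : app h y₂ = r⁻¹ • y₂ := by
    rw [hh, P.w0 _ hy₂ _ hy₂, hyu]; module
  set a := r⁻¹ * r⁻¹ - 1 with ha
  have ha0 : a ≠ 0 := fun e => hr2 (by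
    rw [ha, sub_eq_zero] at e
    field_simp at e
    linear_combination -e)
  have hba : K.bar a = a := by rw [ha, map_sub, map_mul, map_inv₀, hr, map_one]
  obtain ⟨g, hgM, d, hg⟩ := hs (c / a) (by
    rw [map_div₀, hba, ← add_div, ht.2.1, zero_div])
  have key : t * g = h * g * h⁻¹ := by
    refine ext_app fun z => ?_
    have p1 : H (app h⁻¹ z) y₁ = H z y₁ := by
      conv_rhs => rw [← e1, ← app_inv' h z, h_app]
    have p2 : H (app h⁻¹ z) y₂ = r⁻¹ * H z y₂ := by
      have e3 : y₂ = r • app h y₂ := by rw [e2, smul_smul, mul_inv_cancel₀ hr0, one_smul]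
      conv_rhs => rw [e3, h_smul_right K, hr, ← app_inv' h z, h_app, ← mul_assoc, inv_mul_cancel₀ hr0,
        one_mul]
    rw [app_mul, app_mul, app_mul, hg, ht.2.2, hg, app_add, app_add, app_smul, app_smul, app_inv',
      e1, e2, p1, p2]
    simp only [h_add_left K, h_smul_left K, h12, P.w0 _ hy₂ _ hy₂, mul_zero, add_zero]
    match_scalars <;> field_simp <;> simp only [ha] <;> field_simp <;> ring
  rw [show t = h * g * h⁻¹ * g⁻¹ by rw [← key, mul_inv_cancel_right]]
  exact M.mul_mem (M.mul_mem (M.mul_mem (hM hhs) hgM) (M.inv_mem (hM hhs))) (M.inv_mem hgM)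

/-- From a centre outside both members, a centre in one. -/
theorem centre_of_centre_two (hn : 3 ≤ n) (hq : 4 ≤ q) (P : Pol q 2 U W)
    (hM : (pstab U W : Set G) ⊆ M) {y₁ y₂ : Fin n → F} (hy₁ : y₁ ∈ U) (hy₂ : y₂ ∈ W) (hy10 : y₁ ≠ 0)
    (hy20 : y₂ ≠ 0) (hC : y₁ + y₂ ∈ centres K M) :
    ∃ v, (v ∈ U ∨ v ∈ W) ∧ v ≠ 0 ∧ v ∈ centres K M := by
  have h11 := P.u0 _ hy₁ _ hy₁
  have h22 := P.w0 _ hy₂ _ hy₂
  set s := H y₁ y₂ with hs
  have h21 : H y₂ y₁ = K.bar s := h_swap K y₁ y₂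
  by_cases hs0 : s = 0
  · refine ⟨y₂, Or.inr hy₂, hy20, centre_of_split K hq P hM hy₁ hy₂ hy20 hs0 fun c hc => ?_⟩
    obtain ⟨T, hT⟩ := exists_T K hC.1 hc
    have hz : H ((-c) • y₁) y₂ = 0 := by rw [h_smul_left K, ← hs, hs0, mul_zero]
    have hz0 : H ((-c) • y₁) ((-c) • y₁) = 0 := P.u0 _ (U.smul_mem _ hy₁) _ (U.smul_mem _ hy₁)
    obtain ⟨e, he⟩ := exists_E K hn hz0 h22 hz
    refine ⟨T * e, M.mul_mem (hC.2 T c hT) (hM (isE_pstab K P (U.smul_mem _ hy₁) hy₂ he)), c,
      fun z => ?_⟩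
    rw [app_mul, he, hT.2.2, h_smul_right K, map_neg, show K.bar c = -c by linear_combination hc]
    simp only [h_add_left K, h_sub_left K, h_add_right K, h_smul_left K, h11, h22, h21, ← hs, hs0,
      map_zero]
    module
  obtain ⟨r, hr, hr0, hr2⟩ := exists_fixed_sq K hq
  have hsb : K.bar s = -s := by
    have h := hC.1
    rw [h_add_left K, h_add_right K, h_add_right K, h11, h22, h21, ← hs] at h
    linear_combination h
  set f := (K.bar s)⁻¹ • y₂ with hf
  have hef : H y₁ f = 1 := by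
    rw [h_smul_right K, map_inv₀, K.bar_bar, ← hs, inv_mul_cancel₀ hs0]
  obtain ⟨h, hhs, hh⟩ := exists_torus K P hy₁ (W.smul_mem _ hy₂) hef hr hr0
  have e1 : app h y₁ = r • y₁ := by rw [hh, hef, h11]; module
  have e2 : app h y₂ = r⁻¹ • y₂ := by
    rw [hh, h_smul_right K, h22, h21, hsb]
    match_scalars <;> field_simp <;> ring
  have hC' := app_mem_centres K (hM hhs) hC
  rw [app_add, e1, e2] at hC'
  set y' := r • y₁ + r⁻¹ • y₂
  have hp : H (y₁ + y₂) y' = s * (r⁻¹ - r) := by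
    simp only [y', h_add_left K, h_add_right K, h_smul_right K, h11, h22, h21, ← hs, hr, map_inv₀, hsb]
    ring
  have hd : r⁻¹ - r ≠ 0 := fun e => hr2 (by
    rw [sub_eq_zero] at e; field_simp at e; linear_combination -e)
  obtain ⟨T, hT⟩ := exists_T K hC'.1 (c := -r / (s * (r⁻¹ - r))) (by
    rw [map_div₀, map_neg, map_mul, map_sub, map_inv₀, hr, hsb]
    field_simp
    ring)
  have h' := app_mem_centres K (hC'.2 T _ hT) hC
  rw [hT.2.2, hp, div_mul_cancel₀ _ (mul_ne_zero hs0 hd),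
    show y₁ + y₂ + (-r) • y' = (1 - r * r) • y₁ by
      simp only [y']; match_scalars <;> field_simp <;> ring] at h'
  have hne : (1 - r * r) ≠ 0 := fun e => hr2 (by linear_combination -e)
  have h'' := smul_mem_centres K (1 - r * r)⁻¹ h'
  rw [smul_smul, inv_mul_cancel₀ hne, one_smul] at h''
  exact ⟨y₁, Or.inl hy₁, hy10, h''⟩

/-- A pair family outside both members gives a centre. -/
theorem centre_of_family (hn : 3 ≤ n) (hq : 4 ≤ q) (P : Pol q 2 U W) (hM : (pstab U W : Set G) ⊆ M)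
    {x y : Fin n → F} (hxx : H x x = 0) (hyy : H y y = 0) (hxy : H x y = 0)
    (hp : ∀ l : F, ∃ g ∈ M, IsE g (l • x) y) (hxU : x ∉ U) (hxW : x ∉ W) (hyU : y ∉ U) (hyW : y ∉ W)
    (hind : x ∉ Submodule.span F {y}) :
    ∃ v, (v ∈ U ∨ v ∈ W) ∧ v ≠ 0 ∧ v ∈ centres K M := by
  obtain ⟨y₁, hy₁, y₂, hy₂, rfl⟩ := exists_parts P y
  have hy10 : y₁ ≠ 0 := fun e => hyW (by rw [e, zero_add]; exact hy₂)
  have hy20 : y₂ ≠ 0 := fun e => hyU (by rw [e, add_zero]; exact hy₁)
  have key : y₁ + y₂ ∈ centres K M → ∃ v, (v ∈ U ∨ v ∈ W) ∧ v ≠ 0 ∧ v ∈ centres K M :=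
    centre_of_centre_two K hn hq P hM hy₁ hy₂ hy10 hy20
  have h11 := P.u0 _ hy₁ _ hy₁
  have h22 := P.w0 _ hy₂ _ hy₂
  obtain ⟨x₁, hx₁, x₂, hx₂, hxp⟩ := exists_parts P x
  -- conjugating the family by elements fixing `y`
  have conj : ∀ h : G, h ∈ pstab U W → app h (y₁ + y₂) = y₁ + y₂ →
      ∀ l : F, ∃ g ∈ M, IsE g (l • app h x) (y₁ + y₂) := fun h hh hy l => by
    obtain ⟨g, hg, he⟩ := hp l
    refine ⟨h * g * h⁻¹, M.mul_mem (M.mul_mem (hM hh) hg) (M.inv_mem (hM hh)), ?_⟩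
    have := isE_conj K (g := h) he
    rwa [hy, app_smul] at this
  have pairs : ∀ h : G, h ∈ pstab U W → app h (y₁ + y₂) = y₁ + y₂ → H x (app h x) ≠ 0 →
      y₁ + y₂ ∈ centres K M := fun h hh hy hne => by
    obtain ⟨g, hg, he⟩ := conj h hh hy 1
    rw [one_smul] at he
    exact mem_centres_of_pairs K hyy hp ⟨g, hg, he⟩ hxy (by rw [← hy, h_app]; exact hxy) hne
  by_cases hs0 : H y₁ y₂ = 0
  · -- the plane of `y` meets both members
    obtain ⟨z, hz, -, hyz⟩ := exists_sep K P.symm (bot_le : ⊥ ≤ W) hy₂ (by rwa [Submodule.mem_bot])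
    have hzy : H z y₂ = 1 := by rw [h_swap K y₂ z, hyz, map_one]
    have hni : y₁ ∉ Submodule.span F {z} := fun h => by
      obtain ⟨c, rfl⟩ := Submodule.mem_span_singleton.1 h
      rw [h_smul_left K, hzy, mul_one] at hs0
      exact hy10 (by rw [hs0, zero_smul])
    obtain ⟨f, hf, hzf, hyf⟩ :=
      exists_sep K P ((Submodule.span_singleton_le_iff_mem _ _).2 hz) hy₁ hni
    replace hzf : H z f = 0 := hzf z (Submodule.mem_span_singleton_self z)
    obtain ⟨cU, cW⟩ := coords K P hy₁ hz hf hy₂ hyf hs0 hzf hzy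
    have h21 : H y₂ y₁ = 0 := h_eq_zero_symm K hs0
    have hfy : H f y₁ = 1 := by rw [h_swap K y₁ f, hyf, map_one]
    set β₁ := H x₁ f with hβ₁
    set β := H x₁ y₂ with hβ
    set δ := H x₂ y₁ with hδ
    set γ := H x₂ z with hγ
    have hx' : x = β₁ • y₁ + β • z + (δ • f + γ • y₂) := by
      rw [hxp, ← cU x₁ hx₁, ← cW x₂ hx₂]
    have hxy1 : H x y₁ = δ := by rw [hxp, h_add_left K, P.u0 _ hx₁ _ hy₁, zero_add]
    have hxy2 : H x y₂ = β := by rw [hxp, h_add_left K, P.w0 _ hx₂ _ hy₂, add_zero]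
    have hsum : δ + β = 0 := by rw [← hxy1, ← hxy2, ← h_add_right K]; exact hxy
    by_cases hβ0 : β = 0
    · -- `x` lies in the same plane
      have hδ0 : δ = 0 := by rw [hβ0, add_zero] at hsum; exact hsum
      rw [hβ0, hδ0, zero_smul, zero_smul, add_zero, zero_add] at hx'
      have hγ0 : γ ≠ 0 := fun e => hxU (by
        rw [hx', e, zero_smul, add_zero]; exact U.smul_mem _ hy₁)
      refine ⟨y₂, Or.inr hy₂, hy20, centre_of_split K hq P hM hy₁ hy₂ hy20 hs0 fun c hc => ?_⟩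
      obtain ⟨s, hs⟩ := Unitary.skewSurj (n := n) K c
        (show (1 : F) * c + K.bar c = 0 by rw [one_mul, hc])
      replace hs : s - 1 * K.bar s = c := hs
      obtain ⟨l, hl⟩ : ∃ l, l * γ = s := ⟨s / γ, div_mul_cancel₀ _ hγ0⟩
      rw [← hl] at hs
      obtain ⟨g, hgM, hg⟩ := hp l
      set m := l * β₁ - K.bar (l * γ) with hm
      have hmz : H ((-m) • y₁) y₂ = 0 := by rw [h_smul_left K, hs0, mul_zero]
      obtain ⟨e, he⟩ := exists_E K hn (P.u0 _ (U.smul_mem (-m) hy₁) _ (U.smul_mem (-m) hy₁)) h22 hmz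
      refine ⟨g * e, M.mul_mem hgM (hM (isE_pstab K P (U.smul_mem _ hy₁) hy₂ he)),
        l * β₁ - K.bar (l * β₁), fun w => ?_⟩
      rw [app_mul, he, hg, hx', ← hs]
      simp only [h_add_left K, h_sub_left K, h_add_right K, h_smul_left K, h_smul_right K, h11, h22,
        h21, hs0, map_neg, map_add, map_mul, hm, map_sub, K.bar_bar]
      match_scalars <;> ring
    · -- move by a unipotent element fixing `y`
      obtain ⟨m, hm⟩ := K.exists_moved
      have hmz : H (m • y₁) y₂ = 0 := by rw [h_smul_left K, hs0, mul_zero]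
      obtain ⟨e, he⟩ := exists_E K hn (P.u0 _ (U.smul_mem m hy₁) _ (U.smul_mem m hy₁)) h22 hmz
      have hey : app e (y₁ + y₂) = y₁ + y₂ := by
        rw [he]
        simp only [h_add_left K, h_smul_right K, h11, h22, h21, hs0]
        module
      refine key (pairs e (isE_pstab K P (U.smul_mem _ hy₁) hy₂ he) hey ?_)
      rw [he]
      simp only [h_sub_right K, h_add_right K, h_smul_right K, hxx, hxy1, hxy2,
        show δ = -β by linear_combination hsum, map_mul, K.bar_bar, map_neg]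
      intro e0
      have : β * K.bar β * (m - K.bar m) = 0 := by linear_combination e0
      exact hm (sub_eq_zero.1 ((mul_eq_zero.1 this).resolve_left
        (mul_ne_zero hβ0 ((map_ne_zero K.bar).2 hβ0)))).symm
  · -- `y` is in general position
    set s := H y₁ y₂ with hs
    have h21 : H y₂ y₁ = K.bar s := h_swap K y₁ y₂
    set f := (K.bar s)⁻¹ • y₂ with hf
    have hyf : H y₁ f = 1 := by
      rw [h_smul_right K, map_inv₀, K.bar_bar, ← hs, inv_mul_cancel₀ hs0]
    obtain ⟨w₀, hw₀, hw₀y⟩ : ∃ w ∈ W, w ∉ Submodule.span F {y₂} := by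
      by_contra hc
      push Not at hc
      have := Submodule.finrank_mono (show W ≤ Submodule.span F {y₂} from hc)
      rw [P.dimW, finrank_span_singleton hy20] at this
      omega
    obtain ⟨z, hz, hyz, hwz⟩ :=
      exists_sep K P.symm ((Submodule.span_singleton_le_iff_mem _ _).2 hy₂) hw₀ hw₀y
    replace hyz : H y₂ z = 0 := hyz y₂ (Submodule.mem_span_singleton_self _)
    have hzy : H z y₂ = 0 := h_eq_zero_symm K hyz
    set w := w₀ - K.bar (H y₁ w₀) • f with hw
    have hwW : w ∈ W := W.sub_mem hw₀ (W.smul_mem _ (W.smul_mem _ hy₂))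
    have hzw : H z w = 1 := by
      rw [h_sub_right K, h_smul_right K, h_smul_right K, hzy, h_swap K w₀ z, hwz, map_one]; ring
    have hyw : H y₁ w = 0 := by rw [h_sub_right K, h_smul_right K, hyf, K.bar_bar, mul_one, sub_self]
    have hzf : H z f = 0 := by rw [h_smul_right K, hzy, mul_zero]
    have hfW : f ∈ W := W.smul_mem _ hy₂
    obtain ⟨cU, cW⟩ := coords K P hy₁ hz hfW hwW hyf hyw hzf hzw
    have hsb : K.bar s = -s := by
      have h := hyy
      rw [h_add_left K, h_add_right K, h_add_right K, h11, h22, h21, ← hs] at h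
      linear_combination h
    set b₁ := H x₁ f with hb₁
    set b := H x₁ w with hb
    set a := H x₂ z with ha
    have hab : H x₂ y₁ + b₁ * s = 0 := by
      have h := hxy
      rw [hxp, h_add_left K, h_add_right K, h_add_right K, P.u0 _ hx₁ _ hy₁, P.w0 _ hx₂ _ hy₂] at h
      have e : H x₁ y₂ = b₁ * s := by
        rw [hb₁, h_smul_right K, map_inv₀, K.bar_bar]; field_simp
      linear_combination h - e
    have hx' : x = b₁ • (y₁ + y₂) + b • z + a • w := by
      conv_lhs => rw [hxp, cU x₁ hx₁, cW x₂ hx₂]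
      rw [show H x₂ y₁ = -(b₁ * s) by linear_combination hab, ← hb₁, ← hb, ← ha]
      rw [show f = (K.bar s)⁻¹ • y₂ from hf, hsb]
      match_scalars <;> field_simp
    have hzz := P.u0 _ hz _ hz
    have hww := P.w0 _ hwW _ hwW
    have hwz' : H w z = 1 := by rw [h_swap K z w, hzw, map_one]
    have hxz : H x z = a := by rw [hxp, h_add_left K, P.u0 _ hx₁ _ hz, zero_add]
    have hxw : H x w = b := by rw [hxp, h_add_left K, P.w0 _ hx₂ _ hwW, add_zero]
    have hwy : H w y₁ = 0 := h_eq_zero_symm K hyw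
    have hzy1 : H z y₁ = 0 := P.u0 _ hz _ hy₁
    have hwy2 : H w y₂ = 0 := P.w0 _ hwW _ hy₂
    have htau : b * K.bar a + a * K.bar b = 0 := by
      have h := hxx
      rw [hx'] at h
      simp only [h_add_left K, h_add_right K, h_smul_left K, h_smul_right K, h11, h22, h21, ← hs, hsb,
        hzz, hww, hzw, hwz', hzy, hyz, hyw, hwy, hzy1, hwy2, P.u0 _ hy₁ _ hz, P.w0 _ hy₂ _ hwW] at h
      linear_combination h
    obtain ⟨r, hr, hr0, hr2⟩ := exists_fixed_sq K hq
    obtain ⟨h, hhs, hh⟩ := exists_torus K P hz hwW hzw hr hr0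
    have hhy : app h (y₁ + y₂) = y₁ + y₂ := by
      rw [hh, h_add_left K, h_add_left K, hyw, P.w0 _ hy₂ _ hwW, P.u0 _ hy₁ _ hz, hyz]; module
    refine key ?_
    by_cases hne : H x (app h x) = 0
    swap
    · exact pairs h hhs hhy hne
    have hne' := hne
    rw [hh, h_add_right K, h_add_right K, h_smul_right K, h_smul_right K, hxx, hxz, hxw, map_mul,
      map_mul, map_sub, map_sub, map_inv₀, hr, map_one] at hne'
    have hd : r - r⁻¹ ≠ 0 := fun e => hr2 (by
      rw [sub_eq_zero] at e; field_simp at e; linear_combination e)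
    have h0 : a * K.bar b = 0 := by
      have : (r - r⁻¹) * (a * K.bar b) = 0 := by linear_combination hne' - (r⁻¹ - 1) * htau
      exact (mul_eq_zero.1 this).resolve_left hd
    have hr1 : r ≠ 1 := fun e => hr2 (by rw [e, one_pow])
    obtain ⟨ρ, hρ1, hρ⟩ : ∃ ρ : F, ρ ≠ 1 ∧ app h x = ρ • x + ((1 - ρ) * b₁) • (y₁ + y₂) := by
      rcases mul_eq_zero.1 h0 with e | e
      · refine ⟨r, hr1, ?_⟩
        rw [hh, hxz, hxw, e, hx', e]
        module
      · have e' : b = 0 := (map_eq_zero K.bar).1 e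
        refine ⟨r⁻¹, fun e'' => hr1 (inv_eq_one.1 e''), ?_⟩
        rw [hh, hxz, hxw, e', hx', e']
        module
    have hb₁0 : b₁ ≠ 0 := fun e => by
      rcases mul_eq_zero.1 h0 with e' | e'
      · exact hxU (by rw [hx', e, e', zero_smul, zero_smul, zero_add, add_zero]; exact U.smul_mem _ hz)
      · exact hxW (by
          rw [hx', e, (map_eq_zero K.bar).1 e', zero_smul, zero_smul, zero_add, zero_add]
          exact W.smul_mem _ hwW)
    have hk : (1 - ρ) * b₁ ≠ 0 := mul_ne_zero (sub_ne_zero.2 (Ne.symm hρ1)) hb₁0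
    refine centre_of_dep K hyy hxy (by rw [← hhy, h_app]; exact hxy) (h_eq_zero_symm K hne) hp
      (conj h hhs hhy) (a := -ρ / ((1 - ρ) * b₁)) (b := ((1 - ρ) * b₁)⁻¹) ?_
    rw [hρ]
    match_scalars <;> field_simp <;> ring

/-- Outside the pair stabiliser a centre in one member. -/
theorem exists_centre_two (hn : 3 ≤ n) (hnk : 2 * 2 = n) (hq : 4 ≤ q) (P : Pol q 2 U W)
    (hM : (pstab U W : Set G) ⊆ M) {g : G} (hg : g ∈ M) (hgs : g ∉ pstab U W) :
    ∃ v, (v ∈ U ∨ v ∈ W) ∧ v ≠ 0 ∧ v ∈ centres K M := by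
  by_contra hc
  push Not at hc
  have hM' : (pstab W U : Set G) ⊆ M := (pstab_symm U W).le.trans hM
  have key : ∀ {A B : Submodule F (Fin n → F)}, Pol q 2 A B → (pstab A B : Set G) ⊆ M →
      ∀ u ∈ A, app g u ∈ U ∨ app g u ∈ W := by
    intro A B PAB hAB u hu
    by_contra hor
    push Not at hor
    obtain ⟨hxU, hxW⟩ := hor
    have z0 : app g (0 : Fin n → F) = 0 := mulVec_zero _
    have hu0 : u ≠ 0 := fun e => hxU (by rw [e, z0]; exact U.zero_mem)
    obtain ⟨v, hv, hv0, hvu⟩ : ∃ v ∈ B, v ≠ 0 ∧ H u v = 0 := by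
      let L : B →ₗ[F] F :=
        { toFun := fun w => H (w : _) u
          map_add' := fun a b => h_add_left K _ _ _
          map_smul' := fun c a => h_smul_left K c _ _ }
      have h1 := L.finrank_range_add_finrank_ker
      have h3 : Module.finrank F (LinearMap.range L) ≤ 1 :=
        (Submodule.finrank_le _).trans_eq (Module.finrank_self F)
      rw [PAB.dimW] at h1
      obtain ⟨v, hv, hv0⟩ := Submodule.exists_mem_ne_zero_of_ne_bot (p := LinearMap.ker L) fun e => by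
        rw [e, finrank_bot] at h1; omega
      exact ⟨v, v.2, fun e => hv0 (Subtype.ext e), h_eq_zero_symm K (LinearMap.mem_ker.1 hv)⟩
    have hxy : H (app g u) (app g v) = 0 := by rw [h_app, hvu]
    have hp : ∀ l : F, ∃ e ∈ M, IsE e (l • app g u) (app g v) := fun l => by
      have hl : H (l • u) v = 0 := by rw [h_smul_left K, hvu, mul_zero]
      obtain ⟨e, he⟩ := exists_E K hn (PAB.u0 _ (A.smul_mem l hu) _ (A.smul_mem l hu))
        (PAB.w0 _ hv _ hv) hl
      refine ⟨g * e * g⁻¹, M.mul_mem (M.mul_mem hg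
        (hAB (isE_pstab K PAB (A.smul_mem l hu) hv he))) (M.inv_mem hg), ?_⟩
      rw [← app_smul]
      exact isE_conj K he
    have hgv0 : app g v ≠ 0 := fun e => hv0 (app_injective g (e.trans z0.symm))
    by_cases h1 : app g v ∈ U
    · obtain ⟨w, hw, hw0, hwC⟩ := centres_of_mem K hn P hM hxy hp h1 hgv0 hxW
      exact absurd hwC (hc w (Or.inl hw) hw0)
    by_cases h3 : app g v ∈ W
    · obtain ⟨w, hw, hw0, hwC⟩ := centres_of_mem K hn P.symm hM' hxy hp h3 hgv0 hxU
      exact absurd hwC (hc w (Or.inr hw) hw0)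
    obtain ⟨w, hw, hw0, hwC⟩ := centre_of_family K hn hq P hM
      (by rw [h_app]; exact PAB.u0 u hu u hu) (by rw [h_app]; exact PAB.w0 v hv v hv) hxy hp
      hxU hxW h1 h3 (fun h => by
        obtain ⟨c, hcv⟩ := Submodule.mem_span_singleton.1 h
        rw [← app_smul] at hcv
        have e := app_injective g hcv
        exact hu0 ((Submodule.eq_bot_iff _).1 PAB.compl.inf_eq_bot u ⟨hu, e ▸ B.smul_mem c hv⟩))
    exact hc w hw hw0 hwC
  have one : ∀ {A B : Submodule F (Fin n → F)}, Pol q 2 A B → (pstab A B : Set G) ⊆ M →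
      (∀ x ∈ A, app g x ∈ U) ∨ ∀ x ∈ A, app g x ∈ W := by
    intro A B PAB hAB
    by_contra hcc
    push Not at hcc
    obtain ⟨⟨a, ha, hga⟩, b, hb, hgb⟩ := hcc
    have ga := (key PAB hAB a ha).resolve_left hga
    have gb := (key PAB hAB b hb).resolve_right hgb
    rcases key PAB hAB (a + b) (A.add_mem ha hb) with h | h <;> rw [app_add] at h
    · exact hga ((U.add_mem_iff_left gb).1 h)
    · exact hgb ((W.add_mem_iff_right ga).1 h)
  have both : ∀ {X : Submodule F (Fin n → F)}, Module.finrank F X = 2 →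
      ¬ ((∀ x ∈ U, app g x ∈ X) ∧ ∀ x ∈ W, app g x ∈ X) := by
    intro X hX ⟨h1, h3⟩
    have hall : ∀ z ∈ (⊤ : Submodule F (Fin n → F)), lin g z ∈ X := fun z _ => by
      obtain ⟨a, ha, b, hb, rfl⟩ := exists_parts P z
      show app g (a + b) ∈ X
      rw [app_add]
      exact X.add_mem (h1 a ha) (h3 b hb)
    have := LinearMap.finrank_le_finrank_of_injective (f := (lin g).restrict hall)
      fun a b e => Subtype.ext (app_injective g (congrArg Subtype.val e))
    rw [finrank_top, Module.finrank_fin_fun, hX] at this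
    omega
  apply hgs
  rcases one P hM with h1 | h1 <;> rcases one P.symm hM' with h3 | h3
  · exact absurd ⟨h1, h3⟩ (both P.dimU)
  · exact Or.inl ⟨h1, h3⟩
  · exact Or.inr ⟨h1, h3⟩
  · exact absurd ⟨h1, h3⟩ (both P.dimW)


theorem pair_le_or_top_two (hn4 : 4 ≤ n) (hnk : 2 * 2 = n) (hq : 4 ≤ q) (P : Pol q 2 U W) (M : Subgroup G)
    (hM : (pstab U W : Set G) ⊆ M) : M = ⊤ ∨ (M : Set G) ⊆ pstab U W := by
  by_cases hR : (M : Set G) ⊆ pstab U W
  · exact Or.inr hR
  left
  obtain ⟨g, hg, hgs⟩ := Set.not_subset.1 hR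
  obtain ⟨v, hv, hv0, hvC⟩ := exists_centre_two K (by omega) hnk hq P hM hg hgs
  obtain ⟨s, hs1, hs2⟩ := exists_swap K P
  have hsM : s ∈ M := hM (Or.inr ⟨hs1, hs2⟩)
  have hM' : (pstab W U : Set G) ⊆ M := (pstab_symm U W).le.trans hM
  have hsv := app_mem_centres K hsM hvC
  have hsv0 : app s v ≠ 0 := fun e => hv0 (app_injective s (e.trans (mulVec_zero _).symm))
  have hn : 3 ≤ n := by omega
  have hCU : (∀ u ∈ U, u ∈ centres K M) ∧ ∀ w ∈ W, w ∈ centres K M := by
    rcases hv with hv | hv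
    · exact ⟨centres_all_of_one K hn P hM hv hv0 hvC,
        centres_all_of_one K hn P.symm hM' (hs1 v hv) hsv0 hsv⟩
    · exact ⟨centres_all_of_one K hn P hM (hs2 v hv) hsv0 hsv,
        centres_all_of_one K hn P.symm hM' hv hv0 hvC⟩
  have hinv : ∀ {c : F}, c ≠ 0 → c + K.bar c = 0 → c⁻¹ + K.bar c⁻¹ = 0 := fun {c} h0 hc => by
    have : K.bar c ≠ 0 := (map_ne_zero K.bar).2 h0
    rw [map_inv₀]; field_simp; linear_combination hc
  have hne : ∀ a ∈ U, ∀ b ∈ W, H b a ≠ 0 → H b a + K.bar (H b a) = 0 → b + a ∈ centres K M := by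
    intro a ha b hb h0 hh
    obtain ⟨T, hT⟩ := exists_T K (P.u0 a ha a ha) (hinv h0 hh)
    have := app_mem_centres K ((hCU.1 a ha).2 T _ hT) (hCU.2 b hb)
    rwa [hT.2.2, inv_mul_cancel₀ h0, one_smul] at this
  refine eq_top_of_centres K (by omega) fun z hzz => ?_
  obtain ⟨a, ha, b, hb, rfl⟩ := exists_parts P z
  have hskew : H b a + K.bar (H b a) = 0 := by
    rw [h_add_left K, h_add_right K, h_add_right K, P.u0 a ha a ha, P.w0 b hb b hb, zero_add,
      add_zero, h_swap K b a] at hzz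
    rw [add_comm]; exact hzz
  by_cases hb0 : b = 0
  · rw [hb0, add_zero]; exact hCU.1 a ha
  by_cases hba : H b a = 0
  swap
  · rw [add_comm]; exact hne a ha b hb hba hskew
  obtain ⟨c₀, hc₀, -, hbc₀⟩ := exists_sep K P.symm (bot_le : ⊥ ≤ W) hb (by rwa [Submodule.mem_bot])
  obtain ⟨θ, hθ0, hθ⟩ := exists_skew K
  set c := K.bar θ • c₀
  have hc : c ∈ U := U.smul_mem _ hc₀
  have hbc : H b c = θ := by rw [h_smul_right K, hbc₀, mul_one, K.bar_bar]
  have hbac : H b (a - c) = -θ := by rw [h_sub_right K, hba, hbc, zero_sub]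
  have h1 := hne (a - c) (U.sub_mem ha hc) b hb (by rw [hbac]; exact neg_ne_zero.2 hθ0)
    (by rw [hbac, map_neg]; linear_combination -hθ)
  obtain ⟨T, hT⟩ := exists_T K (P.u0 c hc c hc) (hinv hθ0 hθ)
  have h3 := app_mem_centres K ((hCU.1 c hc).2 T _ hT) h1
  rw [hT.2.2, h_add_left K, P.u0 _ (U.sub_mem ha hc) c hc, hbc, add_zero, inv_mul_cancel₀ hθ0,
    one_smul, add_assoc, sub_add_cancel, add_comm] at h3
  exact h3

/-- The stabiliser of two totally singular planes is maximal. -/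
theorem pair_maximal (hq : 4 ≤ q) {D : Fin 2 → Submodule F (Fin 4 → F)}
    (hD : Cfsg.Geo.IsMDecomposition 2 D)
    (hts : ∀ i, Cfsg.Geo.IsTotallySingularFor (hermForm 4 F q) (D i)) :
    Cfsg.Geo.IsMaximalIn (GU 4 F q ⊓ Cfsg.Geo.specialLinear (Fin 4) F)
      (Cfsg.Geo.decompositionStabilizer D ⊓ (GU 4 F q ⊓ Cfsg.Geo.specialLinear (Fin 4) F)) := by
  have P := pol_of hD hts
  refine ⟨lt_of_le_not_ge inf_le_right fun hle => ?_, fun M hM hM' => ?_⟩
  · obtain ⟨g, hg⟩ := exists_notMem_pstab K (by norm_num) P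
    exact hg ((map_eq_iff hD g).1 (hle ((mem_range_iff _).2 ⟨g, rfl⟩)).1)
  rcases pair_le_or_top_two K le_rfl rfl hq P (M.comap toGLHom) (fun g hg =>
      hM ⟨(map_eq_iff hD g).2 hg, (mem_range_iff _).2 ⟨g, rfl⟩⟩) with h | h
  · refine Or.inr (le_antisymm hM' fun g hg => ?_)
    obtain ⟨s, rfl⟩ := (mem_range_iff g).1 hg
    have : s ∈ M.comap toGLHom := h ▸ Subgroup.mem_top s
    exact this
  · refine Or.inl (le_antisymm (fun g hg => ?_) hM)
    obtain ⟨s, rfl⟩ := (mem_range_iff g).1 (hM' hg)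
    exact ⟨(map_eq_iff hD s).2 (h hg), (mem_range_iff _).2 ⟨s, rfl⟩⟩

end CfsgLib.Classical.HermFour
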