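import Cfsg.Agent.Lib.Classical.SUFour.Decomp

set_option autoImplicit false
set_option linter.unusedSectionVars false

/-!
The stabiliser of two orthogonal non-degenerate blocks is maximal when the scalars have more than four
elements; in particular two planes in dimension four.
-/

namespace CfsgLib.Classical.HermFour

open Matrix Cfsg CfsgLib.Classical.Herm CfsgLib.Classical.HermDecompMax
open CfsgLib.ClassicalAut (Unitary.Conj Unitary.space Unitary.herm_apply)

variable {F : Type*} [Field F] [Finite F] {q : ℕ} (K : Unitary.Conj F q) {n t k : ℕ}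
  (e : Fin n ≃ Fin t × Fin k) {M : Subgroup (SU n F q)}

local notation "H" => hermForm n F q
local notation "V" => (Fin n → F)
local notation "G" => SU n F q

include K

/-- Two quasi-reflections with inverse determinants. -/
theorem exists_two_quasi {u₁ u₂ : V} (h₁ : H u₁ u₁ ≠ 0) (h₂ : H u₂ u₂ ≠ 0) (h12 : H u₁ u₂ = 0)
    {ν : F} (hν : Circ K ν) :
    ∃ g : G, ∀ x, app g x =
      x + ((ν - 1) / H u₁ u₁ * H x u₁) • u₁ + ((ν⁻¹ - 1) / H u₂ u₂ * H x u₂) • u₂ := by
  have hl : ∀ (z : V) (c : F), H z z ≠ 0 → Circ K c →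
      (c - 1) / H z z + K.bar ((c - 1) / H z z) +
        (c - 1) / H z z * K.bar ((c - 1) / H z z) * H z z = 0 := fun z c hz hc => by
    have hc' : c * K.bar c = 1 := hc
    rw [map_div₀, map_sub, map_one, bar_self K]
    field_simp
    linear_combination hc'
  have hdet : (quasi K u₁ ((ν - 1) / H u₁ u₁) * quasi K u₂ ((ν⁻¹ - 1) / H u₂ u₂)).det = 1 := by
    rw [det_mul, det_quasi, det_quasi, div_mul_cancel₀ _ h₁, div_mul_cancel₀ _ h₂, add_sub_cancel,
      add_sub_cancel, mul_inv_cancel₀ hν.ne_zero]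
  refine ⟨⟨⟨_, hdet⟩, fun x y => by
    show H ((quasi K u₁ _ * quasi K u₂ _) *ᵥ x) ((quasi K u₁ _ * quasi K u₂ _) *ᵥ y) = _
    rw [← mulVec_mulVec, ← mulVec_mulVec, quasi_isometry K (hl u₁ ν h₁ hν),
      quasi_isometry K (hl u₂ ν⁻¹ h₂ hν.inv)]⟩, fun x => ?_⟩
  show (quasi K u₁ _ * quasi K u₂ _) *ᵥ x = _
  rw [← mulVec_mulVec, quasi_apply, quasi_apply, h_add_left K, h_smul_left K,
    h_eq_zero_symm K h12, mul_zero, add_zero]
  abel

/-- One centre with anisotropic components gives all of them. -/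
theorem aniso_all (hk : 2 ≤ k) (hM : ∀ g, BStab e g → g ∈ M) {i j : Fin t} (hij : i ≠ j) {x₀ y₀ : V}
    (hx₀ : x₀ ∈ bsub e F i) (hy₀ : y₀ ∈ bsub e F j) (hne : H x₀ x₀ ≠ 0) (h : x₀ + y₀ ∈ centres K M)
    {x y : V} (hx : x ∈ bsub e F i) (hy : y ∈ bsub e F j) (hxx : H x x ≠ 0)
    (hxy : H x x + H y y = 0) : x + y ∈ centres K M := by
  have hxy₀ : H x₀ x₀ + H y₀ y₀ = 0 := by rw [← h_add_add K e hij hx₀ hy₀]; exact h.1
  obtain ⟨c, hc⟩ := K.exists_norm (H x x / H x₀ x₀) (by rw [map_div₀, bar_self K, bar_self K])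
  have hcx : H (c • x₀) (c • x₀) = H x x := by
    rw [h_smul_left K, h_smul_right K, ← mul_assoc, hc, div_mul_cancel₀ _ hne]
  have hcy : H (c • y₀) (c • y₀) = H y y := by
    rw [h_smul_left K, h_smul_right K, ← mul_assoc, hc, show H y₀ y₀ = -H x₀ x₀ by
      linear_combination hxy₀, mul_neg, div_mul_cancel₀ _ hne]
    linear_combination -hxy
  have hyy : H y y ≠ 0 := fun e0 => hxx (by linear_combination hxy - e0)
  obtain ⟨g, hg, hgx, hgf⟩ := exists_move_one K e ((bsub e F i).smul_mem c hx₀) hx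
    (ne_zero_of_h K (hcx.trans_ne hxx)) (ne_zero_of_h K hxx) hcx (Or.inl ⟨hk, hcx.trans_ne hxx⟩)
  obtain ⟨g', hg', hgy, hgf'⟩ := exists_move_one K e ((bsub e F j).smul_mem c hy₀) hy
    (ne_zero_of_h K (hcy.trans_ne hyy)) (ne_zero_of_h K hyy) hcy (Or.inl ⟨hk, hcy.trans_ne hyy⟩)
  have h' := app_mem_centres K (hM _ hg') (app_mem_centres K (hM _ hg) (smul_mem_centres K c h))
  rwa [smul_add, app_add, hgx, hgf _ (comp_of_mem_ne e hij.symm ((bsub e F j).smul_mem c hy₀)),
    app_add, hgy, hgf' _ (comp_of_mem_ne e hij hx)] at h'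

/-- A centre with isotropic components gives one with anisotropic components. -/
theorem aniso_of_iso (hq : 3 ≤ q) (hM : ∀ g, BStab e g → g ∈ M) {i j : Fin t} (hij : i ≠ j) {a b : V}
    (ha : a ∈ bsub e F i) (hb : b ∈ bsub e F j) (ha0 : a ≠ 0) (hb0 : b ≠ 0) (haa : H a a = 0)
    (hbb : H b b = 0) (hab : a + b ∈ centres K M) :
    ∃ x ∈ bsub e F i, ∃ y ∈ bsub e F j, H x x ≠ 0 ∧ x + y ∈ centres K M := by
  obtain ⟨f, hf, hff, hfa, haf⟩ := exists_iso_partner K (nondeg_bsub K e i) ha ha0 haa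
  obtain ⟨f', hf', hff', hfb, hbf⟩ := exists_iso_partner K (nondeg_bsub K e j) hb hb0 hbb
  obtain ⟨y₀, hy₀⟩ := K.exists_trace
  set τ := y₀ + K.bar y₀ with hτ
  obtain ⟨ν, hν, hν1, hν2⟩ := exists_circ_sq_ne_one K
  set u₁ := f + y₀ • a with hu₁
  set u₂ := f' + y₀ • b with hu₂
  have hu₁U : u₁ ∈ bsub e F i := (bsub e F i).add_mem hf ((bsub e F i).smul_mem _ ha)
  have hu₂U : u₂ ∈ bsub e F j := (bsub e F j).add_mem hf' ((bsub e F j).smul_mem _ hb)
  have hN₁ : H u₁ u₁ = τ := by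
    simp only [u₁, h_add_left K, h_add_right K, h_smul_left K, h_smul_right K, hff, hfa, haf, haa, τ]
    ring
  have hN₂ : H u₂ u₂ = τ := by
    simp only [u₂, h_add_left K, h_add_right K, h_smul_left K, h_smul_right K, hff', hfb, hbf, hbb, τ]
    ring
  have ha1 : H a u₁ = 1 := by rw [h_add_right K, h_smul_right K, haf, haa, mul_zero, add_zero]
  have hb1 : H b u₂ = 1 := by rw [h_add_right K, h_smul_right K, hbf, hbb, mul_zero, add_zero]
  have ha1' : H u₁ a = 1 := by rw [h_swap K a u₁, ha1, map_one]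
  have hb1' : H u₂ b = 1 := by rw [h_swap K b u₂, hb1, map_one]
  obtain ⟨g, hg⟩ := exists_two_quasi K (hN₁.trans_ne hy₀) (hN₂.trans_ne hy₀)
    (h_disjoint K e hij hu₁U hu₂U) hν
  set l₁ := (ν - 1) / τ with hl₁
  set l₂ := (ν⁻¹ - 1) / τ with hl₂
  simp only [hN₁, hN₂, ← hl₁, ← hl₂] at hg
  have hgs : BStab e g := fun l => ⟨l, fun x hx => by
    rw [hg]
    refine (bsub e F l).add_mem ((bsub e F l).add_mem hx ?_) ?_
    · rcases eq_or_ne l i with rfl | h
      · exact (bsub e F l).smul_mem _ hu₁U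
      · rw [h_disjoint K e h hx hu₁U, mul_zero, zero_smul]; exact zero_mem _
    · rcases eq_or_ne l j with rfl | h
      · exact (bsub e F l).smul_mem _ hu₂U
      · rw [h_disjoint K e h hx hu₂U, mul_zero, zero_smul]; exact zero_mem _⟩
  have hz' := app_mem_centres K (hM _ hgs) hab
  rw [hg, h_add_left K a b u₁, h_add_left K a b u₂, h_disjoint K e hij ha hu₂U,
    h_disjoint K e hij.symm hb hu₁U, ha1, hb1, add_zero, zero_add, mul_one, mul_one] at hz'
  obtain ⟨θ, hθ0, hθ⟩ := exists_skew K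
  obtain ⟨T, hT⟩ := exists_T K hab.1 hθ
  have hz'' := app_mem_centres K (hab.2 T θ hT) hz'
  have hprod : H (a + b + l₁ • u₁ + l₂ • u₂) (a + b) = l₁ + l₂ := by
    simp only [h_add_left K, h_add_right K, h_smul_left K, haa, hbb, h_disjoint K e hij ha hb,
      h_disjoint K e hij.symm hb ha, h_disjoint K e hij hu₁U hb, h_disjoint K e hij.symm hu₂U ha,
      ha1', hb1']
    ring
  rw [hT.2.2, hprod] at hz''
  set s := θ * (l₁ + l₂) with hs
  refine ⟨(1 + s) • a + l₁ • u₁, (bsub e F i).add_mem ((bsub e F i).smul_mem _ ha)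
    ((bsub e F i).smul_mem _ hu₁U), (1 + s) • b + l₂ • u₂, (bsub e F j).add_mem
    ((bsub e F j).smul_mem _ hb) ((bsub e F j).smul_mem _ hu₂U), ?_, by convert hz'' using 1; module⟩
  have hν' : ν * K.bar ν = 1 := hν
  have hbτ : K.bar τ = τ := by rw [hτ, map_add, K.bar_bar, add_comm]
  have e1 : K.bar l₁ = (ν⁻¹ - 1) / τ := by rw [hl₁, map_div₀, map_sub, map_one, hν.bar_eq, hbτ]
  have e2 : K.bar l₂ = (ν - 1) / τ := by
    rw [hl₂, map_div₀, map_sub, map_one, hν.inv.bar_eq, hbτ, inv_inv]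
  have hN : H ((1 + s) • a + l₁ • u₁) ((1 + s) • a + l₁ • u₁) =
      θ * ((ν⁻¹ - 1) * (ν⁻¹ - 1) - (ν - 1) * (ν - 1)) / (τ * τ) := by
    simp only [h_add_left K, h_add_right K, h_smul_left K, h_smul_right K, haa, ha1, ha1', hN₁, map_add,
      map_one, hs, map_mul, e1, e2, show K.bar θ = -θ by linear_combination hθ]
    rw [hl₁, hl₂]
    have hν0 := hν.ne_zero
    have hτ0 : τ ≠ 0 := hy₀
    field_simp
    ring
  have hν0 := hν.ne_zero
  have h1 : ν⁻¹ - ν ≠ 0 := fun e0 => hν2 (by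
    have e' : ν⁻¹ = ν := sub_eq_zero.1 e0
    rw [sq]; nth_rewrite 1 [← e']; exact inv_mul_cancel₀ hν0)
  have h2 : ν⁻¹ + ν - 2 ≠ 0 := fun e0 => hν1 (by
    have : (ν - 1) * (ν - 1) = 0 := by
      have e' := congrArg (ν * ·) e0
      simp only [mul_add, mul_sub, mul_inv_cancel₀ hν0, mul_zero] at e'
      linear_combination e'
    exact sub_eq_zero.1 (mul_self_eq_zero.1 this))
  rw [hN, show (ν⁻¹ - 1) * (ν⁻¹ - 1) - (ν - 1) * (ν - 1) = (ν⁻¹ - ν) * (ν⁻¹ + ν - 2) by ring]
  exact div_ne_zero (mul_ne_zero hθ0 (mul_ne_zero h1 h2)) (mul_ne_zero hy₀ hy₀)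

/-- The centres with anisotropic components give those with isotropic components. -/
theorem iso_of_aniso (hq : 3 ≤ q) (hM : ∀ g, BStab e g → g ∈ M) {i j : Fin t} (hij : i ≠ j)
    (hall : ∀ x ∈ bsub e F i, ∀ y ∈ bsub e F j, H x x ≠ 0 → H x x + H y y = 0 → x + y ∈ centres K M)
    {a b : V} (ha : a ∈ bsub e F i) (hb : b ∈ bsub e F j) (ha0 : a ≠ 0) (hb0 : b ≠ 0) (haa : H a a = 0)
    (hbb : H b b = 0) : a + b ∈ centres K M := by
  obtain ⟨f, hf, hff, hfa, haf⟩ := exists_iso_partner K (nondeg_bsub K e i) ha ha0 haa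
  obtain ⟨f', hf', hff', hfb, hbf⟩ := exists_iso_partner K (nondeg_bsub K e j) hb hb0 hbb
  obtain ⟨y₀, hy₀⟩ := K.exists_trace
  obtain ⟨ζ, hζ, hζ1⟩ := exists_circ_ne_one K
  set τ := y₀ + K.bar y₀ with hτ
  set x := f + y₀ • a with hx
  set y := (-ζ) • (f' + (-y₀) • b) with hy
  have hxU : x ∈ bsub e F i := (bsub e F i).add_mem hf ((bsub e F i).smul_mem _ ha)
  have hyU : y ∈ bsub e F j :=
    (bsub e F j).smul_mem _ ((bsub e F j).add_mem hf' ((bsub e F j).smul_mem _ hb))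
  have hxx : H x x = τ := by
    simp only [x, h_add_left K, h_add_right K, h_smul_left K, h_smul_right K, hff, hfa, haf, haa, τ]
    ring
  have hζ' : ζ * K.bar ζ = 1 := hζ
  have hyy : H y y = -τ := by
    rw [hy, h_smul_left K, h_smul_right K]
    simp only [h_add_left K, h_add_right K, h_smul_left K, h_smul_right K, hff', hfb, hbf, hbb, map_neg, τ]
    linear_combination (-(y₀ + K.bar y₀)) * hζ'
  have hax : H a x = 1 := by rw [h_add_right K, h_smul_right K, haf, haa, mul_zero, add_zero]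
  have hxa : H x a = 1 := by rw [h_swap K a x, hax, map_one]
  have hv := hall x hxU y hyU (hxx.trans_ne hy₀) (by rw [hxx, hyy, add_neg_cancel])
  set w := H (a + b) (x + y) with hw
  have hw' : w = 1 - K.bar ζ := by
    rw [hw, h_add_left K, h_add_right K a, h_add_right K b, hax, h_disjoint K e hij ha hyU,
      h_disjoint K e hij.symm hb hxU, hy, h_smul_right K, h_add_right K, h_smul_right K, hbf, hbb, map_neg]
    ring
  have hw0 : w ≠ 0 := fun e0 => hζ1 (by
    rw [hw', sub_eq_zero] at e0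
    rw [← K.bar_bar ζ, ← e0, map_one])
  obtain ⟨c₁, c₂, hc₁, hc₂, hc₁0, hc₂0, hcc⟩ := exists_two_skew K hq
  obtain ⟨c, hc, hc0, hne⟩ : ∃ c : F, c + K.bar c = 0 ∧ c ≠ 0 ∧
      (w - K.bar w) - c * (w * K.bar w) * τ ≠ 0 := by
    by_contra hc'
    push Not at hc'
    exact hcc (mul_right_cancel₀ (mul_ne_zero (norm_ne_zero K hw0) hy₀)
      (by linear_combination hc' c₂ hc₂ hc₂0 - hc' c₁ hc₁ hc₁0))
  obtain ⟨T, hT⟩ := exists_T K hv.1 hc
  have hTe : app T (a + b) = (a + (c * w) • x) + (b + (c * w) • y) := by rw [hT.2.2, ← hw]; module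
  have hX : a + (c * w) • x ∈ bsub e F i := (bsub e F i).add_mem ha ((bsub e F i).smul_mem _ hxU)
  have hY : b + (c * w) • y ∈ bsub e F j := (bsub e F j).add_mem hb ((bsub e F j).smul_mem _ hyU)
  have hN : H (a + (c * w) • x) (a + (c * w) • x) = c * ((w - K.bar w) - c * (w * K.bar w) * τ) := by
    simp only [h_add_left K, h_add_right K, h_smul_left K, h_smul_right K, haa, hax, hxa, hxx, map_mul,
      show K.bar c = -c by linear_combination hc]
    ring
  have hsum : H (a + (c * w) • x) (a + (c * w) • x) + H (b + (c * w) • y) (b + (c * w) • y) = 0 := by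
    rw [← h_add_add K e hij hX hY, ← hTe, h_app, h_add_add K e hij ha hb, haa, hbb, add_zero]
  have h1 := app_mem_centres K (M.inv_mem (hv.2 T c hT))
    (hall _ hX _ hY (hN.trans_ne (mul_ne_zero hc0 hne)) hsum)
  rwa [← hTe, app_inv] at h1

/-- Outside the block stabiliser there is a centre meeting two blocks. -/
theorem mixed_or_bstab (hk : 2 ≤ k) (hM : ∀ g, BStab e g → g ∈ M)
    (hmix : ∀ v ∈ centres K M, ∀ i j, i ≠ j → comp e i v ≠ 0 → comp e j v = 0) :
    ∀ g ∈ M, BStab e g := by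
  intro g hg a'
  have himg : ∀ v ∈ bsub e F a', H v v = 0 → ∃ l, app g v ∈ bsub e F l := fun v hv hvv => by
    have hc := app_mem_centres K hg (block_centre K e hM hv hvv)
    by_cases h0 : ∃ l, comp e l (app g v) ≠ 0
    · obtain ⟨l, hl⟩ := h0
      exact ⟨l, mem_of_comp e fun r hr => by_contra fun hr' => hl (hmix _ hc r l hr hr')⟩
    · push Not at h0
      exact ⟨a', mem_of_comp e fun r _ => h0 r⟩
  -- one block for all isotropic vectors
  by_cases hall : ∀ v ∈ bsub e F a', H v v = 0 → v = 0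
  · exfalso
    obtain ⟨y, hy, hy0, hyy⟩ := exists_isotropic_ne K (P := bsub e F a') (by rw [finrank_bsub e a']; exact hk)
    exact hy0 (hall y hy hyy)
  push Not at hall
  obtain ⟨v₀, hv₀, hv₀0, hv₀v₀⟩ : ∃ v₀ ∈ bsub e F a', v₀ ≠ 0 ∧ H v₀ v₀ = 0 := by
    obtain ⟨v, h1, h2, h3⟩ := hall; exact ⟨v, h1, h3, h2⟩
  obtain ⟨l, hl⟩ := himg v₀ hv₀ hv₀v₀
  refine ⟨l, fun v hv => ?_⟩
  have key : ∀ v ∈ bsub e F a', H v v = 0 → app g v ∈ bsub e F l := by
    intro v hv hvv
    obtain ⟨r, hr⟩ := himg v hv hvv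
    rcases eq_or_ne r l with rfl | hrl
    · exact hr
    have h0 : H v v₀ = 0 := by rw [← h_app g, h_disjoint K e hrl hr hl]
    obtain ⟨r', hr'⟩ := himg (v + v₀) ((bsub e F a').add_mem hv hv₀) (by
      rw [h_add_left K, h_add_right K, h_add_right K, hvv, hv₀v₀, h0, h_eq_zero_symm K h0]; ring)
    rw [app_add] at hr'
    have hl0 : app g v₀ ≠ 0 := fun h => hv₀0 (app_injective g (h.trans (app_zero g).symm))
    have hr'l : r' = l := by
      by_contra hne
      have h1 := congrArg (comp e l) (comp_of_mem e hr')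
      rw [comp_of_mem_ne e hne (comp_mem e r' _), comp_add, comp_of_mem_ne e hrl hr, comp_of_mem e hl,
        zero_add] at h1
      exact hl0 h1.symm
    subst hr'l
    exact ((bsub e F r').add_mem_iff_left hl).1 hr'
  by_contra hnot
  obtain ⟨u, -, hu1⟩ := exists_orth_one K hnot
  exact hnot (by
    by_cases hvv : H v v = 0
    · exact key v hv hvv
    obtain ⟨p, hp, hpv, hpp⟩ := exists_aniso_orth_one K (nondeg_bsub K e a') hv
      (Or.inl ⟨by rw [finrank_bsub e a']; exact hk, hvv⟩)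
    obtain ⟨c, hc, hcc⟩ := exists_scaled K hp hpp (s := -(H v v)) (by rw [map_neg, bar_self K])
    have iso : ∀ ζ : F, Circ K ζ → app g (v + ζ • (c • p)) ∈ bsub e F l := fun ζ hζ => by
      have hζ' : ζ * K.bar ζ = 1 := hζ
      refine key _ ((bsub e F a').add_mem hv ((bsub e F a').smul_mem _ hc)) ?_
      have e1 : H v (c • p) = 0 := by rw [h_smul_right K, h_eq_zero_symm K hpv, mul_zero]
      simp only [h_add_left K, h_add_right K, h_smul_left K ζ, h_smul_right K ζ, hcc, e1,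
        h_eq_zero_symm K e1, mul_zero, add_zero, zero_add]
      linear_combination -(H v v) * hζ'
    obtain ⟨ζ, hζ, hζ1⟩ := exists_circ_ne_one K
    have h1 := iso 1 (circ_one K)
    have h2 := iso ζ hζ
    rw [one_smul] at h1
    have h3 : app g (c • p) ∈ bsub e F l := by
      have h4 := (bsub e F l).smul_mem (1 - ζ)⁻¹ ((bsub e F l).sub_mem h1 h2)
      rwa [← app_sub, ← app_smul, show (v + c • p) - (v + ζ • (c • p)) = (1 - ζ) • (c • p) by module,
        smul_smul, inv_mul_cancel₀ (sub_ne_zero.2 (Ne.symm hζ1)), one_smul] at h4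
    rw [app_add] at h1
    exact ((bsub e F l).add_mem_iff_left h3).1 h1)

omit t in
/-- The stabiliser of two blocks is maximal. -/
theorem two_blocks_le_or_top (hn : 4 ≤ n) (hk : 2 ≤ k) (hq : 3 ≤ q) (e : Fin n ≃ Fin 2 × Fin k)
    (hM : ∀ g, BStab e g → g ∈ M) : M = ⊤ ∨ ∀ g ∈ M, BStab e g := by
  by_cases hmix : ∀ v ∈ centres K M, ∀ i j, i ≠ j → comp e i v ≠ 0 → comp e j v = 0
  · exact Or.inr (mixed_or_bstab K e hk hM hmix)
  left
  push Not at hmix
  obtain ⟨v, hv, i, j, hij, hi, hj⟩ := hmix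
  have hsplit : ∀ z : V, comp e i z + comp e j z = z := fun z => funext fun s => by
    show (if (e s).1 = i then z s else 0) + (if (e s).1 = j then z s else 0) = z s
    rcases (by omega : (e s).1 = i ∨ (e s).1 = j) with h | h
    · rw [if_pos h, if_neg (h ▸ hij), add_zero]
    · rw [if_neg (h ▸ hij.symm), if_pos h, zero_add]
  obtain ⟨x₀, hx₀, y₀, hy₀, hne, h₀⟩ : ∃ x ∈ bsub e F i, ∃ y ∈ bsub e F j,
      H x x ≠ 0 ∧ x + y ∈ centres K M := by
    by_cases hii : H (comp e i v) (comp e i v) = 0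
    · have hjj : H (comp e j v) (comp e j v) = 0 := by
        have h := hv.1
        rwa [← hsplit v, h_add_add K e hij (comp_mem e i v) (comp_mem e j v), hii, zero_add] at h
      exact aniso_of_iso K e hq hM hij (comp_mem e i v) (comp_mem e j v) hi hj hii hjj
        (by rw [hsplit v]; exact hv)
    · exact ⟨_, comp_mem e i v, _, comp_mem e j v, hii, by rw [hsplit v]; exact hv⟩
  have hall : ∀ x ∈ bsub e F i, ∀ y ∈ bsub e F j, H x x ≠ 0 → H x x + H y y = 0 →
      x + y ∈ centres K M := fun x hx y hy => aniso_all K e hk hM hij hx₀ hy₀ hne h₀ hx hy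
  refine eq_top_of_centres K hn fun z hz => ?_
  have hzs := hz
  rw [← hsplit z, h_add_add K e hij (comp_mem e i z) (comp_mem e j z)] at hzs
  rw [← hsplit z] at hz ⊢
  rcases eq_or_ne (comp e i z) 0 with h | h
  · rw [h, zero_add] at hz ⊢; exact block_centre K e hM (comp_mem e j z) hz
  rcases eq_or_ne (comp e j z) 0 with h' | h'
  · rw [h', add_zero] at hz ⊢; exact block_centre K e hM (comp_mem e i z) hz
  by_cases hii : H (comp e i z) (comp e i z) = 0
  · exact iso_of_aniso K e hq hM hij hall (comp_mem e i z) (comp_mem e j z) h h' hii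
      (by rwa [hii, zero_add] at hzs)
  · exact hall _ (comp_mem e i z) _ (comp_mem e j z) hii hzs

omit t k in
theorem planes_maximal (hq : 3 ≤ q) {D : Fin 2 → Submodule F (Fin 4 → F)}
    (hD : Cfsg.Geo.IsNondegenerateMDecomposition (hermForm 4 F q) 2 D) :
    Cfsg.Geo.IsMaximalIn (GU 4 F q ⊓ Cfsg.Geo.specialLinear (Fin 4) F)
      (Cfsg.Geo.decompositionStabilizer D ⊓ (GU 4 F q ⊓ Cfsg.Geo.specialLinear (Fin 4) F)) :=
  decomposition_maximal_of_key K le_rfl hD fun e _ hM =>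
    two_blocks_le_or_top K le_rfl le_rfl hq e hM

end CfsgLib.Classical.HermFour
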