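import Cfsg.Agent.Lib.Classical.SUFour.Klein
import Cfsg.Agent.Lib.Classical.SUFour.Decomp
import Cfsg.Agent.Lib.Classical.SLFour.SympFour.Main
import Cfsg.Agent.Lib.Classical.UnitaryConj

set_option autoImplicit false
set_option linter.unusedSectionVars false

/-!
In `SU_4(p)`, `p ≡ 3 (mod 4)`, the normaliser of the group of order 64 of symplectic type is maximal: its image in
`Ω^-_6(p)` is the stabiliser of a frame of six lines.
-/

namespace CfsgLib.Classical.HermFour.Symp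

open Matrix CfsgLib.Pauli Cfsg
open CfsgLib.Classical CfsgLib.Classical.Herm CfsgLib.Orth CfsgLib.Classical.SLFour.SympFour
open CfsgLib.ClassicalAut (Unitary.Conj)
open Cfsg.Geo (matrixSet subgroupNormalizer IsSymplecticTypeGroup ActsAbsolutelyIrreducibly)
open scoped MatrixGroups

variable {F : Type*} [Field F] [Fintype F]

local notation "V6" => ((Fin 2 ⊕ Fin 2) ⊕ Fin 2)

theorem exists_frame {F₀ : Type*} [Field F₀] [Finite F₀] {Q : QuadraticForm F₀ (V6 → F₀)} {ι : F₀ →+* F}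
    {q : ℕ} {em : (V6 → F₀) → (Fin 3 ⊕ Fin 3 → F)} (hB : Nondeg Q) (hinj : Function.Injective em)
    (hadd : ∀ v w, em (v + w) = em v + em w) (hsmul : ∀ (c : F₀) v, em (c • v) = ι c • em v)
    (hQ : ∀ v, Cfsg.quadFormPlus 3 F (em v) = ι (Q v))
    (hre : ∀ x : Fin 3 ⊕ Fin 3 → F, (∀ j, x (.inr j) = (x (.inl j)) ^ q) → ∃ v, em v = x)
    (h2 : (2 : F) ≠ 0) {i : F} (hi : i * i = -1) (hiq : i ^ q = -i) (hq0 : q ≠ 0) :
    ∃ e : Fin 6 → V6 → F₀, (∀ l, em (e l) = sixE i l) ∧ FrameMax.Frame Q e 1 := by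
  classical
  have hfix : ∀ l : Fin 6, ∀ j, sixE i l (.inr j) = (sixE i l (.inl j)) ^ q := by
    intro l j
    fin_cases l <;> fin_cases j <;> simp [sixE, hiq, zero_pow hq0]
  choose e he using fun l => hre _ (hfix l)
  have hq : ∀ l, Cfsg.quadFormPlus 3 F (sixE i l) = 1 := fun l => by
    fin_cases l <;> simp [Cfsg.quadFormPlus, sixE, Fin.sum_univ_three, hi]
  have horth : ∀ l m, l ≠ m → Cfsg.quadFormPlus 3 F (sixE i l + sixE i m) = 2 := fun l m hlm => by
    fin_cases l <;> fin_cases m <;> first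
      | exact absurd rfl hlm
      | (simp [Cfsg.quadFormPlus, sixE, Fin.sum_univ_three, hi]; done)
      | (simp [Cfsg.quadFormPlus, sixE, Fin.sum_univ_three]; ring1)
      | (simp [Cfsg.quadFormPlus, sixE, Fin.sum_univ_three]; linear_combination -hi)
      | (simp [Cfsg.quadFormPlus, sixE, Fin.sum_univ_three]; linear_combination hi)
      | (simp [Cfsg.quadFormPlus, sixE, Fin.sum_univ_three, hi]; ring1)
  have h20 : (2 : F₀) ≠ 0 := fun e0 => h2 (by rw [← map_ofNat ι 2, e0, map_zero])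
  have hQ1 : ∀ l, Q (e l) = 1 := fun l => ι.injective (by rw [← hQ, he, hq, map_one])
  have horth' : ∀ l m, l ≠ m → QuadraticMap.polar (⇑Q) (e l) (e m) = 0 := fun l m hlm => ι.injective (by
    rw [QuadraticMap.polar, map_sub, map_sub, ← hQ, ← hQ, ← hQ, hadd, he, he, hq, hq, horth l m hlm, map_zero]
    ring)
  refine ⟨e, he, hB, h20, one_ne_zero, hQ1, horth', ?_⟩
  refine LinearIndependent.span_eq_top_of_card_eq_finrank ?_ (by simp)
  rw [Fintype.linearIndependent_iff]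
  intro g hg l
  have h1 := congrArg (QuadraticMap.polar (⇑Q) (e l)) hg
  rw [← QuadraticMap.polarBilin_apply_apply, map_sum, Finset.sum_eq_single l (fun j _ hj => by
      rw [map_smul, QuadraticMap.polarBilin_apply_apply, horth' l j hj.symm, smul_zero])
    (fun hl => absurd (Finset.mem_univ l) hl), map_smul, QuadraticMap.polarBilin_apply_apply, b_self, hQ1,
    b_zero_right, smul_eq_mul] at h1
  exact (mul_eq_zero.1 h1).resolve_right (mul_ne_zero h20 one_ne_zero)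

/-- The standard case. -/
theorem isMaximalIn_std {p : ℕ} (hp : p.Prime) (hp4 : p % 4 = 3) (hF : Fintype.card F = p ^ 2) {i : F}
    (hi : i * i = -1) {R : Subgroup (GL (Fin 4) F)} (hRU : R ≤ GU 4 F p) (hS : Spans (std i hi) R)
    (hneg : (-1 : Matrix (Fin 4) (Fin 4) F) ∈ matrixSet R) (him : i • (1 : Matrix (Fin 4) (Fin 4) F) ∈ matrixSet R)
    (hexp : ∀ g ∈ R, g ^ 4 = 1) :
    Cfsg.Geo.IsMaximalIn (GU 4 F p ⊓ Cfsg.Geo.specialLinear (Fin 4) F)
      (subgroupNormalizer R ⊓ (GU 4 F p ⊓ Cfsg.Geo.specialLinear (Fin 4) F)) := by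
  classical
  haveI : Fact p.Prime := ⟨hp⟩
  have hns : ¬ IsSquare (-1 : ZMod p) := fun h => (ZMod.exists_sq_eq_neg_one_iff (p := p)).1 h hp4
  obtain ⟨Q, φ, ι, em, hB, hιq, hinj, hadd, hsmul, hQ, hre, hap, hrange, hker⟩ :=
    KleinSix.exists_klein_minus (F := ZMod p) (K := F) (ZMod.card p) hF 0 1 fun x y hxy => by
      by_cases hy : y = 0
      · subst hy; exact ⟨by simpa using hxy, rfl⟩
      · exact absurd ⟨x / y, by field_simp; linear_combination -hxy⟩ hns
  have hp2 : p ≠ 2 := fun e => by omega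
  haveI : CharP F p := charP_of_injective_ringHom ι.injective p
  have h2 : (2 : F) ≠ 0 := by
    have h : ((2 : ℕ) : F) ≠ 0 := fun e => hp2 (((Nat.prime_dvd_prime_iff_eq hp Nat.prime_two).1
      ((CharP.cast_eq_zero_iff F p 2).1 e)))
    exact_mod_cast h
  have h20 : (2 : ZMod p) ≠ 0 := fun e0 => h2 (by rw [← map_ofNat ι 2, e0, map_zero])
  have hiq : i ^ p = -i := by
    have e1 : i ^ p = i ^ (p % 4) := by
      conv_lhs => rw [← Nat.div_add_mod p 4, pow_add, pow_mul,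
        show i ^ 4 = 1 by linear_combination (i * i - 1) * hi, one_pow, one_mul]
    rw [e1, hp4]
    linear_combination i * hi
  obtain ⟨e, he, h⟩ := exists_frame hB hinj hadd hsmul hQ hre h2 hi hiq hp.ne_zero
  let F₀ := ZMod p
  obtain ⟨hsum, hsig, hsep⟩ := sv_facts
  have hιsg : ∀ x : ZMod 2, ι (sg F₀ x) = sg F x := fun x => by
    rcases (show ∀ z : ZMod 2, z = 0 ∨ z = 1 by decide) x with rfl | rfl
    · rw [sg_zero, sg_zero, map_one]
    · rw [sg_one, sg_one, map_neg, map_one]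
  have hcomp : ∀ (g : SU 4 F p) (x : ZMod 2) (l : Fin 6),
      Klein.comp g.1.1 *ᵥ sixE i l = sg F x • sixE i l → ap (φ g) (e l) = sg F₀ x • e l := fun g x l hg =>
    hinj (by rw [hap, he, hg, hsmul, he, hιsg])
  have hsg : ∀ {x y : ZMod 2}, sg F₀ x = sg F₀ y → x = y := fun {x y} e => by
    have h11 : (-1 : F₀) ≠ 1 := fun e => h20 (by linear_combination -e)
    rcases (show ∀ z : ZMod 2, z = 0 ∨ z = 1 by decide) x with rfl | rfl <;>
      rcases (show ∀ z : ZMod 2, z = 0 ∨ z = 1 by decide) y with rfl | rfl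
    · rfl
    · rw [sg_zero, sg_one] at e; exact absurd e.symm h11
    · rw [sg_zero, sg_one] at e; exact absurd e h11
    · rfl
  -- the scalars of the group
  have hscal : ∀ u : F, u • (1 : Matrix (Fin 4) (Fin 4) F) ∈ matrixSet R → u ^ 4 = 1 := by
    rintro u ⟨g, hg, hg'⟩
    have e := congrArg (fun z : GL (Fin 4) F => (z : Matrix (Fin 4) (Fin 4) F)) (hexp g hg)
    dsimp only at hg'
    simp only [Units.val_pow_eq_pow_val, hg', smul_pow, one_pow, Units.val_one] at e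
    simpa using congrFun₂ e 0 0
  have hdec : ∀ g ∈ R, ∃ (v : Pauli.V) (u : F) (t : ZMod 2), u * u = sg F t ∧
      (g : Matrix (Fin 4) (Fin 4) F) = u • (std i hi).M v ∧ (g : Matrix (Fin 4) (Fin 4) F).det = 1 := by
    intro g hg
    obtain ⟨v, u, hu⟩ := hS.dec g hg
    have hu4 := hscal u (hS.scalar_mem hneg (v := v) (u := u) (hu ▸ ⟨g, hg, rfl⟩))
    have hdet : (g : Matrix (Fin 4) (Fin 4) F).det = 1 := by
      rw [hu, Matrix.det_smul, det_std, Fintype.card_fin, hu4, one_mul]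
    rcases mul_self_eq_one_iff.1 (show (u * u) * (u * u) = 1 by rw [← hu4]; ring) with e | e
    · exact ⟨v, u, 0, by rw [e, sg_zero], hu, hdet⟩
    · exact ⟨v, u, 1, by rw [e, sg_one], hu, hdet⟩
  have hact : ∀ x : ↥(SU 4 F p), toGLHom x ∈ R →
      ∃ v t, ∀ l, ap (φ x) (e l) = sg F₀ (sv v t l) • e l := by
    intro x hx
    obtain ⟨v, u, t, hu, hx', -⟩ := hdec _ hx
    exact ⟨v, t, fun l => hcomp x _ l
      (by rw [show x.1.1 = u • (std i hi).M v from hx', act_std i hi v hu])⟩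
  have hex : ∀ (v : Pauli.V) (t : ZMod 2), ∃ (x : ↥(SU 4 F p)) (u : F),
      toGLHom x ∈ R ∧ x.1.1 = u • (std i hi).M v ∧ u • (1 : Matrix (Fin 4) (Fin 4) F) ∈ matrixSet R ∧
      ∀ l, ap (φ x) (e l) = sg F₀ (sv v t l) • e l := by
    intro v t
    obtain ⟨u, hu, hum⟩ : ∃ u : F, u * u = sg F t ∧ u • (1 : Matrix (Fin 4) (Fin 4) F) ∈ matrixSet R := by
      rcases (show ∀ z : ZMod 2, z = 0 ∨ z = 1 by decide) t with rfl | rfl
      · exact ⟨1, by rw [one_mul, sg_zero], by rw [one_smul]; exact Pauli.mem_one⟩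
      · exact ⟨i, by rw [hi, sg_one], him⟩
    obtain ⟨g, hg, hg'⟩ := Pauli.mem_mul hum (hS.mem_M v)
    dsimp only at hg'
    rw [smul_mul_assoc, one_mul] at hg'
    obtain ⟨-, -, -, -, -, hdet⟩ := hdec g hg
    obtain ⟨s, hs⟩ : ∃ s : ↥(SU 4 F p), s.1.1 = (g : Matrix (Fin 4) (Fin 4) F) :=
      ⟨⟨⟨_, hdet⟩, fun x y => hRU hg x y⟩, rfl⟩
    refine ⟨s, u, ?_, hs.trans hg', hum, fun l => hcomp s _ l ?_⟩
    · rwa [show toGLHom s = g from Units.ext hs]
    · rw [hs.trans hg', act_std i hi v hu]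
  -- the normaliser is the monomial group
  have hiff : ∀ g : ↥(SU 4 F p),
      toGLHom g ∈ subgroupNormalizer R ↔ FrameMax.Mono e (φ g) := by
    intro g
    constructor
    · intro hg l
      obtain ⟨y, hy⟩ : ∃ y, y = ap (φ g) (e l) := ⟨_, rfl⟩
      rw [← hy]
      obtain ⟨m, hm⟩ : ∃ m, FrameMax.co Q e 1 m y ≠ 0 := by
        by_contra hall
        push Not at hall
        exact h.e_ne l (ap_inj (φ g) (y := 0) (by
          rw [← hy, h.eq_zero hall]
          have := ap_smul (φ g) (0 : F₀) (0 : V6 → F₀)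
          simpa using this.symm))
      refine ⟨m, FrameMax.co Q e 1 m y, h.ext fun m' => ?_⟩
      by_cases hmm : m' = m
      · subst hmm; rw [FrameMax.co_smul, h.co_self, mul_one]
      rw [FrameMax.co_smul, h.co_ne hmm, mul_zero]
      by_contra hne
      obtain ⟨v, hv⟩ := hsep m' m hmm
      obtain ⟨x, u, hx, -, -, hxe⟩ := hex v 0
      have hmem : toGLHom (g⁻¹ * x * g) ∈ R := by
        have h1 := (Subgroup.mem_normalizer_iff.1 ((subgroupNormalizer R).inv_mem hg) (toGLHom x)).1 hx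
        simpa [map_mul, map_inv] using h1
      obtain ⟨w, t, hw⟩ := hact _ hmem
      have h1 : ap (φ x) y = sg F₀ (sv w t l) • y := by
        have h2 := congrArg (ap (φ g)) (hw l)
        rwa [← ap_mul, ← map_mul, ← mul_assoc, ← mul_assoc, mul_inv_cancel, one_mul, map_mul, ap_mul, ap_smul,
          ← hy] at h2
      have hA : FrameSix.Acts e (φ x) 1 (fun l => sg F₀ (sv v 0 l)) := fun l =>
        ⟨sg_self F₀ _, by rw [hxe, Equiv.Perm.one_apply]⟩
      have e1 := FrameSix.co_acts h hA m y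
      have e2 := FrameSix.co_acts h hA m' y
      rw [Equiv.Perm.one_apply, h1, FrameMax.co_smul] at e1 e2
      exact hv ((hsg (mul_right_cancel₀ hne e2)).symm.trans (hsg (mul_right_cancel₀ hm e1)))
    · intro hg
      obtain ⟨π, ε, hπε⟩ := FrameSix.acts_of_mono h hg
      refine hS.mem_normalizer hneg fun X hX => ?_
      obtain ⟨w, rfl⟩ : ∃ w, X = (std i hi).M w := by
        rcases hX with rfl | rfl | rfl | rfl
        exacts [⟨_, (std i hi).a_eq⟩, ⟨_, (std i hi).b_eq⟩, ⟨_, (std i hi).c_eq⟩, ⟨_, (std i hi).d_eq⟩]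
      obtain ⟨x, ux, hx, hx', -, hxe⟩ := hex w 0
      obtain ⟨v, t, hvt⟩ := hsig (fun m => sv w 0 (π.symm m)) (by rw [Equiv.sum_comp π.symm (sv w 0)]; exact hsum w 0)
      obtain ⟨z, u, hz, hz', hum, hze⟩ := hex v t
      have hcj : φ (g * x) = φ (z * g) := FrameSix.ext_frame h fun l => by
        rw [map_mul, map_mul, ap_mul, ap_mul, hxe, ap_smul, (hπε l).2, ap_smul, hze,
          congrFun hvt (π l), Equiv.symm_apply_apply, smul_comm]
      obtain ⟨c, hc, hM⟩ := hker _ _ hcj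
      replace hM : g.1.1 * x.1.1 = c • (z.1.1 * g.1.1) := hM
      rw [hx', hz'] at hM
      have hux : ux • (1 : Matrix (Fin 4) (Fin 4) F) ∈ matrixSet R :=
        hS.scalar_mem hneg (v := w) (hx' ▸ ⟨x, hx, rfl⟩)
      obtain ⟨k, hk, hk'⟩ := hux
      have hinv : ux⁻¹ • (1 : Matrix (Fin 4) (Fin 4) F) ∈ matrixSet R := by
        have hux0 : ux ≠ 0 := fun e => by
          have := hscal ux ⟨k, hk, hk'⟩
          rw [e] at this
          simp at this
        refine ⟨k⁻¹, R.inv_mem hk, ?_⟩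
        dsimp only at hk' ⊢
        refine Units.inv_eq_of_mul_eq_one_right ?_
        rw [hk', smul_mul_assoc, one_mul, smul_smul, mul_inv_cancel₀ hux0, one_smul]
      have hcm : c • (1 : Matrix (Fin 4) (Fin 4) F) ∈ matrixSet R := by
        rcases mul_self_eq_one_iff.1 hc with rfl | rfl
        · rw [one_smul]; exact Pauli.mem_one
        · rw [neg_one_smul]; exact hneg
      refine ⟨v, ux⁻¹ * (c * u), ?_, ?_⟩
      · have := Pauli.mem_mul hinv (Pauli.mem_mul hcm hum)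
        simpa only [smul_mul_assoc, one_mul, smul_smul] using this
      · have hux0 : ux ≠ 0 := fun e => by
          have := hscal ux ⟨k, hk, hk'⟩
          rw [e] at this
          simp at this
        rw [mul_smul_comm, smul_mul_assoc, smul_smul] at hM
        show g.1.1 * _ = _ • (_ * g.1.1)
        rw [← smul_smul, ← hM, smul_smul, inv_mul_cancel₀ hux0, one_smul]
  refine ⟨lt_of_le_not_ge inf_le_right fun hle => ?_, fun N hN hN' => ?_⟩
  · obtain ⟨x, hx, hnm⟩ := not_mono h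
    obtain ⟨g, rfl⟩ : x ∈ φ.range := hrange.symm ▸ hx
    exact hnm ((hiff g).1 (hle ((mem_range_iff _).2 ⟨g, rfl⟩)).1)
  have hcore := FrameSix.frame_or_omega (M := (N.comap (toGLHom : SU 4 F p →* GL (Fin 4) F)).map φ) h (fun x hm hx => by
    obtain ⟨g, rfl⟩ : x ∈ φ.range := hrange.symm ▸ hx
    exact ⟨g, hN ⟨(hiff g).2 hm, (mem_range_iff _).2 ⟨g, rfl⟩⟩, rfl⟩) (by rw [Nat.card_zmod]; exact hp) (Or.inr hns)
  rcases hcore with hall | htop
  · refine Or.inl (le_antisymm (fun k hk => ?_) hN)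
    obtain ⟨g, rfl⟩ := (mem_range_iff _).1 (hN' hk)
    exact ⟨(hiff g).2 (hall _ ⟨g, hk, rfl⟩), (mem_range_iff _).2 ⟨g, rfl⟩⟩
  · refine Or.inr (le_antisymm hN' fun k hk => ?_)
    obtain ⟨g, rfl⟩ := (mem_range_iff _).1 hk
    obtain ⟨m, hm, hmg⟩ := htop (show φ g ∈ Cfsg.Omega F₀ ⇑Q by rw [← hrange]; exact ⟨g, rfl⟩)
    obtain ⟨y, hy⟩ : ∃ y, y = m⁻¹ * g := ⟨_, rfl⟩
    have h1 : φ y = 1 := by rw [hy, map_mul, map_inv, hmg, inv_mul_cancel]
    have h5 : toGLHom y ∈ N := hN ⟨(hiff y).2 (by rw [h1]; exact FrameMax.Frame.mono_one),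
      (mem_range_iff _).2 ⟨y, rfl⟩⟩
    have h6 := N.mul_mem hm h5
    rwa [← map_mul, hy, mul_inv_cancel_left] at h6

/-- A basis in which the frame is standard and the form is unchanged. -/
theorem exists_unitary_basis {q : ℕ} (K : Unitary.Conj F q) (h2 : (2 : F) ≠ 0) (f : Pauli.Frame F (Fin 4))
    {i : F} (hi : i * i = -1) (hiq : i ^ q = -i)
    (hf : ∀ v, ∀ x y, hermForm 4 F q (f.M v *ᵥ x) (f.M v *ᵥ y) = hermForm 4 F q x y) :
    ∃ P : GL (Fin 4) F, P ∈ GU 4 F q ∧ ∀ v, f.M v * (P : Matrix (Fin 4) (Fin 4) F) =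
      (P : Matrix (Fin 4) (Fin 4) F) * (std i hi).M v := by
  classical
  obtain ⟨P, hP⟩ := exists_basis h2 f hi
  obtain ⟨T, hT⟩ : ∃ T : Matrix (Fin 4) (Fin 4) F, T = P := ⟨_, rfl⟩
  rw [← hT] at hP
  obtain ⟨B, hB⟩ : ∃ B : Fin 4 → Fin 4 → F, B = fun r s => hermForm 4 F q (T *ᵥ Pi.single r 1) (T *ᵥ Pi.single s 1) :=
    ⟨_, rfl⟩
  have hinv : ∀ v x y, hermForm 4 F q (T *ᵥ ((std i hi).M v *ᵥ x)) (T *ᵥ ((std i hi).M v *ᵥ y)) =
      hermForm 4 F q (T *ᵥ x) (T *ᵥ y) := fun v x y => by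
    rw [Matrix.mulVec_mulVec, Matrix.mulVec_mulVec, ← hP, ← Matrix.mulVec_mulVec, ← Matrix.mulVec_mulVec, hf]
  have hA : ∀ l, A0 F *ᵥ Pi.single l 1 = (![1, -1, 1, -1] : Fin 4 → F) l • (Pi.single l 1 : Fin 4 → F) := fun l => by
    funext s; fin_cases l <;> fin_cases s <;> simp [A0, Matrix.mulVec_single_one]
  have hC : ∀ l, C0 i *ᵥ Pi.single l 1 = (![i, i, -i, -i] : Fin 4 → F) l • (Pi.single l 1 : Fin 4 → F) := fun l => by
    funext s; fin_cases l <;> fin_cases s <;> simp [C0, Matrix.mulVec_single_one]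
  have hb1 : K.bar (-1) = -1 := by rw [map_neg, map_one]
  have hbi : K.bar i = -i := by rw [K.bar_apply, hiq]
  have hdiag : ∀ r s, r ≠ s → B r s = 0 := fun r s hrs => by
    have ea := hinv (1, 0, 0, 0) (Pi.single r 1) (Pi.single s 1)
    have ec := hinv (0, 0, 1, 0) (Pi.single r 1) (Pi.single s 1)
    rw [← Pauli.Frame.a_eq, show (std i hi).a = A0 F from rfl, hA, hA, Matrix.mulVec_smul, Matrix.mulVec_smul,
      h_smul_left K, h_smul_right K] at ea
    rw [← Pauli.Frame.c_eq, show (std i hi).c = C0 i from rfl, hC, hC, Matrix.mulVec_smul, Matrix.mulVec_smul,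
      h_smul_left K, h_smul_right K] at ec
    have hor : (![1, -1, 1, -1] : Fin 4 → F) r * K.bar ((![1, -1, 1, -1] : Fin 4 → F) s) = -1 ∨
        (![i, i, -i, -i] : Fin 4 → F) r * K.bar ((![i, i, -i, -i] : Fin 4 → F) s) = -1 := by
      fin_cases r <;> fin_cases s <;> simp [map_neg, hbi, hi] at hrs ⊢
    rw [hB]
    refine (mul_eq_zero.1 (?_ : (2 : F) * _ = 0)).resolve_left h2
    rcases hor with e | e
    · rw [← mul_assoc, e] at ea; linear_combination -ea
    · rw [← mul_assoc, e] at ec; linear_combination -ec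
  have e1 : B 1 1 = B 0 0 := by
    have e := hinv (0, 1, 0, 0) (Pi.single 0 1) (Pi.single 0 1)
    rw [← Pauli.Frame.b_eq, show (std i hi).b = B0 F from rfl,
      show B0 F *ᵥ Pi.single 0 1 = (Pi.single 1 1 : Fin 4 → F) by
        funext s; fin_cases s <;> simp [B0, Matrix.mulVec_single_one]] at e
    rw [hB]; exact e
  have e2 : B 2 2 = B 0 0 := by
    have e := hinv (0, 0, 0, 1) (Pi.single 0 1) (Pi.single 0 1)
    rw [← Pauli.Frame.d_eq, show (std i hi).d = D0 F from rfl,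
      show D0 F *ᵥ Pi.single 0 1 = (Pi.single 2 1 : Fin 4 → F) by
        funext s; fin_cases s <;> simp [D0, Matrix.mulVec_single_one]] at e
    rw [hB]; exact e
  have e3 : B 3 3 = B 0 0 := by
    have e := hinv (0, 0, 0, 1) (Pi.single 1 1) (Pi.single 1 1)
    rw [← Pauli.Frame.d_eq, show (std i hi).d = D0 F from rfl,
      show D0 F *ᵥ Pi.single 1 1 = (Pi.single 3 1 : Fin 4 → F) by
        funext s; fin_cases s <;> simp [D0, Matrix.mulVec_single_one]] at e
    rw [← e1, hB]; exact e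
  have hBB : ∀ r s, B r s = B 0 0 * (if r = s then 1 else 0) := fun r s => by
    by_cases h : r = s
    · subst h
      rw [if_pos rfl, mul_one]
      fin_cases r
      exacts [rfl, e1, e2, e3]
    · rw [if_neg h, mul_zero, hdiag r s h]
  have hH : ∀ x y, hermForm 4 F q (T *ᵥ x) (T *ᵥ y) = B 0 0 * hermForm 4 F q x y := fun x y => by
    have hx : ∀ z : Fin 4 → F, T *ᵥ z = ∑ r, z r • (T *ᵥ Pi.single r 1) := fun z => by
      simp_rw [← Matrix.mulVec_smul, ← Matrix.mulVec_sum]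
      congr 1
      funext s
      simp [Finset.sum_apply, Pi.single_apply]
    rw [hx x, hx y, HermDecompMax.h_sum_left K, CfsgLib.ClassicalAut.Unitary.herm_apply K, Finset.mul_sum]
    refine Finset.sum_congr rfl fun r _ => ?_
    rw [HermDecompMax.h_sum_right K, Finset.sum_eq_single r (fun s _ hs => by
      rw [h_smul_left K, h_smul_right K, show hermForm 4 F q (T *ᵥ Pi.single r 1) (T *ᵥ Pi.single s 1) = B r s by
        rw [hB], hdiag r s hs.symm, mul_zero, mul_zero]) (by simp),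
      h_smul_left K, h_smul_right K, show hermForm 4 F q (T *ᵥ Pi.single r 1) (T *ᵥ Pi.single r 1) = B r r by
        rw [hB], hBB r r, if_pos rfl]
    ring
  have hb0 : B 0 0 ≠ 0 := fun e => by
    obtain ⟨x, hx⟩ : ∃ x, T *ᵥ x = (Pi.single 0 1 : Fin 4 → F) :=
      ⟨((P⁻¹ : GL (Fin 4) F) : Matrix (Fin 4) (Fin 4) F) *ᵥ Pi.single 0 1, by
        rw [hT, Matrix.mulVec_mulVec, P.mul_inv, Matrix.one_mulVec]⟩
    have := hH x x
    rw [hx, e, zero_mul, h_single_single K, if_pos rfl] at this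
    exact one_ne_zero this
  have hbb : K.bar (B 0 0) = B 0 0 := by rw [hB]; exact bar_self K _
  obtain ⟨c, hc⟩ := K.exists_norm (B 0 0)⁻¹ (by rw [map_inv₀, hbb])
  have hc0 : c ≠ 0 := fun e => inv_ne_zero hb0 (by rw [← hc, e, zero_mul])
  refine ⟨Units.map (Matrix.scalar (Fin 4)).toMonoidHom (Units.mk0 c hc0) * P, fun x y => ?_, fun v => ?_⟩
  · show hermForm 4 F q ((Matrix.scalar (Fin 4) c * P.val) *ᵥ x) ((Matrix.scalar (Fin 4) c * P.val) *ᵥ y) = _
    rw [← hT, Matrix.scalar_apply, ← Matrix.smul_one_eq_diagonal, smul_mul_assoc, one_mul, Matrix.smul_mulVec,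
      Matrix.smul_mulVec, h_smul_left K, h_smul_right K, hH, ← mul_assoc, hc, ← mul_assoc,
      inv_mul_cancel₀ hb0, one_mul]
  · show f.M v * (Matrix.scalar (Fin 4) c * P.val) = Matrix.scalar (Fin 4) c * P.val * _
    rw [← hT, Matrix.scalar_apply, ← Matrix.smul_one_eq_diagonal, smul_mul_assoc, one_mul, mul_smul_comm, hP,
      smul_mul_assoc]

/-- The normaliser of a group of symplectic type is maximal in `SU_4(p)`, `p ≡ 3 (mod 4)`. -/
theorem isMaximalIn_symp {p : ℕ} (hp : p.Prime) (hF : Fintype.card F = p ^ 2) (hp4 : p % 4 = 3)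
    (R : Subgroup (GL (Fin 4) F)) (hs : IsSymplecticTypeGroup 2 R)
    (habs : ActsAbsolutelyIrreducibly (matrixSet R)) (hRU : R ≤ GU 4 F p) (h64 : Nat.card R = 64)
    (hZ : Nat.card (Subgroup.center R) = 4) :
    Cfsg.Geo.IsMaximalIn (GU 4 F p ⊓ Cfsg.Geo.specialLinear (Fin 4) F)
      (subgroupNormalizer R ⊓ (GU 4 F p ⊓ Cfsg.Geo.specialLinear (Fin 4) F)) := by
  classical
  obtain ⟨K⟩ := Herm.exists_conj_of_card hF
  haveI : Fact p.Prime := ⟨hp⟩
  haveI : CharP F p := by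
    obtain ⟨r, hr⟩ := CharP.exists F
    haveI : Fact r.Prime := ⟨CharP.char_is_prime F r⟩
    obtain ⟨k, -, hk⟩ := FiniteField.card F r
    have : r = p := (Nat.prime_dvd_prime_iff_eq (Fact.out) hp).1
      ((Fact.out : r.Prime).dvd_of_dvd_pow (show r ∣ p ^ 2 by rw [← hF, hk]; exact dvd_pow_self r k.ne_zero))
    exact this ▸ hr
  have h2 : (2 : F) ≠ 0 := by
    have h : ((2 : ℕ) : F) ≠ 0 := fun e => by
      have := (Nat.prime_dvd_prime_iff_eq hp Nat.prime_two).1 ((CharP.cast_eq_zero_iff F p 2).1 e)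
      omega
    exact_mod_cast h
  obtain ⟨⟨f, hf⟩, hneg, hi'⟩ :=
    exists_spans h2 (Fintype.card_fin 4) hs habs (z := 4) (by rw [h64]) hZ (Or.inl rfl)
  obtain ⟨i, hi, him⟩ := hi' rfl
  have hiq : i ^ p = -i := by
    have e1 : i ^ p = i ^ (p % 4) := by
      conv_lhs => rw [← Nat.div_add_mod p 4, pow_add, pow_mul,
        show i ^ 4 = 1 by linear_combination (i * i - 1) * hi, one_pow, one_mul]
    rw [e1, hp4]
    linear_combination i * hi
  have hunit : ∀ {X : Matrix (Fin 4) (Fin 4) F}, X ∈ matrixSet R →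
      ∀ x y, hermForm 4 F p (X *ᵥ x) (X *ᵥ y) = hermForm 4 F p x y := by
    rintro _ ⟨g, hg, rfl⟩ x y
    exact hRU hg x y
  obtain ⟨P, hPU, hP⟩ := exists_unitary_basis K h2 f hi hiq fun v => hunit (hf.mem_M v)
  obtain ⟨R₀, hR₀⟩ : ∃ R₀, R₀ = R.map (MulAut.conj P⁻¹).toMonoidHom := ⟨_, rfl⟩
  have hmem : ∀ {X : Matrix (Fin 4) (Fin 4) F}, X ∈ matrixSet R →
      ((P⁻¹ : GL (Fin 4) F) : Matrix (Fin 4) (Fin 4) F) * X * (P : Matrix (Fin 4) (Fin 4) F) ∈ matrixSet R₀ := by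
    rintro X ⟨g, hg, rfl⟩
    exact ⟨(MulAut.conj P⁻¹) g, hR₀ ▸ Subgroup.mem_map_of_mem _ hg, by simp [Matrix.mul_assoc]⟩
  have hM : ∀ v, ((P⁻¹ : GL (Fin 4) F) : Matrix (Fin 4) (Fin 4) F) * f.M v * (P : Matrix (Fin 4) (Fin 4) F) =
      (std i hi).M v := fun v => by
    rw [Matrix.mul_assoc, hP, ← Matrix.mul_assoc, P.inv_mul, Matrix.one_mul]
  have hsc : ∀ c : F, c • (1 : Matrix (Fin 4) (Fin 4) F) ∈ matrixSet R →
      c • (1 : Matrix (Fin 4) (Fin 4) F) ∈ matrixSet R₀ := fun c hc => by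
    have := hmem hc
    rwa [Matrix.mul_smul, Matrix.mul_one, Matrix.smul_mul, P.inv_mul] at this
  have hS : Spans (std i hi) R₀ := by
    have hgen : ∀ v, (std i hi).M v ∈ matrixSet R₀ := fun v => hM v ▸ hmem (hf.mem_M v)
    refine ⟨?_, ?_, ?_, ?_, ?_⟩
    · rw [(std i hi).a_eq]; exact hgen _
    · rw [(std i hi).b_eq]; exact hgen _
    · rw [(std i hi).c_eq]; exact hgen _
    · rw [(std i hi).d_eq]; exact hgen _
    · rw [hR₀]
      rintro _ ⟨g, hg, rfl⟩
      obtain ⟨v, u, hu⟩ := hf.dec g hg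
      refine ⟨v, u, ?_⟩
      rw [← hM]
      simp [hu, Matrix.mul_assoc]
  have hRU₀ : R₀ ≤ GU 4 F p := by
    rw [hR₀]
    rintro _ ⟨g, hg, rfl⟩
    show P⁻¹ * g * P⁻¹⁻¹ ∈ GU 4 F p
    exact (GU 4 F p).mul_mem ((GU 4 F p).mul_mem ((GU 4 F p).inv_mem hPU) (hRU hg))
      ((GU 4 F p).inv_mem ((GU 4 F p).inv_mem hPU))
  have hmax := isMaximalIn_std hp hp4 hF hi hRU₀ hS
    (by have := hsc (-1) (by rw [neg_one_smul]; exact hneg); rwa [neg_one_smul] at this) (hsc i him) (by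
      rw [hR₀]
      rintro _ ⟨g, hg, rfl⟩
      have hx : (⟨g, hg⟩ : R) ^ 4 = 1 := by
        have := Monoid.pow_exponent_eq_one (⟨g, hg⟩ : R)
        rwa [hs.exponent_eq, show 2 * Nat.gcd 2 2 = 4 from rfl] at this
      rw [← map_pow, show g ^ 4 = 1 from congrArg Subtype.val hx, map_one])
  have hconj := CfsgLib.Classical.MinIndex.Subfield.isMaximalIn_map hmax (MulAut.conj P)
  have hL : ∀ g ∈ GU 4 F p ⊓ Cfsg.Geo.specialLinear (Fin 4) F, ∀ c ∈ GU 4 F p,
      c * g * c⁻¹ ∈ GU 4 F p ⊓ Cfsg.Geo.specialLinear (Fin 4) F := fun g hg c hc =>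
    ⟨(GU 4 F p).mul_mem ((GU 4 F p).mul_mem hc hg.1) ((GU 4 F p).inv_mem hc),
      (MonoidHom.normal_ker _).conj_mem g hg.2 c⟩
  have hK : (GU 4 F p ⊓ Cfsg.Geo.specialLinear (Fin 4) F).map (MulAut.conj P).toMonoidHom =
      GU 4 F p ⊓ Cfsg.Geo.specialLinear (Fin 4) F := by
    refine le_antisymm ?_ fun g hg => ⟨P⁻¹ * g * P⁻¹⁻¹, hL g hg P⁻¹ (inv_mem hPU), by simp [mul_assoc]⟩
    rintro _ ⟨g, hg, rfl⟩
    exact hL g hg P hPU
  have hback : R₀.map (MulAut.conj P).toMonoidHom = R := by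
    rw [hR₀, Subgroup.map_map, show (MulAut.conj P).toMonoidHom.comp (MulAut.conj P⁻¹).toMonoidHom = MonoidHom.id _
      from MonoidHom.ext fun x => by simp [mul_assoc], Subgroup.map_id]
  rwa [Subgroup.map_inf (subgroupNormalizer R₀) _ _ (MulAut.conj P).injective, hK, subgroupNormalizer,
    Subgroup.map_equiv_normalizer_eq, hback] at hconj

end CfsgLib.Classical.HermFour.Symp
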